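import Cfsg.Agent.Lib.HN.Defs

/-! Words reaching the second double coset from each representative. -/

set_option autoImplicit false

namespace Cfsg.Lib.HN.Top

/-- Segments of the words. -/
def primSegs : List (List (List Nat)) := [
  [],
  [[3]],
  [[6, 2, 0, 3], [4, 4, 1, 4, 2], [6, 4, 2, 3], [0, 0, 5, 0, 4, 4], [6, 2, 0, 3]],
  [[6, 2, 3], [4, 4, 2, 0, 4, 2, 5, 0, 1, 1, 4], [6, 2, 3]],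
  [[6, 4, 2, 5, 4, 5, 2, 3], [1, 0, 1], [6, 2, 1, 0, 1, 2, 0, 3]],
  [[6, 2, 1, 0, 1, 2, 5, 4, 5, 5, 0, 5, 0, 5, 0, 1, 1, 0, 1, 0, 5, 5, 0, 1, 6, 2, 1, 0, 1, 2, 0, 3], [5, 4, 2, 5, 0], [6, 2, 1, 0, 1, 2, 5, 4, 5, 5, 0, 5, 0, 5, 0, 1, 1, 0, 1, 0, 5, 5, 0, 1, 6, 2, 1, 0, 1, 2, 0, 3]],
  [[6, 5, 5, 4, 1, 4, 5, 5, 4, 1, 1, 4, 1, 1, 4, 5, 5, 4, 1, 0, 5, 2, 5, 5, 2, 1, 2, 5, 3], [0, 2, 5, 4, 1], [6, 5, 5, 4, 1, 4, 5, 5, 4, 1, 1, 4, 1, 1, 4, 5, 5, 4, 1, 0, 5, 2, 5, 5, 2, 1, 2, 5, 3]],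
  [[6, 2, 5, 2, 4, 6, 2, 3], [2], [6, 2, 3, 0, 2, 1, 2, 3]],
  [[6, 2, 3, 0, 2, 1, 2, 3, 4, 5, 4, 1, 4, 1, 4, 1, 0, 1, 1, 2, 5, 2, 1, 3], [5, 5, 2, 0, 0, 4, 5], [6, 2, 3, 0, 2, 1, 2, 3, 4, 5, 4, 1, 4, 1, 4, 1, 0, 1, 1, 2, 5, 2, 1, 3]]]

end Cfsg.Lib.HN.Top
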