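import Cfsg.Agent.Lib.HN.Models
import Cfsg.Agent.Lib.HN.Engine

/-! Generated certificate. -/

set_option autoImplicit false
set_option maxRecDepth 100000
set_option maxHeartbeats 0
set_option Elab.async false

namespace Cfsg.Lib.HN.Top

open Cfsg.Lib.CosetEnum (Tab)

open Cfsg.Lib.HN

/-- The deduction system. -/
noncomputable def sys : Sys where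
  P := ModelP.tabP
  base := [0, 139, 1233, 1258]
  S := [0, 1, 2, 4, 5]
  tw := [([1], [1]), ([4, 1, 0], [4, 1, 0])]
  T := [3, 6]
  ρ := [[],
    [3],
    [6, 2, 0, 3],
    [6, 2, 3],
    [6, 2, 1, 0, 1, 2, 0, 3],
    [6, 2, 1, 0, 1, 2, 5, 4, 5, 5, 0, 5, 0, 5, 0, 1, 1, 0, 1, 0, 5, 5, 0, 1, 6, 2, 1, 0, 1, 2, 0, 3],
    [6, 1, 2, 5, 2, 1, 1, 2, 1, 4, 5, 0, 1, 1, 0, 5, 5, 0, 5, 5, 0, 1, 1, 0, 5, 0, 1, 1, 3],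
    [6, 2, 5, 2, 4, 6, 2, 3],
    [6, 5, 2, 1, 2, 5, 5, 4, 5, 0, 5, 0, 5, 0, 1, 0, 6, 2, 5, 2, 4, 6, 2, 3]]
  R := [[3, 3, 3, 3, 3],
    [2, 3, 2, 3, 2, 3],
    [4, 3, 0, 3, 3],
    [0, 3, 4, 6, 6],
    [0, 0, 3, 4, 4, 3],
    [2, 0, 0, 6, 6, 2, 0, 0, 6, 6, 2, 0, 0, 6, 6]]

/-- The derivation. -/
def entries : List Entry :=
  [.base 0,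
   .base 1,
   .base 2,
   .define 3 0 [] 1,
   .conj 0 [0] [2] [1] [1],
   .conj 0 [2] [1, 2, 0] [4, 1, 0] [4, 1, 0],
   .gap 3 2 false ⟨0, [], []⟩ [.use 0 false [] [],
      .norm [] [],
      .app 0] [.app 0,
      .use 0 false [] [0],
      .norm [] [0]] [] [0],
   .gap 4 0 false ⟨0, [], []⟩ [.use 0 false [] [],
      .norm [] [],
      .app 4,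
      .app 4] [.app 4,
      .app 4] [0, 0] [],
   .gap 1 0 false ⟨0, [], []⟩ [.use 0 false [] [],
      .norm [] [],
      .app 2] [.app 2,
      .use 2 true [] [4, 0, 0],
      .norm [0, 0] [2, 0, 0],
      .app 2] [2, 0, 0] [2, 0, 0],
   .gap 2 2 false ⟨0, [], []⟩ [.use 0 false [] [],
      .norm [] [],
      .app 4] [.app 4,
      .use 2 true [] [0],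
      .norm [0, 0] [0]] [0, 0] [0],
   .gap 2 4 false ⟨0, [], []⟩ [.use 0 false [] [],
      .norm [] [],
      .app 0] [.use 2 true [] [0, 0],
      .norm [0, 0] [0, 0],
      .app 0] [4] [0, 0],
   .define 6 1 [2, 0] 2,
   .conj 6 [1, 2, 2, 1, 0, 1, 3] [3, 0, 0, 3, 1] [5, 0, 1, 1, 0, 5, 0, 5, 0] [0, 5, 0, 1, 1, 0, 5, 0, 5],
   .conj 6 [3, 3, 2, 3, 2, 0, 0, 2, 3, 2, 3, 3, 1] [1, 2, 2, 1, 3] [0, 5, 0, 1, 1, 0, 5, 0, 5] [5, 0, 1, 1, 0, 5, 0, 5, 0],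
   .conj 6 [0, 0, 1, 1, 1, 0, 1, 2, 1, 1, 2, 1] [1, 2, 1, 1, 2, 1] [5, 0, 1, 0, 5, 5, 0, 1, 0, 5] [5, 0, 1, 0, 5, 5, 0, 1, 0, 5],
   .gap 5 0 false ⟨0, [], []⟩ [.use 2 true [] [0, 0],
      .norm [0, 0] [0, 0],
      .use 4 true [] [],
      .norm [4] [0],
      .app 0,
      .app 0,
      .app 2,
      .use 6 false [] [],
      .norm [] [0]] [.app 2,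
      .app 4,
      .app 4,
      .use 0 false [] [4, 0, 0],
      .norm [] [2, 0, 0],
      .use 1 true [] [],
      .norm [0] [2, 4],
      .app 2,
      .app 4,
      .app 4] [2, 4] [2, 0, 0],
   .loop 1 0 false ⟨2, [], []⟩ [.use 6 true [] [],
      .norm [2, 0] [],
      .app 2,
      .use 5 false [] [],
      .norm [4] [0, 0],
      .app 2,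
      .use 7 true [] [],
      .norm [] [2],
      .app 2] [2] [2],
   .loop 4 0 false ⟨2, [], []⟩ [.use 6 true [] [],
      .norm [2, 0] [],
      .app 4,
      .app 4,
      .use 7 true [] [],
      .norm [] [2, 0, 0],
      .app 0,
      .app 0] [0, 0] [2, 0, 0],
   .define 6 1 [2] 3,
   .conj 8 [1, 3, 2, 1, 1, 3, 3, 3, 1, 1, 1] [0, 0, 0, 2, 2, 2, 0, 0, 0] [1, 1, 1, 4, 1, 1, 1, 0, 1, 1, 1] [1, 1, 1, 4, 1, 1, 1, 0, 1, 1, 1],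
   .conj 8 [3, 3, 1, 1, 3, 0, 0, 1, 0, 2, 0, 2, 3, 3] [3, 3, 1, 1, 3, 0, 0, 2, 0, 3] [0, 5, 5, 0, 5, 5, 0, 5, 0, 1, 1, 0, 1, 0, 1, 0, 5, 0] [0, 5, 5, 0, 5, 5, 0, 5, 0, 1, 1, 0, 1, 0, 1, 0, 5, 0],
   .gap 1 1 true ⟨1, [0], []⟩ [.use 1 false [] [],
      .norm [] [0],
      .app 2,
      .use 8 false [] [],
      .norm [] [0],
      .app 2] [.app 2] [2, 0] [4],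
   .gap 5 4 false ⟨1, [0], []⟩ [.use 1 false [] [],
      .norm [] [0],
      .app 0,
      .app 0,
      .app 2,
      .use 3 true [] [],
      .norm [2] [2, 4],
      .use 8 false [] [],
      .norm [] [2, 4],
      .app 0,
      .app 0,
      .app 2] [.use 5 false [] [],
      .norm [4] [0, 0],
      .app 2,
      .app 4,
      .app 4,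
      .use 9 true [] [],
      .norm [2] [4]] [2] [2],
   .gap 3 0 false ⟨1, [2, 0, 0], []⟩ [.use 3 true [] [],
      .norm [2] [2, 0, 0],
      .use 8 false [] [],
      .norm [] [2, 0, 0],
      .app 4] [.app 4] [2, 4] [2, 0, 0],
   .gap 3 2 false ⟨1, [2, 0, 0], []⟩ [] [.app 0,
      .use 9 true [] [],
      .norm [2] [0],
      .use 10 true [] [],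
      .norm [2, 0, 0] [2, 0],
      .app 4] [2, 4] [2, 0],
   .gap 3 2 true ⟨1, [2, 0, 0], []⟩ [.use 12 false [] [],
      .norm [2, 4] [2, 0]] [.app 4,
      .use 7 true [] [],
      .norm [] [2, 0, 0],
      .app 0] [0] [4],
   .gap 5 2 true ⟨1, [2, 0, 0], []⟩ [.use 12 false [] [],
      .norm [2, 4] [2, 0],
      .use 13 false [] [],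
      .norm [0] [2, 0, 0],
      .app 2,
      .app 4,
      .app 4] [.app 0,
      .app 0,
      .app 2,
      .use 0 true [] [],
      .norm [] [],
      .use 2 true [] [0, 0],
      .norm [0, 0] [0, 0],
      .app 0,
      .app 0,
      .app 2,
      .use 8 false [] [],
      .norm [] [0, 0]] [] [2],
   .loop 0 0 false ⟨3, [4], []⟩ [.use 11 false [] [],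
      .norm [2, 4] [2, 0, 0],
      .use 7 true [] [],
      .norm [] [],
      .use 6 true [] [],
      .norm [2, 0] [],
      .use 9 true [] [],
      .norm [2] [0],
      .use 10 true [] [],
      .norm [2, 0, 0] [2, 0]] [2, 0] [2, 0],
   .define 6 1 [2, 1, 0, 1, 2, 0] 4,
   .conj 15 [1, 1, 3, 2, 0, 3, 3, 1] [3, 1, 1, 3] [5, 4, 5, 5, 0, 5] [0, 5, 0, 5, 5, 0, 5, 0],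
   .conj 15 [3, 0, 0, 0, 0, 3] [3, 1, 3, 1, 1, 3, 0, 2] [0, 5, 0, 5, 5, 0, 5, 0] [1, 0, 1, 0, 1, 0, 1, 0, 5, 0, 5, 0, 1, 0, 1, 0],
   .conj 15 [2, 3, 2, 0, 2, 0] [0, 2, 2, 0, 2, 0, 3, 1] [5, 0, 5, 0, 5, 0, 5, 0] [1, 4, 1, 1, 0, 1, 0, 1, 0, 1, 0, 5, 0, 5],
   .gap 1 0 false ⟨1, [1, 0, 1, 2, 5, 4, 5, 0, 1, 1, 1, 0, 1, 0, 1, 0], []⟩ [.use 12 false [2, 0] [1, 2, 2, 0, 2],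
      .norm [1, 0, 1, 2, 5, 0, 5, 0, 1, 0, 1, 0] [2, 0, 5, 0, 1, 1, 0, 1, 0, 1, 0],
      .app 2] [.app 2,
      .use 15 false [2, 0] [3, 1, 1, 2, 2, 0, 2],
      .norm [4, 1, 0, 1] [4, 5, 0, 5, 5, 0, 1, 1, 0, 1, 0, 1, 0],
      .app 2] [2, 4, 1, 0, 1] [1, 0, 1, 2, 5, 4, 5, 0, 5, 0, 5, 0],
   .gap 1 1 true ⟨1, [1, 0, 1, 2, 5, 4, 5, 0, 1, 1, 1, 0, 1, 0, 1, 0], []⟩ [.use 3 true [2, 0] [1, 2, 2, 0, 2],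
      .norm [1, 0, 1, 2, 5, 4, 5, 0, 1, 0, 1] [2, 5, 4, 1, 1, 0, 1, 0, 1, 0],
      .app 2,
      .use 15 false [] [3, 1, 2, 0],
      .norm [] [2, 0, 5, 0, 5, 0, 1, 1, 1, 0, 1, 0, 1, 0],
      .app 2] [.app 2] [2, 1, 0, 1, 2, 5, 4, 5, 0, 1, 1, 1, 0, 1, 0, 1, 0] [2, 0, 5, 0, 5, 0, 1, 1, 1, 0, 1, 0, 1, 0],
   .gap 1 1 true ⟨1, [5, 0, 1, 1, 2, 5, 5, 0, 1, 0, 1, 0, 5, 0, 5, 0, 1], []⟩ [.use 8 false [3, 0, 0] [3, 1, 2, 2, 1],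
      .norm [4, 5, 0, 1, 1] [0, 5, 0, 5, 0, 1, 1, 0, 5],
      .app 2] [.app 2,
      .use 17 true [0, 3, 0, 1, 3] [3, 1, 3, 1, 2, 1, 3, 0],
      .norm [5, 0, 1, 1, 2, 5, 5, 4, 1, 1, 0, 5, 5, 0] [2, 0, 5, 0, 5, 0, 1, 0, 1, 0, 5, 5, 0, 1],
      .app 2] [2, 5, 0, 1, 1, 2, 5, 5, 4, 1, 1, 0, 5, 5, 0] [2, 5, 4, 1, 0, 5, 5, 0, 1, 1, 0],
   .gap 1 0 false ⟨1, [5, 2, 1, 4, 1, 0, 1, 1, 1, 0, 5, 0, 5, 0], []⟩ [.use 7 true [1] [2, 0, 2, 2, 2, 1, 3],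
      .norm [5] [2, 0, 1, 0, 1, 0, 1, 1, 1, 0, 5, 0, 5, 0],
      .app 2] [.app 2,
      .use 15 false [2, 2, 0, 0, 2, 0, 0, 0] [0, 3, 3, 1, 2, 1, 1, 2, 0, 0, 3, 1, 2, 1],
      .norm [0, 1, 1, 0, 1, 1, 0, 1, 0, 1, 1, 1] [5, 0, 1, 1, 0, 1, 0, 5, 0, 5, 5, 0, 5, 0, 1, 1, 0, 1, 1, 1, 0, 5],
      .app 2] [2, 0, 1, 1, 0, 1, 1, 0, 1, 0, 1, 1, 1] [0, 1, 1, 1, 2, 5, 4, 1, 1, 0, 1, 0, 1, 1, 0, 1, 0, 5, 0, 5, 5, 0, 1, 1, 0, 5, 5, 0, 1],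
   .gap 1 1 true ⟨1, [5, 2, 1, 4, 1, 0, 1, 1, 1, 0, 5, 0, 5, 0], []⟩ [.use 11 true [1] [2, 0, 2, 2, 2, 1, 3],
      .norm [5, 4] [2, 0, 1, 0, 1, 0, 1, 1, 1, 0, 5, 0, 5, 0],
      .app 2] [.app 2,
      .use 17 true [2, 2, 0, 0, 2, 0, 0, 0, 1, 3] [1, 2, 0, 2, 1, 3, 3, 1, 3, 0, 2, 2, 1],
      .norm [5, 2, 1, 4, 1, 1, 0, 1, 1, 0, 1, 0, 1, 1, 0, 5, 0] [2, 1, 4, 1, 1, 0, 5, 0, 1, 0, 1, 0, 1, 0, 5, 0, 5, 5, 0, 1, 1, 1],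
      .app 2] [2, 5, 2, 1, 4, 1, 1, 0, 1, 1, 0, 1, 0, 1, 1, 0, 5, 0] [5, 0, 5, 5, 2, 0, 5, 2, 5, 5, 0, 1, 1, 0, 1, 1, 0, 5, 0, 1, 0, 1, 1, 0, 5, 0, 5, 0, 1, 0, 1],
   .gap 1 0 false ⟨1, [1, 1, 1, 2, 1, 4, 1, 1, 0, 1, 0], []⟩ [.use 9 true [0, 0, 0] [2, 0, 0, 2],
      .norm [1, 1, 1, 2] [1, 4, 1, 1, 0, 1, 0],
      .app 2] [.app 2,
      .use 15 false [0, 0, 0] [1, 2, 1, 1, 2, 1, 1, 2, 2],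
      .norm [1, 1, 1] [5, 4, 1, 0, 5, 5, 0, 1, 0, 5, 5, 0, 1, 1, 0],
      .app 2] [2, 1, 1, 1] [1, 4, 5, 0, 1, 1, 0, 5, 0, 1, 1, 0, 5, 5],
   .gap 1 1 true ⟨1, [1, 1, 1, 2, 1, 4, 1, 1, 0, 1, 0], []⟩ [.use 6 false [0, 0, 0] [2, 0, 0, 2],
      .norm [1, 1, 1] [0, 1, 0, 1, 1, 0, 1, 0],
      .app 2] [.app 2,
      .use 17 true [0, 0, 0, 1, 3] [3, 0, 0, 2, 2, 1, 1, 3, 1, 2, 2],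
      .norm [1, 0, 1, 2, 5, 4, 1, 0, 5, 0] [2, 4, 1, 1, 0, 5, 0, 1, 0, 1, 1, 0, 1, 0, 1, 0, 1, 0],
      .app 2] [2, 1, 0, 1, 2, 5, 4, 1, 0, 5, 0] [2, 4, 1, 1, 0, 5, 0, 1, 0, 1, 1, 0, 1, 0, 5, 0, 5, 0],
   .gap 2 4 false ⟨1, [2, 1, 0, 1, 2, 0], []⟩ [.use 17 true [1, 3] [3, 1, 3, 3, 0, 0, 2],
      .norm [1, 0, 1, 2, 5, 4, 5, 5, 0, 5, 0] [2, 0, 5, 0, 5, 0, 1, 0, 1, 1, 0, 1, 0],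
      .app 0] [.use 15 false [] [],
      .norm [] [],
      .app 0] [0] [1, 0, 1, 2, 5, 0, 5, 0, 5, 0, 5, 5, 0, 5, 0, 1, 0, 1, 0],
   .gap 1 1 true ⟨3, [2, 1, 0, 1, 1, 2, 5, 0, 1, 1, 0, 1, 1, 0, 1, 0, 1, 0, 5, 0, 5, 5, 0], []⟩ [.use 18 false [2, 0, 2, 2, 2, 0, 1, 1, 1, 3, 3, 1, 3, 3, 3] [3, 4, 3, 0, 4, 2, 0, 4, 2],
      .norm [2, 1, 0, 1, 1, 2, 5, 5, 0, 5, 5, 0, 5, 0, 5, 5, 0, 1, 0, 5, 0, 5] [2, 1, 0, 1, 2, 4, 5, 5, 0, 5, 0, 1, 1, 1, 0, 5, 5, 0, 1, 0, 5, 5],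
      .app 2] [.app 2,
      .use 16 false [0, 2, 2, 2, 0, 0, 3, 0, 0, 3, 1, 2] [0, 4, 3, 4, 2, 2, 4, 2, 2],
      .norm [1, 0, 1, 1, 2, 1, 0, 1, 1, 0, 1, 0, 5, 0, 5, 0, 1, 1, 1] [0, 1, 1, 0, 1, 0, 5, 0, 5, 0, 1, 0, 1, 1, 0, 1, 0, 1],
      .app 2] [2, 1, 0, 1, 1, 2, 1, 0, 1, 1, 0, 1, 0, 5, 0, 5, 0, 1, 1, 1] [0, 1, 2, 0, 1, 2, 4, 1, 1, 1, 0, 5, 0, 1, 0, 1, 0, 5, 0, 5, 5, 0, 1, 1, 0],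
   .gap 1 1 true ⟨3, [1, 0, 5, 0, 1, 1, 1, 2, 1, 1, 4, 5, 5, 0, 1, 0, 5, 5, 0, 5, 0, 1, 0, 1, 0, 1, 1, 0], []⟩ [] [.app 2,
      .use 21 false [0, 3, 0, 2, 0, 3, 1, 3, 3, 1, 1, 3, 1, 1, 2] [3, 0, 4, 3, 0, 3, 0, 4, 3],
      .norm [1, 0, 5, 0, 1, 0, 1, 1, 2, 0, 5, 0, 5, 5, 0, 1, 0, 1, 1, 0, 5, 5, 0, 5, 5, 0, 1] [1, 1, 0, 5, 0, 5, 5, 0, 1, 0, 1, 0, 5, 0, 5, 5, 0, 1, 1],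
      .app 2,
      .use 20 true [0, 3, 0, 2, 0, 3, 1, 2] [4, 2, 1, 1, 2],
      .norm [1, 0, 5, 0, 1, 1, 1, 2, 0, 5, 5, 0, 1, 0, 1, 0, 5, 0, 5] [1, 2, 5, 2, 5, 0, 5, 5, 0, 1, 0, 1, 1, 0, 5, 5, 0, 1, 1, 0, 1, 0, 5, 5, 0, 5],
      .app 2] [2, 1, 0, 5, 0, 1, 1, 1, 2, 0, 5, 5, 0, 1, 0, 1, 0, 5, 0, 5] [1, 2, 5, 2, 5, 0, 5, 5, 0, 1, 0, 1, 1, 0, 5, 5, 0, 1, 1, 0, 1, 0, 5, 5, 0, 5],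
   .gap 1 1 true ⟨3, [2, 5, 0, 1, 0, 1, 0, 5, 0, 5, 0, 1, 0, 1, 1, 0, 1, 1, 0], []⟩ [.use 25 false [0, 3, 0, 2, 0, 3, 1, 1, 2, 0, 0, 3, 3, 1] [2, 4, 0, 2, 0, 3, 0, 4],
      .norm [5, 2, 1, 2, 0, 5, 0, 5, 0, 5, 5, 0, 1, 1, 0, 1, 1, 0, 1, 1, 0, 5] [1, 2, 5, 2, 5, 0, 1, 1, 0, 1, 0, 5, 5, 0, 1, 0, 5, 5, 0, 5, 0, 1, 0, 1, 1, 1],
      .app 2] [.app 2,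
      .use 8 true [0, 3, 0, 2, 2] [0, 4, 3, 0, 3, 4],
      .norm [1, 0, 5, 0, 1, 0, 1, 1, 2, 4] [5, 0, 5, 0, 1, 1, 1, 0, 1, 0, 1, 1, 0, 5, 5, 0, 5, 0, 5, 0],
      .app 2] [2, 1, 0, 5, 0, 1, 0, 1, 1, 2, 4] [2, 0, 5, 5, 2, 4, 1, 1, 0, 5, 5, 0, 5, 5, 0, 5, 5, 0, 1, 0, 5, 5, 0, 5, 5],
   .gap 1 0 false ⟨3, [2, 5, 2, 4], []⟩ [.use 25 true [1, 1, 2, 0, 0, 3, 3, 1] [3, 0, 2, 0, 2, 4, 0, 2, 0, 4],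
      .norm [5, 2, 5, 0, 1, 0, 1, 0, 5, 5, 0, 1, 0, 5, 5, 0, 5, 5, 0, 1, 0] [2, 5, 2, 0, 1, 0, 5, 5, 0, 5, 5, 0, 5, 0, 1, 0, 1, 0, 5, 0, 5],
      .app 2] [.app 2,
      .use 12 true [1] [],
      .norm [5, 2, 0, 0] [2, 0],
      .app 2] [2, 5, 2, 0, 0] [2, 1, 2, 5, 2, 5, 4, 5, 0, 5, 0, 5, 5, 0, 5, 5, 0, 5, 5, 0, 1, 0, 5],
   .loop 2 2 false ⟨4, [1, 1, 0, 1, 1, 0, 1, 0, 5, 5, 0, 1], []⟩ [.use 15 true [0, 0, 3, 0, 0, 3, 1, 2] [1, 2, 0, 3],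
      .norm [2, 0, 5, 2, 4, 1, 1, 1, 0, 5, 0, 5, 0, 1, 0, 1, 1, 1, 0, 1, 0, 1, 1, 0, 5] [0, 1, 0, 1, 1, 0, 5, 0, 1, 1, 0, 1, 1, 0, 1, 1, 0, 5, 5, 0],
      .app 4,
      .use 26 true [0, 0, 2, 2, 0, 2, 2, 1, 1, 2, 2, 0, 2, 1, 3, 3] [2, 1, 3, 1, 2, 0, 3, 1, 1, 2, 0, 3],
      .norm [2, 5, 2, 1, 2, 0, 5, 0, 1, 1, 0, 5, 0, 5, 0, 1, 0, 1, 1, 0, 1] [1, 2, 5, 2, 1, 0, 1, 1, 0, 1, 0, 1, 1, 0, 1, 0, 5, 0, 5, 0, 5, 0, 1],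
      .use 16 false [2, 2, 1, 3, 0, 2, 1, 1, 0, 0, 3, 0, 0, 3, 1, 2] [4, 2, 2, 4, 2, 0, 2, 4, 0, 3],
      .norm [2, 5, 2, 1, 2, 5, 4, 5, 0, 5, 0, 1, 0, 1, 1, 0, 5, 5, 0, 1, 1, 0, 1, 1] [2, 1, 0, 1, 2, 4, 5, 0, 1, 1, 1, 0, 1, 1, 0, 5, 5],
      .app 0] [1, 0, 1, 2, 5, 4, 5, 5, 0, 5, 5, 0, 5, 5, 0, 5, 0, 1, 0, 1] [2, 1, 0, 1, 2, 4, 5, 0, 1, 1, 1, 0, 1, 1, 0, 5, 5],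
   .gap 2 4 false ⟨4, [1, 1, 0, 1, 1, 0, 1, 0, 5, 5, 0, 1], []⟩ [.use 15 true [0, 0, 3, 0, 0, 3, 1, 2] [1, 2, 0, 3],
      .norm [2, 0, 5, 2, 4, 1, 1, 1, 0, 5, 0, 5, 0, 1, 0, 1, 1, 1, 0, 1, 0, 1, 1, 0, 5] [0, 1, 0, 1, 1, 0, 5, 0, 1, 1, 0, 1, 1, 0, 1, 1, 0, 5, 5, 0],
      .app 0,
      .use 26 true [2, 2, 0, 3, 1, 1, 2, 2, 0, 2, 1, 3, 3] [3, 0, 0, 2, 2, 0, 2, 1, 3, 3, 1, 2, 2, 0, 0],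
      .norm [5, 2, 5, 5, 4, 1, 1, 0, 1, 1, 0, 5, 0, 1, 0, 1, 0, 5, 5, 0, 5, 0] [1, 2, 5, 2, 0, 1, 1, 0, 5, 5, 0, 5, 0, 1, 1, 0, 5, 0, 1, 0, 1, 1, 0, 5],
      .app 4] [] [1, 1, 0, 1, 1, 0, 1, 0, 5, 5, 0, 1] [2, 1, 0, 1, 2, 5, 5, 0, 5, 0, 1, 0, 1, 1, 1, 0, 5, 0, 5, 0, 1, 1, 1, 0, 1, 0, 1, 1],
   .gap 3 0 false ⟨4, [1, 1, 0, 1, 1, 0, 1, 0, 5, 5, 0, 1], []⟩ [.use 28 true [] [],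
      .norm [0, 5, 2, 5, 5, 0, 1, 1, 0, 1, 1, 0, 5, 0, 1, 0, 1, 0, 5, 5, 0, 5, 0] [1, 2, 5, 2, 0, 1, 1, 0, 5, 5, 0, 5, 0, 1, 1, 0, 5, 0, 1, 0, 1, 1, 0, 5]] [.app 4,
      .use 16 true [2, 2, 0, 0, 2, 0, 0, 0] [7, 0],
      .norm [2, 5, 2, 0, 5, 5, 0, 1, 0, 1, 0, 1, 1, 1, 0, 1, 0, 1, 0, 5, 0, 5, 0, 5, 0] [1, 0, 1, 2, 5, 4, 5, 0, 5, 0, 5, 0, 1, 0, 1, 1, 0, 1, 0],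
      .app 0] [2, 0, 5, 2, 4, 5, 5, 0, 1, 0, 1, 0, 1, 1, 1, 0, 1, 0, 1, 0, 5, 0, 5, 0, 5, 0] [2, 4, 5, 0, 1, 0, 1, 1, 0, 1, 0, 1, 1, 0, 1, 1, 1, 0, 1, 0, 1, 0, 1],
   .loop 3 2 false ⟨4, [1, 1, 0, 1, 1, 0, 1, 0, 5, 5, 0, 1], []⟩ [.use 15 true [0, 0, 3, 0, 0, 3, 1, 2] [1, 2, 0, 3],
      .norm [2, 0, 5, 2, 4, 1, 1, 1, 0, 5, 0, 5, 0, 1, 0, 1, 1, 1, 0, 1, 0, 1, 1, 0, 5] [0, 1, 0, 1, 1, 0, 5, 0, 1, 1, 0, 1, 1, 0, 1, 1, 0, 5, 5, 0],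
      .app 0,
      .use 27 true [2, 2, 0, 3, 1, 0, 2, 1, 3, 3] [2, 1, 3, 1, 2, 0, 2, 2, 1, 1, 2, 0, 0],
      .norm [2, 5, 2, 5, 0, 1, 0, 1, 0, 5, 5, 0, 1, 0, 5, 5, 0, 5, 5, 0, 1, 0] [2, 5, 2, 1, 2, 0, 1, 1, 0, 1, 1, 0, 1, 0, 1, 1, 0, 5, 5, 0, 5, 0, 5, 0, 5, 5, 0, 5],
      .use 18 false [1, 1, 1, 3, 3, 1, 3, 3, 3] [3, 0, 3, 4, 3, 0],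
      .norm [2, 5, 2, 4, 1, 1, 0, 1, 1, 0, 5, 5, 0, 5, 0, 5, 0, 5, 5, 0, 5, 0, 1, 1, 0, 5] [1, 0, 1, 2, 1, 0, 5, 0, 1, 1, 0, 5, 5, 0],
      .app 4] [2, 1, 0, 1, 2, 0, 1, 0, 1, 1, 0, 5, 0, 1, 1, 0, 1, 1, 1, 0, 5] [1, 0, 1, 2, 1, 0, 5, 0, 1, 1, 0, 5, 5, 0],
   .gap 4 1 true ⟨4, [1, 1, 0, 1, 1, 0, 1, 0, 5, 5, 0, 1], []⟩ [.use 28 true [] [],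
      .norm [0, 5, 2, 5, 5, 0, 1, 1, 0, 1, 1, 0, 5, 0, 1, 0, 1, 0, 5, 5, 0, 5, 0] [1, 2, 5, 2, 0, 1, 1, 0, 5, 5, 0, 5, 0, 1, 1, 0, 5, 0, 1, 0, 1, 1, 0, 5],
      .app 4,
      .app 4] [.app 4,
      .app 4] [1, 1, 4, 1, 1, 0, 1, 0, 5, 5, 0, 1] [2, 1, 0, 1, 2, 5, 5, 0, 5, 0, 1, 0, 1, 1, 1, 0, 5, 0, 5, 0, 1, 1, 1, 0, 1, 0, 1, 1],
   .gap 1 0 false ⟨2, [1, 2, 1, 4, 5, 0], []⟩ [.use 19 false [0, 0, 3, 0] [],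
      .norm [1, 2, 5, 5, 0, 5, 5, 0, 5, 0, 1, 1, 1, 0] [0, 1, 1, 1, 2, 5, 4, 1, 1, 0, 1, 0, 1, 1, 0, 1, 0, 5, 0, 5, 5, 0, 1, 1, 0, 5, 5, 0, 1],
      .app 2] [.app 2,
      .use 22 false [1, 2, 2, 0, 3, 1, 2, 0, 0, 0, 0, 0, 3, 1, 3, 3, 3, 1, 2] [8, 6, 0, 5, 2, 4, 2, 0],
      .norm [1, 1, 2, 5, 2, 1, 4, 5, 0, 5, 5, 0, 5, 5, 0, 5, 0, 5, 0, 5, 5, 0, 5, 5, 0, 5, 0] [2, 1, 1, 0, 1, 0, 1, 1, 0, 5, 0, 5, 5, 0, 5, 0, 1, 1, 0, 5, 0, 1],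
      .app 2] [2, 1, 1, 2, 5, 2, 1, 4, 5, 0, 5, 5, 0, 5, 5, 0, 5, 0, 5, 0, 5, 5, 0, 5, 5, 0, 5, 0] [2, 0, 1, 1, 1, 2, 5, 5, 0, 5, 0, 5, 0, 1, 1, 0, 1, 1, 0, 5, 0, 1, 0, 1, 1],
   .loop 1 2 false ⟨2, [1, 2, 1, 4, 5, 0], []⟩ [.use 19 false [0, 0, 3, 0] [],
      .norm [1, 2, 5, 5, 0, 5, 5, 0, 5, 0, 1, 1, 1, 0] [0, 1, 1, 1, 2, 5, 4, 1, 1, 0, 1, 0, 1, 1, 0, 1, 0, 5, 0, 5, 5, 0, 1, 1, 0, 5, 5, 0, 1],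
      .app 2,
      .use 31 false [3, 1, 2, 1, 1, 2, 1, 0, 3, 0, 0, 3, 0, 2] [],
      .norm [2, 1, 1, 2, 5, 2, 1, 4, 5, 0, 5, 5, 0, 5, 5, 0, 5, 0, 5, 0, 5, 5, 0, 5, 5, 0, 5, 0] [2, 1, 1, 0, 1, 0, 1, 1, 0, 5, 0, 5, 5, 0, 5, 0, 1, 1, 0, 5, 0, 1],
      .app 2,
      .use 22 true [3, 0, 0, 2, 1, 3, 0, 2, 2] [9, 6, 2, 7],
      .norm [2, 1, 2, 5, 2, 5, 5, 4, 1, 0, 1, 0, 1, 1, 1, 0, 5, 5, 0, 5, 0, 5, 0, 5] [1, 0, 1, 2, 5, 4, 1, 0, 5, 0, 5, 0, 1, 0, 1, 1, 0, 1, 1, 1, 0, 1, 0, 1],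
      .app 2] [1, 0, 1, 2, 4, 5, 5, 0, 5, 0, 1, 1, 0, 1, 1, 1, 0, 5, 0, 1, 0, 1, 0] [1, 0, 1, 2, 5, 4, 1, 0, 5, 0, 5, 0, 1, 0, 1, 1, 0, 1, 1, 1, 0, 1, 0, 1],
   .define 6 4 [2, 1, 0, 1, 2, 5, 4, 5, 5, 0, 5, 0, 5, 0, 1, 1, 0, 1, 0, 5, 5, 0, 1] 5,
   .conj 32 [1, 1, 1, 2, 1, 3, 1, 2, 0, 1, 1, 3, 1, 1, 1, 0, 3, 1] [4, 0, 0, 3] [1, 1, 1, 4, 1, 1, 1, 0, 1, 0, 1, 1, 0, 5, 0, 1, 1, 0, 1] [0, 5, 0, 1, 0, 1, 1, 0, 1, 1, 1, 0, 5, 5, 0, 5, 0, 1, 0],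
   .conj 32 [1, 1, 1, 2, 1, 3, 1, 1, 1, 2, 0, 0, 3, 2, 0, 3, 1, 2, 0, 2, 1, 1] [3, 9, 3, 0] [1, 1, 0, 5, 0, 1, 0, 1, 1, 0, 1, 0, 5, 5, 0, 1, 1, 0, 1, 0, 5] [1, 0, 1, 2, 1, 4, 5, 0, 1, 0, 1, 0, 1, 1, 0, 1, 1, 0, 5, 5],
   .gap 1 0 false ⟨4, [0, 5, 0, 1, 1, 2, 0, 1, 2, 4, 5, 5, 0, 1, 0, 1, 1, 0, 1, 0, 5, 0, 5, 0, 1, 0, 1, 1, 0, 5, 5], []⟩ [.use 31 false [2, 2, 2, 1, 0, 3, 0, 0, 3, 0, 2] [2, 4, 1],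
      .norm [1, 1, 1, 2, 1, 1, 2, 1, 2, 0, 1, 0, 5, 0, 5, 5, 0, 5, 0, 1, 1, 0, 5, 0, 5, 5, 0, 1, 0, 1, 0, 5, 0] [2, 0, 1, 1, 1, 2, 5, 5, 4, 5, 0, 5, 0, 5, 5, 0, 1, 1, 0, 5, 5, 0, 5, 5, 0, 5, 5, 0, 1, 0],
      .app 2] [.app 2,
      .use 32 false [1, 1, 3, 0, 2, 1, 3, 3, 0, 2, 0] [9, 6, 9, 0],
      .norm [5, 5, 0, 5, 0, 1, 0, 1, 0, 5, 0, 5, 5, 0, 1, 0, 1, 0, 1] [2, 1, 0, 1, 2, 5, 4, 5, 5, 0, 5, 0, 5, 0, 5],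
      .app 2] [2, 5, 5, 0, 5, 0, 1, 0, 1, 0, 5, 0, 5, 5, 0, 1, 0, 1, 0, 1] [1, 0, 1, 2, 1, 1, 2, 1, 1, 1, 0, 5, 5, 0, 5, 0, 1, 0, 1, 1, 0, 1, 0],
   .gap 2 4 false ⟨4, [2, 1, 0, 1, 2, 5, 4, 5, 5, 0, 5, 0, 5, 0, 1, 1, 0, 1, 0, 5, 5, 0, 1], []⟩ [.use 33 false [0, 0, 2, 0, 3, 3, 1, 3, 0] [6, 2, 7],
      .norm [5, 0, 1, 0, 1, 1, 2, 5, 0, 1, 1, 1, 0, 1, 0, 1, 1, 1, 0, 5, 0, 5, 5, 0, 5] [1, 0, 1, 2, 1, 1, 2, 1, 1, 0, 1, 0, 1, 0, 5, 5, 0, 5, 0, 5, 5, 0, 5],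
      .app 0] [.use 32 false [] [],
      .norm [] [],
      .app 0] [0] [5, 5, 2, 1, 1, 2, 5, 5, 4, 5, 5, 0, 1, 1, 0, 1, 0, 1, 0, 5, 5, 0, 5, 0],
   .loop 4 0 false ⟨5, [], []⟩ [.use 32 true [3, 3, 0, 2, 2, 1, 1, 2, 0, 0, 0, 1, 1, 1, 3, 0, 0, 3, 3, 1, 2, 2] [],
      .norm [2, 1, 0, 1, 2, 5, 4, 5, 5, 0, 5, 0, 5, 0, 1, 1, 0, 1, 0, 5, 5, 0, 1] [],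
      .app 4,
      .app 4,
      .use 33 false [1, 3, 0, 2, 0, 0, 3, 3, 0, 0, 2, 0, 0, 0, 2, 0, 3, 3, 1, 3, 0] [8, 3, 9, 4],
      .norm [0, 5, 2, 1, 0, 5, 5, 0, 5, 5, 0, 1, 0, 1, 1, 1, 0, 5, 0, 1, 0, 1, 0, 1, 1, 0, 5] [1, 0, 1, 2, 1, 1, 2, 5, 4, 5, 0, 1, 1, 0, 5, 0, 1, 0, 1, 0, 1, 0, 5, 0, 5],
      .app 0,
      .app 0] [5, 2, 5, 2, 1, 2, 1, 1, 0, 5, 5, 0, 5, 0, 5, 0, 1, 0, 1, 1, 0, 1, 1, 0, 1, 1] [1, 0, 1, 2, 1, 1, 2, 5, 4, 5, 0, 1, 1, 0, 5, 0, 1, 0, 1, 0, 1, 0, 5, 0, 5],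
   .gap 1 1 true ⟨5, [0, 5, 5, 0, 1, 0, 1, 1, 1, 0, 5, 0, 5, 5, 0], []⟩ [.use 33 true [0, 0, 3, 1, 1, 2, 1, 3, 3, 0, 0, 2, 0, 0, 3, 1, 3, 0] [4, 0],
      .norm [5, 5, 2, 1, 2, 1, 2, 1, 2, 4, 1, 0, 1, 1, 1, 0, 1, 0, 5, 0, 5, 0, 5, 5, 0, 1, 1, 0, 5, 0] [1, 1, 1, 0, 5, 5, 0, 5, 0, 5, 5, 0, 1, 0, 1, 1, 0, 1, 0, 5, 0],
      .app 2,
      .use 32 false [1, 2, 0, 2, 2, 2, 0, 2, 2, 1, 1] [8, 6, 1],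
      .norm [5, 4, 1, 0, 1, 0, 1, 1, 1, 0, 1, 0, 1, 1, 0, 5, 5] [2, 5, 4, 5, 5, 0, 1, 0, 5, 5, 0, 1, 1],
      .app 2] [.app 2] [2, 0, 5, 5, 0, 1, 0, 1, 1, 1, 0, 5, 0, 5, 5, 0] [2, 5, 5, 4, 1, 1, 0, 5, 0, 1, 1, 0, 1],
   .define 6 1 [1, 2, 5, 2, 1, 1, 2, 1, 4, 5, 0, 1, 1, 0, 5, 5, 0, 5, 5, 0, 1, 1, 0, 5, 0, 1, 1] 6,
   .conj 36 [1, 2, 2, 1, 1, 1, 3, 1, 0, 2, 2, 1, 3, 3, 1, 1, 1] [2, 2, 0, 0, 0, 3, 0, 0, 2, 0, 3, 0] [5, 4, 5, 5, 0, 1, 0, 1, 1, 1, 0, 1, 1, 1, 0, 1, 0, 5] [0, 1, 1, 0, 1, 1, 1, 0, 5, 0, 1, 1, 0, 1, 1, 0, 5, 0, 1, 0],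
   .conj 36 [0, 3, 0, 0, 2, 3, 0, 3, 1, 0, 3, 3, 3, 0, 3, 3] [0, 2, 2, 1, 3, 1, 1, 3, 0, 2, 0, 0] [4, 5, 5, 0, 5, 5, 0, 5, 0, 1, 1, 1, 0, 1, 0] [1, 0, 1, 1, 0, 5, 0, 5, 0, 5, 5, 0, 5, 0, 1, 0, 1, 0, 1, 1],
   .conj 36 [3, 3, 0, 0, 3, 0, 3, 3, 1, 2, 0, 3, 0] [3, 3, 0, 2, 2, 0, 0, 2, 2, 0, 0, 2, 1] [0, 5, 0, 5, 0, 1, 1, 0, 1, 0, 5, 5, 0, 1, 0, 1, 1, 0] [0, 5, 5, 0, 1, 0, 1, 1, 0, 1, 1, 0, 1, 1, 0, 1, 1, 0, 1, 0, 5],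
   .gap 1 0 false ⟨1, [1, 2, 1, 0, 1, 2, 5, 4, 5, 5, 0, 5, 0, 1, 0, 1, 0, 5, 0, 5, 0, 1, 0, 1, 0], []⟩ [.use 17 true [3, 1, 3] [3, 1, 3, 3, 0, 0, 2, 1, 3, 0, 2],
      .norm [1, 2, 5, 0, 5, 0, 5, 0, 5, 0] [2, 4, 1, 0, 1, 1, 0, 5, 0, 1, 0, 1, 0, 5, 5, 0, 5, 0, 5],
      .app 2] [.app 2,
      .use 36 false [3, 1, 2, 0, 2, 0, 3] [1, 1, 2, 0, 0, 2, 2, 1, 3, 3],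
      .norm [4, 5, 0, 5, 5, 0, 5, 0, 5, 0, 5, 5, 0] [5, 5, 4, 1, 0, 1, 1, 0, 1, 1, 0, 5, 0, 5, 5, 0],
      .app 2] [2, 4, 5, 0, 5, 5, 0, 5, 0, 5, 0, 5, 5, 0] [5, 0, 5, 5, 2, 1, 0, 1, 1, 1, 0, 1, 0, 5, 5, 0, 5, 5, 0, 5, 5, 0, 1, 1, 0],
   .gap 1 0 false ⟨1, [1, 1, 2, 5, 0, 1, 1, 2, 4, 1, 0, 1, 0, 1, 0, 5, 5, 0, 5, 5, 0, 1, 0, 1, 0, 1], []⟩ [.use 26 true [0, 3, 1, 2, 2, 0, 2, 1, 3, 3] [1, 3, 1, 2, 2, 0, 0, 3, 0, 2, 1],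
      .norm [1, 1, 2, 5, 4, 1, 1, 1, 0, 5, 5, 0, 1, 0, 1, 1, 0, 5, 5, 0, 5, 5, 0, 1, 0] [1, 2, 5, 2, 5, 5, 0, 5, 5, 0, 5, 0, 1, 0, 1, 1, 0, 5, 5, 0, 5, 0, 5, 0],
      .app 2] [.app 2,
      .use 36 false [3, 3, 1] [1, 3, 3, 0, 2, 0, 3, 1, 3, 0, 2],
      .norm [4, 5, 5, 0, 5] [1, 1, 0, 1, 0, 1, 1, 0, 5, 0, 1, 1, 0, 5, 0, 1, 0, 1, 1, 0],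
      .app 2] [2, 4, 5, 5, 0, 5] [2, 5, 2, 1, 1, 2, 0, 1, 2, 1, 0, 1, 0, 1, 0, 1, 1, 0, 5, 5, 0, 5, 5, 0, 1, 0, 1, 1, 0, 1, 1],
   .gap 1 1 true ⟨3, [1, 1, 2, 1, 2, 5, 5, 0, 5, 0, 5, 5, 0, 1, 1, 0, 1, 0, 1, 1, 0, 1, 0, 5, 5, 0, 1, 1], []⟩ [.use 18 false [0, 0, 2, 1, 1, 1, 3, 3, 1, 3, 3, 3] [2, 4, 0, 2, 2],
      .norm [1, 1, 2, 1, 2, 4, 1, 0, 1, 1, 0, 5, 5, 0, 5, 0, 5, 0, 5, 5, 0, 5, 0, 1, 1, 0, 5] [2, 1, 0, 1, 2, 5, 0, 1, 1, 1, 0, 1, 1, 0, 1, 1, 0, 5, 0, 1, 0, 1, 0, 5, 5, 0],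
      .app 2] [.app 2,
      .use 38 false [2, 2, 0, 3, 1, 1, 2, 0, 0, 1, 2, 1] [0, 2, 0, 4, 3, 0, 2],
      .norm [1, 1, 1, 2, 5, 4, 5, 0, 1, 1, 1, 0, 1, 1, 0, 1, 0, 5, 0, 5, 5] [0, 1, 0, 1, 1, 2, 1, 4, 1, 1, 0, 1, 1, 0, 5, 0, 5, 5, 0, 1, 1, 1, 0, 1, 0, 1, 0],
      .app 2] [2, 1, 1, 1, 2, 5, 4, 5, 0, 1, 1, 1, 0, 1, 1, 0, 1, 0, 5, 0, 5, 5] [1, 0, 5, 0, 5, 5, 2, 0, 5, 0, 1, 1, 1, 0, 1, 0, 1, 1, 0, 5, 0, 5, 5, 0, 1, 1, 0, 5, 0, 1, 0],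
   .gap 1 1 true ⟨3, [0, 1, 2, 1, 4, 1, 1, 1, 0, 5, 0, 1], []⟩ [.use 25 false [2, 2, 0, 0, 0, 3, 0, 1, 1, 2, 0, 0, 3, 3, 1] [3, 0, 3, 0, 2, 0],
      .norm [5, 2, 0, 1, 1, 1, 2, 4, 1, 0, 1, 1, 0, 5, 5, 0, 5, 0, 5, 5, 0, 5, 5, 0, 5, 0, 5] [1, 2, 5, 2, 1, 1, 0, 1, 1, 0, 5, 0, 1, 1, 0, 1, 1, 1, 0, 1, 0, 5, 5, 0, 1, 0],
      .app 2] [.app 2,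
      .use 38 false [2, 2, 1, 1, 3, 0, 2, 1, 3, 0, 0, 1, 2, 1] [2, 4, 0, 4, 2, 4, 0, 4],
      .norm [1, 1, 2, 1, 0, 5, 5, 0, 1, 1, 0, 5, 0, 1, 0, 1, 0, 5, 5, 0, 5, 0, 5] [2, 5, 2, 1, 1, 2, 0, 1, 2, 5, 4, 1, 0, 5, 0, 5, 0, 1, 1, 1, 0, 5, 0, 1, 1],
      .app 2] [2, 1, 1, 2, 1, 0, 5, 5, 0, 1, 1, 0, 5, 0, 1, 0, 1, 0, 5, 5, 0, 5, 0, 5] [0, 1, 2, 5, 5, 2, 5, 5, 0, 5, 5, 0, 5, 0, 1, 1, 0, 5, 0, 5, 5, 0, 1, 1, 0, 5, 5, 0],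
   .gap 1 0 false ⟨1, [1, 2, 5, 2, 1, 1, 2, 1, 4, 5, 0, 1, 1, 0, 5, 5, 0, 5, 5, 0, 1, 1, 0, 5, 0, 1, 1], []⟩ [] [.app 2,
      .use 27 true [3, 1, 1, 3, 1, 1, 2, 0, 2, 1, 3, 3] [1, 2, 0, 3, 1, 3, 0, 0, 2, 1, 3, 0, 2, 2],
      .norm [0, 1, 1, 2, 5, 2, 5, 5, 0, 1, 0, 5, 0, 5, 0, 1, 0, 1, 1, 0, 5, 5, 0, 5, 0, 1, 0] [2, 5, 2, 1, 2, 0, 5, 0, 5, 5, 0, 1, 1, 0, 1, 0, 5, 5, 0, 1, 0, 1, 1, 1, 0, 1, 0],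
      .app 2,
      .use 40 false [3, 3, 0, 0, 2, 1, 1, 3, 3, 0, 2, 2, 1, 1, 3, 3, 1] [3, 0, 4, 3, 0, 3, 4, 3, 0],
      .norm [0, 1, 1, 2, 5, 2, 5, 4, 5, 5, 0, 5, 0, 5, 0, 5, 5, 0, 1, 1, 1, 0, 1, 0, 1] [5, 2, 1, 2, 1, 2, 1, 4, 1, 1, 1, 0, 5, 0, 1, 0, 1, 0, 1, 1, 0, 5, 5, 0, 5, 0, 1, 1, 0],
      .app 2] [1, 2, 5, 2, 1, 1, 2, 1, 1, 1, 0, 5, 5, 0, 5, 0, 5, 0, 1, 0, 1, 1, 1, 0, 1, 0, 1] [5, 2, 1, 2, 1, 2, 1, 4, 1, 1, 1, 0, 5, 0, 1, 0, 1, 0, 1, 1, 0, 5, 5, 0, 5, 0, 1, 1, 0],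
   .gap 2 0 false ⟨1, [1, 2, 5, 2, 1, 1, 2, 1, 4, 5, 0, 1, 1, 0, 5, 5, 0, 5, 5, 0, 1, 1, 0, 5, 0, 1, 1], []⟩ [.use 41 false [] [],
      .norm [1, 2, 5, 2, 1, 1, 2, 1, 1, 1, 0, 5, 5, 0, 5, 0, 5, 0, 1, 0, 1, 1, 1, 0, 1, 0, 1] [5, 2, 1, 2, 1, 2, 1, 4, 1, 1, 1, 0, 5, 0, 1, 0, 1, 0, 1, 1, 0, 5, 5, 0, 5, 0, 1, 1, 0]] [.app 0,
      .use 36 false [0, 0, 3, 1] [1, 2, 2, 0, 2, 1, 3, 1, 2, 1, 3, 0, 0, 0],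
      .norm [1, 1, 4, 5, 0, 5] [5, 0, 1, 1, 0, 1, 0, 1, 0, 5, 0, 5, 5, 0, 1, 0, 5, 5, 0, 1, 1, 1],
      .app 4] [0, 1, 1, 0, 5, 0, 5] [5, 2, 1, 2, 1, 2, 5, 5, 4, 1, 0, 5, 5, 0, 5, 0, 1, 0, 1, 1, 0, 1, 0, 1, 1, 1, 0],
   .gap 2 2 false ⟨1, [1, 2, 5, 2, 1, 1, 2, 1, 4, 5, 0, 1, 1, 0, 5, 5, 0, 5, 5, 0, 1, 1, 0, 5, 0, 1, 1], []⟩ [.use 41 false [] [],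
      .norm [1, 2, 5, 2, 1, 1, 2, 1, 1, 1, 0, 5, 5, 0, 5, 0, 5, 0, 1, 0, 1, 1, 1, 0, 1, 0, 1] [5, 2, 1, 2, 1, 2, 1, 4, 1, 1, 1, 0, 5, 0, 1, 0, 1, 0, 1, 1, 0, 5, 5, 0, 5, 0, 1, 1, 0],
      .app 4] [.app 4,
      .use 36 false [2, 0, 3, 3] [0, 3, 0, 2, 2, 1, 1, 2, 1, 1, 3, 0, 2, 0],
      .norm [0, 1, 0, 1, 0, 5, 5, 0] [1, 1, 1, 0, 1, 1, 0, 5, 0, 1, 1, 0, 1, 0, 5, 0, 5, 0, 5, 5, 0, 1]] [0, 1, 0, 1, 0, 5, 5, 0] [5, 2, 1, 2, 1, 2, 5, 5, 4, 1, 0, 5, 0, 5, 0, 5, 5, 0, 1, 1, 0, 1, 1, 1],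
   .gap 2 4 false ⟨1, [1, 2, 5, 2, 1, 1, 2, 1, 4, 5, 0, 1, 1, 0, 5, 5, 0, 5, 5, 0, 1, 1, 0, 5, 0, 1, 1], []⟩ [.use 41 false [] [],
      .norm [1, 2, 5, 2, 1, 1, 2, 1, 1, 1, 0, 5, 5, 0, 5, 0, 5, 0, 1, 0, 1, 1, 1, 0, 1, 0, 1] [5, 2, 1, 2, 1, 2, 1, 4, 1, 1, 1, 0, 5, 0, 1, 0, 1, 0, 1, 1, 0, 5, 5, 0, 5, 0, 1, 1, 0],
      .app 0] [.use 36 false [] [],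
      .norm [] [],
      .app 0] [0] [5, 2, 1, 2, 1, 2, 1, 4, 1, 1, 1, 0, 1, 0, 1, 1, 0, 1, 0, 5, 5, 0, 1, 1, 1, 0, 5],
   .gap 5 0 false ⟨1, [1, 2, 5, 2, 1, 1, 2, 1, 4, 5, 0, 1, 1, 0, 5, 5, 0, 5, 5, 0, 1, 1, 0, 5, 0, 1, 1], []⟩ [.use 36 false [] [],
      .norm [] [],
      .use 43 true [0, 2, 1, 3, 0, 0, 3, 3] [0, 5, 2, 0, 0],
      .norm [1, 2, 5, 2, 1, 1, 2, 0, 1, 1, 0, 1, 0, 1, 1, 1, 0, 5, 0, 5, 0, 1, 1, 1, 0, 1] [5, 2, 1, 2, 1, 2, 1, 0, 1, 1, 0, 5, 0, 5, 5, 0, 5, 0, 5, 5, 0, 1, 1, 0, 1],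
      .app 0,
      .app 0,
      .app 2] [.app 2,
      .app 4,
      .app 4,
      .use 26 true [3, 0, 0, 3, 0, 1, 2, 2, 0, 2, 1, 3, 3] [1, 2, 0, 3, 0, 0, 3, 1, 1, 2, 0, 0],
      .norm [0, 1, 2, 4, 5, 5, 0, 1, 1, 0, 1, 0, 1, 0, 1, 1, 0, 1, 1, 0, 1, 0, 5, 0] [1, 2, 5, 2, 0, 1, 0, 1, 1, 1, 0, 1, 1, 0, 1, 0, 1, 0, 1, 1, 0, 1, 1, 0],
      .use 16 false [2, 2, 0, 0, 3, 0, 0, 3, 1, 2] [2, 0, 4, 2, 4, 0, 2, 2, 4, 2],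
      .norm [0, 1, 2, 1, 0, 1, 1, 0, 1, 0, 5, 0, 5, 0, 1, 1, 1] [2, 1, 0, 1, 2, 0, 1, 1, 0, 1, 1, 0, 1, 0, 5, 5, 0, 1, 0, 1, 1, 0, 1, 0, 5, 5, 0, 1, 1, 0],
      .app 2,
      .app 4,
      .app 4,
      .use 31 false [3, 1, 2, 1, 3, 0, 2, 0, 0, 0, 3, 0, 0, 3, 0, 2] [0, 4],
      .norm [1, 2, 5, 2, 1, 1, 2, 4, 5, 5, 0, 5, 0, 1, 0, 1, 1, 0, 5, 5, 0, 1, 1, 0, 1, 1, 0] [5, 5, 2, 1, 1, 2, 1, 0, 1, 0, 5, 0, 5, 0, 5, 5, 0, 1, 1, 0, 1, 1, 0, 5, 0, 1, 0, 1]] [1, 2, 5, 2, 1, 1, 2, 4, 5, 5, 0, 5, 0, 1, 0, 1, 1, 0, 5, 5, 0, 1, 1, 0, 1, 1, 0] [0, 1, 1, 1, 2, 5, 4, 5, 5, 0, 1, 0, 5, 5, 0, 5, 0, 5, 0, 1, 1, 0],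
   .gap 1 0 false ⟨1, [1, 1, 2, 5, 2, 1, 1, 2, 1, 4, 5, 0, 1, 1, 0, 5, 5, 0, 5, 5, 0, 1, 1, 0, 5, 0, 1, 1], []⟩ [.use 41 false [0] [],
      .norm [1, 1, 2, 5, 2, 1, 1, 2, 1, 1, 1, 0, 5, 5, 0, 5, 0, 5, 0, 1, 0, 1, 1, 1, 0, 1, 0, 1] [5, 2, 1, 2, 1, 2, 1, 4, 1, 1, 1, 0, 5, 0, 1, 0, 1, 0, 1, 1, 0, 5, 5, 0, 5, 0, 1, 1, 0],
      .app 2] [.app 2,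
      .use 15 false [2, 0, 2, 0, 0] [0, 0, 2, 0, 0, 2, 2, 1],
      .norm [5, 0, 5, 0, 5, 0, 5, 0, 1] [1, 1, 0, 1, 0, 1, 1, 0, 1, 1, 0, 5],
      .app 2] [2, 5, 0, 5, 0, 5, 0, 5, 0, 1] [2, 0, 5, 0, 5, 2, 5, 2, 1, 4, 5, 0, 1, 1, 1, 0, 1, 0, 5, 0, 5, 0, 5, 5, 0, 1, 1, 0, 1, 1],
   .loop 3 2 false ⟨6, [1, 4, 5, 0, 5], []⟩ [.use 36 true [0, 3, 1] [],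
      .norm [2, 5, 2, 1, 0, 1, 2, 0, 5, 0, 5, 0, 1, 1, 0, 5, 0] [],
      .app 0,
      .use 36 false [1, 2, 2, 1, 1] [1, 3, 1, 1, 2, 0, 2, 0, 0, 0, 2, 0, 0],
      .norm [5, 4, 1, 1, 0, 5, 5] [5, 0, 5, 0, 1, 1, 1, 0, 5, 0, 5, 0, 5, 0, 1, 1, 0, 1, 0, 1, 1],
      .use 43 true [2, 1, 3, 0, 3, 0, 0, 3, 3] [],
      .norm [2, 1, 2, 1, 0, 1, 2, 1, 4, 5, 5, 0, 1, 0, 5, 0, 5, 0, 1, 1, 1, 0, 5] [5, 2, 1, 2, 1, 2, 4, 5, 0, 1, 1, 0, 5, 0, 5, 5, 0, 5, 0, 1, 1, 0, 5, 5, 0, 5, 0, 1],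
      .app 4] [1, 2, 5, 2, 1, 1, 2, 1, 0, 5, 0, 5, 5, 0, 1, 1, 0, 5, 5, 0, 1, 1, 0, 1, 1, 0, 1] [5, 2, 1, 2, 1, 2, 4, 5, 0, 1, 1, 0, 5, 0, 5, 5, 0, 5, 0, 1, 1, 0, 5, 5, 0, 5, 0, 1],
   .gap 2 0 false ⟨6, [2, 1, 4, 5, 0, 5], []⟩ [] [.app 0,
      .use 45 false [1, 1, 3, 3, 0, 0, 3, 3, 1, 1] [0, 6, 0],
      .norm [2, 1, 2, 1, 0, 1, 2, 0, 5, 5, 0, 1, 1, 0, 5, 5, 0, 5, 5, 0, 1, 0, 1, 1, 0, 5] [5, 5, 2, 1, 1, 2, 5, 0, 5, 5, 0, 5, 0, 5, 5, 0, 1, 1, 0, 5],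
      .app 4,
      .use 46 true [0, 0, 2, 2, 1, 1, 2, 2, 2, 0, 2, 1, 3, 0, 2, 2, 0] [9, 3, 4, 0],
      .norm [2, 0, 1, 2, 1, 1, 0, 5, 5, 0, 1, 1, 0, 1, 0, 5, 5, 0, 5, 5, 0, 1, 1, 0, 1, 0] [5, 2, 1, 1, 2, 1, 0, 5, 0, 5, 0, 1, 0, 1, 0, 5, 0, 5, 0, 5, 0, 1]] [2, 0, 1, 2, 1, 1, 0, 5, 5, 0, 1, 1, 0, 1, 0, 5, 5, 0, 5, 5, 0, 1, 1, 0, 1, 0] [5, 2, 1, 1, 2, 1, 0, 5, 0, 5, 0, 1, 0, 1, 0, 5, 0, 5, 0, 5, 0, 1],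
   .gap 1 0 false ⟨6, [2, 4, 5, 0, 5, 5, 0, 5, 0, 5, 0, 5, 5, 0], []⟩ [.use 47 false [1, 1, 2, 2, 2, 0, 0, 0, 2, 0, 0] [6, 6, 5, 1],
      .norm [2, 1, 2, 1, 4, 1, 0, 5, 5, 0, 1, 1, 0, 1, 0, 5, 5, 0, 5, 0, 1, 1, 0, 5, 0, 1] [5, 2, 1, 1, 2, 5, 4, 1, 1, 0, 5, 0, 1, 0, 1, 1, 0, 5, 0, 5],
      .app 2] [.app 2,
      .use 43 true [1, 1, 2, 2, 2, 0, 2, 0, 0, 0, 3, 0, 0, 3, 3] [7, 7, 1, 1],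
      .norm [2, 1, 2, 1, 0, 1, 2, 0, 1, 0, 1, 1, 0, 5, 0, 1, 0, 1, 0, 1, 1, 1, 0, 1, 0, 1, 0, 1] [5, 2, 1, 2, 1, 2, 1, 0, 5, 0, 1, 1, 1, 0, 5, 5, 0, 5, 0, 1, 1, 0, 5, 0, 5],
      .app 2] [1, 2, 1, 0, 1, 2, 0, 1, 0, 1, 1, 0, 5, 0, 1, 0, 1, 0, 1, 1, 1, 0, 1, 0, 1, 0, 1] [0, 5, 0, 1, 1, 1, 2, 1, 0, 1, 0, 1, 0, 5, 0, 5, 5, 0, 5, 0, 1, 1, 0, 1, 0, 1, 1, 1],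
   .gap 1 1 true ⟨6, [5, 2, 1, 0, 5, 0, 1, 1, 0, 5, 0, 5], []⟩ [.use 37 true [3, 0, 1, 1, 3, 1, 1, 1, 3, 3, 3, 0, 0] [6, 6, 0, 4],
      .norm [5, 2, 1, 1, 2, 1, 4, 1, 1, 0, 5, 0, 1, 1, 0, 1, 0, 1, 1, 1, 0, 1, 1, 1] [2, 1, 1, 0, 5, 0, 5, 0, 5, 0, 1, 1, 1, 0, 5, 0, 5],
      .app 2,
      .use 39 false [2, 0, 3, 1, 3, 3, 1, 2, 0, 3, 1, 3, 3, 3, 0, 2, 2, 1, 3, 3] [3, 3, 4, 1],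
      .norm [0, 5, 2, 1, 1, 2, 1, 0, 5, 5, 0, 1, 0, 1, 1, 0, 1, 0, 1, 0, 1, 1, 1, 0, 1, 1, 1] [2, 5, 2, 1, 1, 2, 0, 1, 2, 5, 0, 1, 1, 1, 0, 1, 0, 5, 5, 0, 5, 0, 5, 0, 1, 0, 1, 1, 0, 5, 5],
      .app 2] [.app 2] [2, 5, 2, 1, 0, 5, 0, 1, 1, 0, 5, 0, 5] [1, 2, 5, 2, 4, 5, 5, 0, 5, 5, 0, 5, 0, 5, 0, 1, 0, 1, 0, 1, 0, 5, 0, 5, 0, 1],
   .gap 1 1 true ⟨6, [5, 0, 5, 0, 1, 1, 1, 2, 1, 1, 0, 5, 5, 0, 1, 1, 0, 1, 0, 1, 0, 5, 0], []⟩ [.use 37 true [0, 3, 1, 3, 0, 2, 2, 1, 1, 3, 1, 1, 1, 3, 3, 3, 0, 0] [7, 0, 6, 0],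
      .norm [2, 5, 5, 2, 5, 5, 2, 5, 2, 4, 5, 0, 5, 0, 5, 5, 0, 1, 1, 0, 5, 5, 0, 5] [2, 4, 5, 0, 5, 0, 1, 1, 0, 1, 0, 5, 5, 0, 5, 5, 0, 5, 0, 1, 1],
      .app 2,
      .use 32 false [2, 0, 0, 3, 1, 1, 2, 0, 0, 2, 1] [8, 3, 6, 4],
      .norm [5, 0, 5, 0, 5, 5, 0, 1, 0, 1, 1, 0, 5, 5, 0, 1, 0, 5, 0] [0, 1, 0, 1, 0, 5, 0, 5, 0, 1, 0, 1, 1, 1, 0, 1, 0, 1],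
      .app 2] [.app 2] [1, 0, 1, 1, 2, 0, 1, 2, 5, 4, 5, 0, 5, 0, 1, 0, 1, 0, 5, 0, 5, 0, 5, 5] [5, 0, 5, 0, 1, 1, 1, 0, 5, 0, 1, 0, 1, 0, 5, 0, 5, 0],
   .gap 5 2 true ⟨6, [5, 0, 5, 0, 1, 1, 1, 2, 1, 1, 0, 5, 5, 0, 1, 1, 0, 1, 0, 1, 0, 5, 0], []⟩ [.use 47 false [0, 3, 1, 3, 0, 2, 2] [5, 2, 5, 0],
      .norm [2, 5, 5, 2, 5, 5, 2, 5, 2, 1, 1, 4, 1, 0, 5, 5, 0, 1, 0, 5, 0, 5, 0, 5, 0, 1, 1, 0, 1, 1, 0] [5, 2, 1, 1, 2, 0, 1, 0, 1, 0, 1, 1, 0, 5, 5, 0, 5, 0, 5, 0, 1, 0, 1],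
      .use 46 false [2, 2, 1, 3, 3, 1, 2, 0, 0, 0, 0, 2, 1, 3, 0, 2, 2, 0] [0, 5, 0],
      .norm [5, 5, 2, 5, 2, 1, 2, 0, 1, 1, 1, 0, 1, 0, 5, 5, 0, 1, 0, 1, 1, 1] [5, 0, 5, 0, 1, 1, 1, 2, 1, 1, 1, 4, 5, 5, 0, 1, 0, 1, 1, 0, 5, 5, 0, 5, 5, 0, 5, 5],
      .app 2,
      .app 4,
      .app 4,
      .use 31 false [1, 3, 3, 1, 3, 0, 0, 2, 2, 0, 0, 0, 3, 0, 0, 3, 0, 2] [9, 2, 0, 8],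
      .norm [5, 2, 1, 1, 2, 0, 1, 2, 1, 1, 1, 0, 5, 5, 0, 1, 1, 0, 1, 1, 0, 5, 0, 5, 5, 0, 1, 1] [1, 0, 1, 2, 1, 4, 1, 0, 1, 1, 0, 5, 5, 0, 1, 0, 5, 5, 0],
      .use 45 true [0, 3, 0, 0, 0, 3, 1, 2, 1, 1, 0, 3, 3, 0, 0, 3] [],
      .norm [1, 2, 1, 2, 1, 2, 0, 1, 2, 0, 1, 0, 1, 0, 5, 5, 0, 1, 0, 1, 1, 1, 0, 5, 5, 0, 5] [1, 1, 2, 1, 0, 1, 1, 1, 2, 4, 1, 0, 1, 1, 0, 1, 0, 5, 5, 0, 5, 0, 1, 1, 0, 1, 0, 5, 0],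
      .app 2,
      .app 4,
      .app 4,
      .use 50 true [0, 0, 2, 1, 3, 1, 1, 3, 3, 0, 3, 3, 1, 2, 0, 2, 1] [7, 0, 5, 2],
      .norm [1, 0, 1, 1, 2, 5, 0, 5, 0, 1, 1, 0, 5, 5, 0, 5, 0, 1, 1, 0, 1, 0, 5, 5, 0, 1, 0, 5] [2, 1, 2, 0, 1, 2, 1, 1, 1, 4, 1, 0, 1, 0, 5, 0, 5, 5, 0, 1, 0, 1, 0, 1]] [.app 0,
      .app 0,
      .app 2] [1, 0, 1, 1, 2, 0, 1, 2, 5, 0, 5, 0, 5, 0, 1, 0, 1, 0, 5, 0, 5, 0, 5, 5] [0, 1, 2, 1, 2, 0, 1, 2, 5, 0, 5, 0, 5, 0, 1, 0, 1, 1, 0, 1, 0, 1, 1, 1],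
   .define 6 3 [2, 5, 2, 4] 7,
   .conj 52 [1, 3, 0, 0, 0, 2, 0] [2, 4, 2, 4, 2, 2, 0] [5, 0, 5, 0, 1, 1, 1, 0, 1, 0, 1] [5, 4, 1, 1, 1, 0, 1],
   .conj 52 [3, 3, 0, 1, 0, 0, 3, 3, 0, 1, 0, 3, 0] [0, 4, 2, 0, 3, 0, 4, 2, 0, 2, 2] [5, 0, 5, 0, 1, 1, 0, 5, 0] [5, 0, 1, 1, 0, 5, 0, 5, 0],
   .conj 52 [0, 0, 2, 1, 3, 3, 1, 1, 2, 0, 0, 3, 1, 2, 1, 3, 3] [0, 4, 0, 3, 0, 4, 3, 0, 2, 0] [5, 0, 1, 0, 5, 5, 0, 5, 5, 0, 5, 0, 1, 0, 1, 0, 5, 5, 0, 1] [1, 4, 5, 5, 0, 5, 5, 0, 5, 0, 1, 0, 1, 0, 5, 5],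
   .gap 5 0 false ⟨1, [5, 2, 1, 0, 5, 0, 1], []⟩ [.use 3 true [1] [0, 3, 0],
      .norm [5, 2] [2, 1, 0, 5, 0, 1],
      .use 8 false [1] [],
      .norm [5] [2, 1, 0, 5, 0, 1],
      .app 0,
      .app 0,
      .app 2,
      .use 52 false [] [4],
      .norm [] [1, 4, 5, 0, 1, 0]] [.app 2,
      .app 4,
      .app 4,
      .use 26 true [0, 0, 2, 2, 0, 2, 2, 1, 1, 2, 2, 0, 2, 1, 3, 3] [3, 3, 1, 2, 2, 0, 0, 3, 1, 3, 1],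
      .norm [2, 5, 2, 1, 2, 0, 5, 0, 1, 1, 0, 5, 0, 5, 0, 1, 0, 1, 1, 0, 1] [1, 2, 5, 2, 5, 5, 4, 1, 1, 1, 0, 1, 1, 0, 5, 0, 5, 5, 0, 1, 1, 0],
      .use 16 false [2, 2, 1, 3, 0, 2, 1, 1, 0, 0, 3, 0, 0, 3, 1, 2] [4, 2, 2, 4, 2, 0, 2, 4, 0, 3],
      .norm [2, 5, 2, 1, 2, 5, 4, 5, 0, 5, 0, 1, 0, 1, 1, 0, 5, 5, 0, 1, 1, 0, 1, 1] [2, 1, 0, 1, 2, 1, 4, 1, 0, 1, 0, 5, 0, 5, 5, 0, 1, 1, 0, 5, 5, 0, 1, 1, 1, 0, 1],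
      .app 2,
      .app 4,
      .app 4] [5, 2, 1, 2, 5, 0, 5, 0, 5, 0, 1, 0, 1, 1, 0, 5, 5, 0, 1, 1, 0, 1, 1] [2, 1, 0, 1, 2, 1, 0, 1, 0, 1, 0, 5, 0, 5, 5, 0, 1, 1, 0, 5, 5, 0, 5, 5, 0, 5, 0],
   .gap 1 0 false ⟨3, [1, 2, 4], []⟩ [.use 13 false [0] [],
      .norm [1, 0] [4],
      .app 2] [.app 2,
      .use 52 false [1, 3, 0, 0, 0, 3, 1] [0, 2, 4, 0, 4, 2, 4, 0, 4],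
      .norm [5, 0, 5, 0, 1, 1, 1, 0, 5, 0, 5] [4, 5, 0, 5, 0, 1, 1, 1, 0, 5, 0, 5, 0],
      .app 2] [2, 5, 0, 5, 0, 1, 1, 1, 0, 5, 0, 5] [0, 5, 0, 5, 0, 1, 1, 1, 0, 5, 0, 5],
   .gap 5 4 false ⟨3, [1, 2, 4], []⟩ [.use 12 true [0] [],
      .norm [1, 2, 0, 0] [2, 0],
      .app 0,
      .app 0,
      .app 2,
      .use 27 true [1, 1, 3, 3, 1, 3, 3, 0, 0, 2, 1, 3, 3] [1, 3, 0, 2, 2, 1, 1, 3, 1, 1, 2, 2, 0],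
      .norm [2, 1, 2, 1, 1, 4, 1, 0, 5, 0, 5, 5, 0, 5, 0, 1, 1, 0, 1, 0, 1, 1, 1, 0, 1, 1] [5, 5, 2, 1, 1, 2, 1, 4, 1, 1, 0, 5, 0, 1, 0, 1, 0, 5, 0, 5, 5, 0, 5, 0, 1, 1, 0, 5],
      .use 18 false [2, 0, 0, 3, 1, 2, 0, 0, 0, 1, 1, 1, 3, 3, 1, 3, 3, 3] [4, 0, 3, 0, 2, 0, 4, 2, 0, 4, 3],
      .norm [2, 1, 2, 0, 5, 0, 1, 0, 1, 0, 1, 0, 5, 5, 0, 5, 0, 1, 1, 0, 5, 0, 5, 5] [1, 2, 0, 1, 2, 5, 4, 1, 1, 0, 1, 0, 5, 0, 5, 0, 5, 5, 0, 5, 0, 1, 1, 0, 5, 0, 1, 1, 0],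
      .app 0,
      .app 0,
      .app 2] [.use 13 false [0] [],
      .norm [1, 0] [4],
      .app 2,
      .app 4,
      .app 4,
      .use 54 false [] [8],
      .norm [2, 5, 0, 5, 0, 1, 1, 1, 0, 5, 0, 5] [2, 4, 5, 0, 5, 0, 1, 1, 1, 0, 5, 0, 5, 0]] [2, 5, 0, 5, 0, 1, 1, 1, 0, 5, 0, 5] [2, 1, 2, 5, 2, 5, 5, 4, 5, 5, 0, 1, 1, 0, 5, 5, 0, 1, 0],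
   .gap 5 2 true ⟨3, [1, 2, 4], []⟩ [.use 13 false [0] [],
      .norm [1, 0] [4],
      .use 14 false [0] [6],
      .norm [1] [4],
      .app 2,
      .app 4,
      .app 4,
      .use 25 true [1, 3, 0, 0, 0, 3, 1, 1, 1, 2, 0, 0, 3, 3, 1] [0, 4, 2, 0, 3, 0, 2, 2],
      .norm [1, 2, 5, 4, 1, 1, 0, 1, 1, 0, 5, 5, 0, 1, 1, 0, 1, 1, 0] [2, 5, 2, 1, 2, 1, 0, 5, 0, 1, 1, 0, 1, 1, 0, 1, 1, 0, 5, 5, 0, 5, 0, 5, 0]] [.app 0,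
      .app 0,
      .app 2,
      .use 25 false [0, 1, 1, 2, 0, 0, 3, 3, 1] [3, 0, 3, 0, 2, 0, 4],
      .norm [1, 2, 5, 2, 0, 5, 0, 1, 0, 1, 1, 1, 0, 1, 1, 0, 5, 0, 1, 1, 0, 1] [1, 2, 1, 4, 1, 1, 0, 5, 0, 1, 1, 0, 1, 1, 1, 0, 1, 0, 5, 5, 0, 1],
      .use 52 false [0] [4, 0, 3, 0, 4, 3, 0, 3, 0, 2],
      .norm [1] [0, 1, 2, 1, 4, 1, 0, 1, 1, 0, 5, 5, 0, 5, 0, 5, 5, 0, 1, 1, 0, 1, 0, 1, 1],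
      .app 0,
      .app 0,
      .app 2] [2, 1, 0, 0] [2, 0, 1, 2, 5, 4, 1, 1, 0, 1, 1, 0, 5, 5, 0, 1, 1, 0, 1, 1, 0],
   .gap 5 0 false ⟨3, [0, 5, 2], []⟩ [.use 12 true [3] [],
      .norm [0, 5, 2, 4] [2, 0],
      .use 3 true [3] [],
      .norm [0, 5, 2, 0] [4],
      .app 0,
      .app 0,
      .app 2,
      .use 27 true [0, 0, 2, 2, 0, 0, 2, 1, 3, 3] [1, 1, 3, 3, 1, 1, 3, 0, 2, 2],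
      .norm [2, 0, 5, 2, 5, 0, 1, 0, 1, 1, 1, 0, 5, 0, 1, 1, 0, 1, 1] [2, 5, 2, 1, 2, 5, 0, 5, 0, 5, 5, 0, 1, 1, 1, 0, 1, 0, 1, 0, 5, 0, 5, 0],
      .use 18 false [3, 0, 1, 1, 1, 3, 3, 1, 3, 3, 3] [4, 2, 4, 0, 2, 4, 2],
      .norm [2, 0, 5, 2, 4, 5, 5, 0, 5, 5, 0, 5, 0, 1, 1, 0, 1, 0, 5, 5, 0, 1, 0, 5, 5, 0, 5, 0] [1, 0, 1, 2, 4, 5, 5, 0, 5, 5, 0, 1, 0, 1, 1, 0, 1, 0, 5, 0, 5, 5, 0, 1, 0, 5],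
      .app 0,
      .app 0,
      .app 2] [.app 2,
      .app 4,
      .app 4,
      .use 56 false [1, 2, 0, 2, 1, 1, 1, 2, 0] [3, 0, 4, 3, 0, 2, 0, 3, 0, 2],
      .norm [0, 5, 2, 0, 1, 0, 5, 0, 5, 0, 5, 0, 1, 1, 1, 0, 5, 0, 5] [2, 1, 2, 5, 2, 5, 5, 0, 1, 0, 5, 5, 0, 5, 5, 0, 5, 0, 5, 0, 1, 1]] [0, 5, 2, 0, 1, 0, 5, 0, 5, 0, 5, 0, 1, 1, 1, 0, 5, 0, 5] [1, 2, 5, 2, 4, 5, 5, 0, 5, 0, 1, 0, 1, 0, 5, 0, 5, 5, 0, 1, 1, 0, 1, 0, 1, 1, 0, 1],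
   .gap 1 1 true ⟨3, [4, 1, 1, 0], []⟩ [.use 14 true [2, 2] [],
      .norm [0, 1, 1, 2] [2],
      .app 2] [.app 2,
      .use 56 false [2, 0, 3, 0, 2, 1, 1, 1, 2, 0] [0, 4, 0, 2, 0, 4, 2, 2],
      .norm [0, 1, 1, 2, 4, 5, 0, 1, 1, 0, 1, 1, 1, 0, 1, 0, 1, 1] [2, 0, 1, 2, 5, 5, 0, 5, 0, 1, 1, 1, 0, 5, 5, 0, 1],
      .app 2] [2, 0, 1, 1, 2, 4, 5, 0, 1, 1, 0, 1, 1, 1, 0, 1, 0, 1, 1] [2, 1, 2, 5, 2, 1, 0, 5, 5, 0, 5, 0, 1, 1, 1, 0, 5, 5, 0, 1],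
   .gap 5 4 false ⟨3, [4, 1, 1, 0], []⟩ [.use 14 true [2, 2] [],
      .norm [0, 1, 1, 2] [2],
      .app 0,
      .app 0,
      .app 2,
      .use 58 false [0, 3, 0, 1, 2, 1] [8],
      .norm [2, 0, 1, 1, 2, 4, 5, 0, 1, 1, 0, 1, 1, 1, 0, 1, 0, 1, 1] [2, 1, 2, 5, 2, 1, 4, 5, 5, 0, 5, 0, 1, 1, 1, 0, 5, 5, 0, 1]] [.use 8 true [2, 2] [],
      .norm [0, 1, 1, 2, 0] [],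
      .app 2,
      .app 4,
      .app 4,
      .use 26 true [2, 1, 3, 1, 2, 0, 1, 2, 2, 0, 2, 1, 3, 3] [3, 1, 3, 3, 0, 0, 3, 3, 1, 3, 0],
      .norm [0, 1, 1, 2, 1, 1, 4, 1, 1, 0, 1, 0, 5, 5, 0, 1, 0, 5, 0, 5, 0, 1, 0, 1, 1, 0] [1, 2, 5, 2, 5, 5, 4, 1, 1, 0, 5, 5, 0, 5, 0, 1, 1, 0, 5, 0],
      .use 16 false [2, 0, 3, 3, 0, 0, 0, 3, 0, 0, 3, 1, 2] [2, 0, 2, 0, 2, 4, 2, 0, 2, 0],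
      .norm [0, 1, 1, 2, 1, 4, 5, 0, 1, 1, 0, 1, 1, 1, 0, 5, 0, 1, 0, 1, 0, 1, 1, 1] [2, 1, 0, 1, 2, 0, 1, 0, 5, 5, 0, 5, 0, 1, 1, 0, 1, 1, 0, 5, 0, 1, 0, 1, 0, 1, 0, 5],
      .app 2,
      .app 4,
      .app 4] [2, 0, 1, 1, 2, 1, 0, 5, 0, 1, 1, 0, 1, 1, 1, 0, 5, 0, 1, 0, 1, 0, 1, 1, 1] [2, 5, 5, 4, 5, 5, 0, 1, 1, 0, 1, 1, 0, 1, 1, 0, 5, 0, 5, 5, 0, 5],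
   .gap 2 4 false ⟨3, [5, 2, 1], []⟩ [.use 56 false [0, 2, 1, 1, 1, 2, 0] [3, 0, 3, 0, 2, 0],
      .norm [2, 1, 4, 1, 0, 1, 1, 1, 0, 1, 0, 1, 1] [2, 0, 1, 2, 1, 0, 1, 0, 1, 1, 1, 0, 1, 0, 1, 1],
      .app 0] [.use 25 false [1, 1, 2, 0, 0, 3, 3, 1] [3, 0, 3, 0, 2, 0],
      .norm [2, 5, 2, 0, 5, 0, 1, 0, 1, 1, 1, 0, 1, 1, 0, 5, 0, 1, 1, 0, 1] [1, 2, 5, 2, 1, 1, 0, 1, 1, 0, 5, 0, 1, 1, 0, 1, 1, 1, 0, 1, 0, 5, 5, 0, 1, 0],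
      .app 0] [2, 0, 5, 2, 4, 5, 0, 1, 0, 1, 1, 1, 0, 1, 1, 0, 5, 0, 1, 1, 0, 1] [2, 1, 2, 5, 5, 4, 5, 0, 1, 1, 1, 0, 1, 0, 1, 1, 0, 5, 5, 0, 5, 0, 5],
   .gap 2 2 true ⟨3, [5, 2, 1], []⟩ [.use 25 false [1, 1, 2, 0, 0, 3, 3, 1] [3, 0, 3, 0, 2, 0],
      .norm [2, 5, 2, 0, 5, 0, 1, 0, 1, 1, 1, 0, 1, 1, 0, 5, 0, 1, 1, 0, 1] [1, 2, 5, 2, 1, 1, 0, 1, 1, 0, 5, 0, 1, 1, 0, 1, 1, 1, 0, 1, 0, 5, 5, 0, 1, 0],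
      .use 52 false [] [4, 0, 3, 0, 4, 3, 0, 3, 0, 2],
      .norm [] [1, 2, 5, 2, 5, 0, 5, 0, 5, 5, 0, 1, 1, 0, 1, 0, 1, 1, 0, 5, 5, 0, 5, 0, 5],
      .app 0] [.app 0] [0, 5, 2, 1] [2, 5, 2, 5, 0, 5, 0, 5, 5, 0, 1, 1, 0, 1, 0, 1, 1, 0, 5, 5, 0, 5, 0, 5, 5],
   .gap 3 2 false ⟨3, [5, 2, 1], []⟩ [.use 56 false [0, 2, 1, 1, 1, 2, 0] [3, 0, 3, 0, 2, 0],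
      .norm [2, 1, 4, 1, 0, 1, 1, 1, 0, 1, 0, 1, 1] [2, 0, 1, 2, 1, 0, 1, 0, 1, 1, 1, 0, 1, 0, 1, 1],
      .app 0] [.app 0,
      .use 61 true [1, 2, 2, 2, 1, 3, 0, 2, 1, 0, 3, 1, 2, 0, 3, 3, 3, 0] [],
      .norm [0] [1, 2, 5, 2, 5, 0, 5, 0, 5, 5, 0, 1, 1, 0, 1, 0, 1, 1, 0, 5, 5, 0, 5, 0, 5]] [0] [2, 0, 1, 2, 1, 4, 1, 0, 1, 0, 1, 1, 0, 1, 0, 1, 1, 0, 5, 5, 0, 5, 0, 5, 5],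
   .gap 1 0 false ⟨3, [1, 0, 5, 0, 1, 1, 1, 2, 1, 1, 4, 5, 5, 0, 1, 0, 5, 5, 0, 5, 0, 1, 0, 1, 0, 1, 1, 0], []⟩ [.use 56 false [0, 2, 2, 1, 1, 3, 0, 0, 0, 2, 1, 1, 1, 2, 0] [],
      .norm [1, 0, 5, 0, 1, 0, 1, 1, 2, 5, 5, 4, 1, 1, 0, 5, 0, 5, 5, 0, 5, 5, 0, 5, 0, 1, 1, 0, 5] [2, 0, 1, 2, 5, 4, 1, 1, 0, 1, 1, 0, 5, 5, 0, 1, 1, 0, 1, 1, 0],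
      .app 2] [.app 2,
      .use 60 true [0, 3, 0, 2, 0, 3] [3, 0, 2, 0, 2, 4, 0, 2, 4, 0],
      .norm [1, 0, 5, 0, 1, 0, 1, 1, 2, 5, 0, 1, 1, 0, 1, 1, 1, 0, 1, 0, 1, 1] [1, 2, 5, 2, 1, 1, 4, 1, 0, 1, 1, 0, 5, 5, 0, 5, 0, 5],
      .app 2] [2, 1, 0, 5, 0, 1, 0, 1, 1, 2, 5, 0, 1, 1, 0, 1, 1, 1, 0, 1, 0, 1, 1] [2, 0, 1, 2, 0, 5, 0, 1, 1, 0, 5, 0, 5, 5, 0, 1, 1, 0, 1, 0, 1, 0, 5, 0],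
   .gap 1 0 false ⟨3, [0, 5, 2, 1, 4, 1, 0, 5, 0], []⟩ [.use 56 false [0, 3, 0, 2, 1, 1, 1, 2, 0] [3, 0, 3, 0, 2, 0],
      .norm [0, 1, 2, 4, 5, 0, 1, 1, 0, 1, 1, 1, 0, 1, 0, 1, 1] [2, 0, 1, 2, 1, 0, 1, 0, 1, 1, 1, 0, 1, 0, 1, 1],
      .app 2] [.app 2,
      .use 40 false [2, 2, 1, 3, 0, 2, 2, 2, 1, 2, 1, 1, 3, 3, 1] [4, 0, 3, 4, 0, 3, 4],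
      .norm [1, 2, 1, 0, 1, 2, 5, 4, 1, 1, 0, 1, 1, 0, 5, 5, 0, 5, 0, 1, 1, 0, 1, 1, 1] [2, 5, 2, 1, 2, 1, 0, 1, 0, 5, 5, 0, 1, 1, 0, 1, 0, 5, 5, 0, 1, 1, 0],
      .app 2] [2, 1, 2, 1, 0, 1, 2, 5, 4, 1, 1, 0, 1, 1, 0, 5, 5, 0, 5, 0, 1, 1, 0, 1, 1, 1] [2, 5, 2, 1, 1, 2, 4, 1, 0, 1, 0, 1, 1, 0, 5, 5, 0, 5, 0, 5, 0, 1, 0, 1, 1, 1, 0, 5, 5, 0],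
   .gap 1 1 true ⟨3, [2, 1, 0, 5, 0, 1, 1, 1, 2, 0, 5, 5, 0, 1, 0, 1, 0, 5, 0, 5], []⟩ [.use 52 false [0, 2, 2, 1, 1, 3, 0, 0] [4, 0, 3, 0, 4, 3, 0, 3, 0, 2],
      .norm [1, 0, 1, 1, 0, 5, 5, 0, 5, 0, 1, 1] [5, 4, 1, 0, 1, 1, 1, 0, 1, 1, 0, 5, 0, 1, 1, 0, 1],
      .app 2] [.app 2,
      .use 61 true [2, 0, 0, 0, 2, 1, 3, 0, 2, 0, 0, 0, 3, 1, 2, 0, 3, 3, 3, 0] [2, 4, 0, 2, 4, 2],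
      .norm [1, 4, 1, 1, 0, 5, 0, 5, 0, 5, 5, 0, 1, 1, 1, 0, 5, 0, 5] [1, 2, 5, 2, 1, 1, 4, 1, 0, 1],
      .app 2] [2, 1, 4, 1, 1, 0, 5, 0, 5, 0, 5, 5, 0, 1, 1, 1, 0, 5, 0, 5] [1, 2, 5, 2, 1, 4, 1, 0, 5, 0, 5, 0, 1, 1, 1, 0, 5, 0, 1],
   .gap 1 1 true ⟨3, [5, 2, 5, 2, 4], []⟩ [.use 52 false [1] [],
      .norm [5] [],
      .app 2] [.app 2,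
      .use 38 false [0, 2, 2, 1, 1, 2, 2, 0, 0, 3, 1, 2, 1] [0, 4, 2, 0, 2, 0, 3, 0],
      .norm [0, 5, 2, 5, 0, 5, 5, 0, 1, 0, 5, 5, 0, 5, 5, 0, 1, 1, 1] [0, 1, 0, 1, 1, 2, 4, 5, 0, 5, 5, 0, 5, 5, 0, 1, 0, 5, 0, 5, 0, 5, 0],
      .app 2] [2, 0, 5, 2, 5, 0, 5, 5, 0, 1, 0, 5, 5, 0, 5, 5, 0, 1, 1, 1] [0, 1, 0, 1, 1, 2, 4, 5, 0, 5, 5, 0, 5, 5, 0, 1, 0, 5, 0, 5, 0, 5, 0],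
   .gap 1 0 false ⟨3, [0, 1, 1, 2, 5, 2, 1, 0, 5, 0], []⟩ [.use 25 true [2, 0, 1, 1, 2, 0, 0, 3, 3, 1] [3, 0, 2, 0, 2, 4, 0, 2, 0, 4],
      .norm [0, 1, 2, 5, 4, 1, 1, 0, 1, 0, 5, 5, 0, 1, 1, 1, 0, 1, 1, 0, 1, 0] [2, 5, 2, 0, 1, 0, 5, 5, 0, 5, 5, 0, 5, 0, 1, 0, 1, 0, 5, 0, 5],
      .app 2,
      .use 61 true [3, 0, 2, 1, 3, 3, 0, 3, 1, 2, 0, 3, 3, 3, 0] [4, 2, 2, 4, 2, 2, 4, 2, 2, 0],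
      .norm [0, 5, 5, 0, 5, 5, 0, 5, 0, 5, 0, 5, 5, 0, 1, 1, 1, 0, 5, 0, 1, 0] [5, 0, 5, 0, 1, 1, 1, 2, 0, 5, 0, 1, 0, 1, 1, 0, 5, 0, 5, 5, 0, 5, 0, 1, 0, 1, 1, 0],
      .app 2] [.app 2] [1, 2, 5, 2, 1, 1, 2, 1, 1, 4, 1, 1, 1, 0, 1, 1, 1, 0, 1, 1, 1, 0, 1, 1, 1, 0, 1, 1, 1, 0] [2, 5, 2, 1, 2, 5, 0, 5, 0, 5, 0, 5, 0, 1, 0, 1, 0, 5, 5, 0, 1, 0],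
   .gap 5 4 false ⟨3, [0, 1, 1, 2, 5, 2, 1, 0, 5, 0], []⟩ [.use 52 false [2, 0] [],
      .norm [4, 1, 0, 1] [],
      .app 0,
      .app 0,
      .app 2] [.use 25 true [2, 0, 1, 1, 2, 0, 0, 3, 3, 1] [3, 0, 2, 0, 2, 4, 0, 2, 0, 4],
      .norm [0, 1, 2, 5, 4, 1, 1, 0, 1, 0, 5, 5, 0, 1, 1, 1, 0, 1, 1, 0, 1, 0] [2, 5, 2, 0, 1, 0, 5, 5, 0, 5, 5, 0, 5, 0, 1, 0, 1, 0, 5, 0, 5],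
      .app 2,
      .app 4,
      .app 4,
      .use 21 false [3, 0, 0, 2, 1, 3, 0, 2, 2, 2, 1, 3, 3, 1, 1, 3, 1, 1, 2] [4, 3, 0, 2, 0, 4, 2],
      .norm [2, 0, 1, 2, 0, 1, 2, 4, 1, 0, 1, 1, 1, 0, 5, 5, 0, 5, 5, 0, 5, 5, 0, 1, 0, 5, 0] [2, 1, 2, 1, 1, 2, 1, 2, 4, 1, 1, 0, 1, 0, 1, 1, 0, 1, 0, 5, 5, 0, 5, 0, 5, 5],
      .use 20 true [3, 0, 0, 2, 1, 3, 0, 2, 2, 2, 1, 2] [6, 1, 4],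
      .norm [2, 1, 2, 5, 2, 5, 5, 4, 1, 1, 0, 1, 1, 0, 1, 1, 0, 5, 0, 1, 1, 1, 0, 1, 1, 1] [1, 0, 1, 1, 2, 0, 1, 2, 4, 5, 5, 0, 1, 0, 1, 0, 5, 0, 5, 5, 0, 5, 0, 5, 0, 1, 0],
      .app 2,
      .app 4,
      .app 4,
      .use 38 false [2, 2, 0, 0, 2, 2, 0, 0, 2, 1, 2, 1] [3, 0, 4, 3, 0, 3, 0, 4, 0],
      .norm [0, 1, 2, 1, 0, 5, 0, 5, 5, 0, 1, 1, 1, 0, 1, 0, 5] [2, 1, 1, 2, 0, 1, 2, 1, 1, 2, 5, 5, 4, 5, 5, 0, 1, 0, 1, 1, 0, 1, 1, 0, 1, 0]] [0, 1, 2, 1, 0, 5, 0, 5, 5, 0, 1, 1, 1, 0, 1, 0, 5] [2, 1, 1, 2, 0, 1, 2, 1, 1, 2, 5, 5, 4, 5, 5, 0, 1, 0, 1, 1, 0, 1, 1, 0, 1, 0],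
   .gap 5 0 false ⟨3, [1, 1, 2, 5, 2, 4], []⟩ [.use 52 false [0, 0] [],
      .norm [1, 1] [],
      .use 53 false [3, 0, 0, 0, 3, 1, 1, 1, 3, 1, 1, 1, 3, 1] [],
      .norm [1, 2, 1, 2, 5, 0, 5, 0, 5, 0, 1, 0, 1, 1, 0, 5, 5, 0, 1, 1, 0, 1, 1] [2, 1, 0, 1, 2, 1, 0, 1, 0, 1, 0, 5, 0, 5, 5, 0, 1, 1, 0, 5, 5, 0, 5, 5, 0, 5, 0],
      .app 0,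
      .app 0,
      .app 2,
      .use 32 false [3, 1, 3, 3, 0, 2, 2, 0, 3, 1, 1] [9, 7, 3, 8],
      .norm [0, 5, 0, 5, 0, 5, 5, 0, 1, 0, 1, 1, 0, 1, 0, 5, 0, 5, 5] [1, 1, 4, 1, 0, 5, 5, 0, 1, 1, 0, 1, 0, 1, 1]] [.app 2,
      .app 4,
      .app 4,
      .use 38 false [1, 3, 3, 0, 2, 2, 1, 1, 2, 2, 1, 2, 1] [2, 0, 2, 0, 4, 2, 2],
      .norm [0, 1, 2, 4, 5, 5, 0, 1, 0, 1, 0, 1, 1, 0, 5, 5, 0, 5, 0, 1] [0, 1, 0, 1, 1, 2, 1, 1, 0, 1, 0, 5, 0, 5, 0, 5, 5, 0, 1, 1, 0, 1, 0, 1, 0, 5, 5, 0, 5, 0],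
      .use 68 true [1, 3, 3, 0, 2, 2, 1, 1, 2, 2, 3, 1, 1, 3, 3, 1, 1, 3, 3] [],
      .norm [2, 5, 5, 2, 1, 1, 2, 5, 0, 5, 0, 5, 5, 0, 1, 1, 0, 5, 5, 0, 1, 1, 0, 1, 1, 0, 1, 1, 1] [2, 5, 2, 1, 2, 0, 1, 1, 0, 1, 0, 1, 1, 1, 0, 1, 0, 1, 0, 5, 0, 5, 0, 5],
      .app 2,
      .app 4,
      .app 4] [5, 5, 2, 1, 1, 2, 5, 4, 5, 0, 5, 5, 0, 1, 1, 0, 5, 5, 0, 1, 1, 0, 1, 1, 0, 1, 1, 1] [2, 5, 2, 1, 2, 1, 1, 0, 1, 0, 1, 0, 5, 0, 5, 5, 0, 5, 5],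
   .gap 1 0 false ⟨3, [0, 5, 2, 0, 5, 2, 1, 0, 1, 0, 1, 0, 1], []⟩ [.use 25 true [3, 1, 1, 2, 0, 0, 3, 3, 1] [2, 4, 0, 4, 2, 4, 0, 4],
      .norm [1, 0, 1, 2, 0, 5, 5, 0, 5, 0, 1, 1, 0, 1, 0, 5, 0, 5, 5, 0, 1, 1, 0, 1, 0] [2, 5, 2, 1, 1, 0, 5, 0, 1, 1, 0, 1, 0, 5, 0, 5, 5, 0, 5, 0, 5, 0, 5],
      .app 2] [.app 2,
      .use 60 true [0, 0, 0, 2, 2, 0, 2, 1, 3, 3] [0, 2, 4, 0, 4, 2, 0, 4, 0, 2],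
      .norm [0, 5, 2, 5, 2, 1, 2, 1, 0, 1, 0, 5, 5, 0, 1, 1, 0, 1, 0, 1, 0, 1, 1, 0, 5] [0, 1, 2, 5, 4, 1, 0, 1, 1, 0, 5, 0, 5, 5, 0, 5, 0, 1, 1, 0, 1, 0, 1, 0, 5],
      .app 2] [0, 5, 2, 0, 5, 2, 5, 5, 0, 5, 5, 0, 1, 0, 1, 1, 0, 1, 0, 1, 1, 0, 5, 5, 0, 1] [2, 5, 2, 1, 0, 1, 2, 5, 4, 1, 1, 0, 5, 0, 1, 1, 0, 1, 1, 1, 0, 1, 0, 1, 0, 1, 0, 5],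
   .gap 1 1 true ⟨3, [0, 5, 2, 0, 5, 2, 1, 0, 1, 0, 1, 0, 1], []⟩ [.use 52 false [3] [2, 4, 0, 2, 0, 4, 3, 0, 2, 2],
      .norm [4, 5, 0] [5, 0, 5, 0, 5, 0, 5, 0],
      .app 2] [.app 2,
      .use 21 false [0, 0, 0, 2, 2, 0, 2, 1, 3, 3, 1, 3, 3, 1, 1, 3, 1, 1, 2] [2, 2, 0, 4, 2, 2],
      .norm [0, 5, 2, 5, 2, 1, 2, 1, 1, 1, 0, 1, 1, 0, 5, 0, 1, 0, 1, 0, 1, 1, 0, 1] [5, 0, 1, 1, 2, 0, 1, 1, 0, 5, 5, 0, 1, 1, 0, 1, 0, 1, 0, 5, 0, 5],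
      .app 2] [0, 5, 2, 0, 5, 2, 5, 4, 1, 0, 5, 5, 0, 1, 0, 1, 1, 1, 0, 1, 1, 0, 5, 0, 1, 1, 0, 1] [5, 0, 1, 1, 2, 1, 4, 1, 1, 0, 1, 1, 0, 1, 0, 5, 0, 5, 0, 1, 0, 1, 1, 0, 1, 0],
   .gap 5 0 false ⟨3, [0, 5, 2, 0, 5, 2, 1, 0, 1, 0, 1, 0, 1], []⟩ [.use 52 false [3] [2, 4, 0, 2, 0, 4, 3, 0, 2, 2],
      .norm [4, 5, 0] [5, 0, 5, 0, 5, 0, 5, 0],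
      .use 53 false [3, 0, 2, 0, 0, 0, 2, 0, 1, 3, 1, 1, 1, 3, 1] [],
      .norm [0, 5, 5, 2, 1, 2, 5, 5, 0, 5, 0, 1, 0, 1, 1, 0, 5, 5, 0, 1, 1, 0, 1, 1] [2, 1, 0, 1, 2, 1, 1, 1, 4, 5, 0, 5, 0, 1, 1, 0, 1, 0, 5, 0, 5, 0, 1, 1],
      .app 0,
      .app 0,
      .app 2,
      .use 39 false [3, 1, 1, 3, 1, 1, 2, 0, 2, 1, 3, 3, 3, 0, 2, 2, 1, 3, 3] [7, 1, 7],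
      .norm [2, 0, 5, 2, 1, 4, 1, 1, 0, 1, 0, 1, 1, 0, 1, 1, 0, 1] [0, 1, 0, 1, 1, 2, 5, 5, 0, 5, 5, 0, 5, 0, 1, 0, 1, 0, 1, 0, 5, 0, 5, 5]] [.app 2,
      .app 4,
      .app 4,
      .use 61 true [0, 3, 1, 1, 3, 0, 0, 0, 0, 3, 1, 2, 0, 3, 3, 3, 0] [2, 2, 0, 4, 3, 0, 4, 2, 2],
      .norm [1, 1, 1, 4, 1, 0, 1, 0, 5, 0, 5, 0, 1, 1, 0, 1, 0] [1, 2, 5, 2, 1, 1, 1, 0, 1, 1, 0, 1, 0, 5, 5, 0, 1, 0, 1, 1, 0, 5, 5, 0, 1, 1, 0],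
      .use 62 true [2, 0, 3, 0, 0, 2, 0, 3, 0, 0, 1, 3, 1, 1, 1, 3, 1, 3, 0] [4, 2, 0],
      .norm [2, 5, 2, 1, 2, 4, 1, 0, 1, 1, 1, 0, 1, 0, 1, 1, 0, 5, 5, 0, 1, 1, 0, 5, 5, 0] [2, 0, 1, 2, 4, 5, 0, 1, 1, 0, 1, 0, 5, 5, 0, 1, 0, 5, 0, 5, 0, 5, 5, 0, 1, 0],
      .app 2,
      .app 4,
      .app 4] [5, 2, 1, 2, 0, 1, 0, 1, 1, 1, 0, 1, 0, 1, 1, 0, 5, 5, 0, 1, 1, 0, 5, 5, 0] [2, 1, 1, 4, 1, 1, 0, 1, 1, 0, 5, 0, 5, 0, 5, 0, 1, 0, 1, 1, 1, 0, 5],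
   .gap 5 2 true ⟨3, [0, 5, 2, 0, 5, 2, 1, 0, 1, 0, 1, 0, 1], []⟩ [.use 25 true [3, 1, 1, 2, 0, 0, 3, 3, 1] [2, 4, 0, 4, 2, 4, 0, 4],
      .norm [1, 0, 1, 2, 0, 5, 5, 0, 5, 0, 1, 1, 0, 1, 0, 5, 0, 5, 5, 0, 1, 1, 0, 1, 0] [2, 5, 2, 1, 1, 0, 5, 0, 1, 1, 0, 1, 0, 5, 0, 5, 5, 0, 5, 0, 5, 0, 5],
      .use 56 false [3, 0, 2, 1, 1, 1, 2, 0] [],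
      .norm [0, 5, 2, 4, 1, 0, 1, 0, 1, 1, 1, 0, 1, 0, 1, 1] [1, 2, 5, 2, 5, 0, 5, 0, 5, 0, 5, 0, 1, 1, 0, 1, 0, 1, 0],
      .app 2,
      .app 4,
      .app 4] [.app 0,
      .app 0,
      .app 2,
      .use 20 false [0, 3, 1, 1, 3, 0, 0, 0, 0, 3, 1, 2, 0, 3, 3] [2, 4, 0, 2, 4, 2],
      .norm [2, 0, 5, 2, 1, 4, 5, 0, 5, 5, 0, 5, 0, 1, 0, 1, 0, 5, 0, 5, 5, 0, 5, 0] [5, 0, 5, 5, 2, 0, 5, 2, 5, 5, 4, 5, 5, 0, 5, 0, 1, 0, 1, 1, 0, 5, 0, 5, 0, 1],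
      .use 21 true [2, 1, 1, 3, 0, 2, 1, 3, 3, 1, 3, 3, 1, 1, 3, 1, 1, 2] [9, 9, 7],
      .norm [0, 5, 5, 2, 1, 2, 0, 1, 0, 5, 0, 5, 0, 1, 0, 1, 0, 1, 1, 0, 5, 5, 0, 1, 1, 0] [2, 1, 0, 1, 2, 4, 5, 0, 1, 1, 0, 1, 0, 1, 1, 0, 1, 0],
      .app 0,
      .app 0,
      .app 2,
      .use 40 false [2, 2, 0, 3, 1, 2, 2, 2, 1, 1, 3, 3, 1] [2, 2, 4, 0, 3, 0, 4, 2],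
      .norm [2, 1, 0, 1, 2, 4, 1, 1, 0, 1, 0, 5, 0, 5, 0, 1, 0, 1, 0, 5, 0, 5, 5] [2, 5, 0, 1, 1, 2, 1, 0, 1, 1, 0, 5, 5, 0, 5, 5, 0, 1, 0, 1, 1, 0, 5, 5, 0, 1, 1, 0]] [2, 1, 0, 1, 2, 4, 1, 1, 0, 1, 0, 5, 0, 5, 0, 1, 0, 1, 0, 5, 0, 5, 5] [5, 0, 1, 2, 1, 2, 1, 4, 5, 5, 0, 5, 0, 1, 1, 0, 5, 0, 5, 5, 0, 1, 1, 1, 0, 1, 0, 1, 1],
   .gap 5 0 false ⟨1, [2, 5, 0, 1, 2, 1, 1, 2, 4, 1, 0, 1, 0, 1, 1, 0, 5, 5, 0, 5, 5, 0, 1, 0, 1, 1, 0, 5, 0, 5, 0], []⟩ [.use 36 false [2, 1, 1, 2, 1, 1] [3, 3, 0, 2, 1, 3, 1, 2, 0, 0],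
      .norm [0, 1, 0, 5, 5, 0, 1, 0, 5, 5] [0, 5, 5, 0, 1, 0, 1, 0, 5, 0, 5, 0, 5, 0, 1, 0, 1, 1],
      .use 43 true [2, 2, 0, 3, 0, 0, 3, 3] [3, 3],
      .norm [2, 5, 0, 1, 2, 1, 1, 2, 1, 4, 1, 0, 5, 0, 5, 5, 0, 5, 0, 5, 5, 0, 1, 0, 1, 0, 1, 1] [5, 2, 1, 2, 1, 2, 4, 5, 0, 5, 0, 5, 0, 1, 1, 0, 5, 0, 1, 1, 0, 1, 1, 1, 0, 1, 0],
      .app 0,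
      .app 0,
      .app 2] [.app 2,
      .app 4,
      .app 4,
      .use 17 true [2, 0, 2, 1, 3, 1, 2, 0, 0, 1, 3] [1, 1, 3, 3, 1, 2, 2, 0, 3, 1, 2],
      .norm [5, 0, 1, 1, 1, 2, 5, 4, 5, 0, 5, 5, 0, 1, 1, 0, 1, 0, 1, 1, 1, 0, 1, 0, 1] [2, 5, 0, 1, 0, 1, 0, 1, 1, 0, 5, 5, 0, 1, 1, 0, 1, 1, 0, 5, 0, 5, 5, 0, 1, 0],
      .use 30 true [2, 0, 2, 1, 3, 1, 2, 0, 3, 1, 2, 0, 3, 1, 3, 3, 3] [8, 1, 7, 2],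
      .norm [5, 0, 1, 1, 1, 2, 5, 4, 5, 5, 0, 1, 1, 0, 1, 0, 1, 1, 0, 5, 0, 1, 0, 1, 0, 1, 1] [1, 2, 5, 2, 1, 0, 1, 1, 0, 1, 1, 0, 5, 0, 5, 5],
      .app 2,
      .app 4,
      .app 4,
      .use 70 false [0, 2, 0, 0, 2, 2, 0, 0, 3, 2, 0, 0, 2, 2, 0, 0, 2] [2, 0, 3, 0, 2, 0, 4, 2, 4],
      .norm [5, 0, 1, 2, 1, 1, 2, 1, 1, 4, 1, 0, 1, 1, 0, 5, 0, 1, 1, 0, 5, 0, 1, 0, 1, 1, 0, 5] [2, 1, 2, 5, 2, 5, 0, 5, 0, 5, 5, 0, 5, 0, 5, 0, 1, 1, 1, 0, 1, 1, 0, 1]] [5, 0, 1, 2, 1, 1, 2, 1, 1, 4, 1, 0, 1, 1, 0, 5, 0, 1, 1, 0, 5, 0, 1, 0, 1, 1, 0, 5] [2, 5, 2, 0, 1, 0, 5, 5, 0, 5, 5, 0, 1, 1, 0, 5, 0, 1, 0, 1, 1, 0, 5, 5, 0],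
   .gap 5 2 true ⟨1, [2, 5, 0, 1, 2, 1, 1, 2, 4, 1, 0, 1, 0, 1, 1, 0, 5, 5, 0, 5, 5, 0, 1, 0, 1, 1, 0, 5, 0, 5, 0], []⟩ [.use 41 false [2, 1, 1, 2, 1, 1] [3, 3, 0, 2, 1, 3, 1, 2, 0, 0],
      .norm [2, 5, 0, 1, 2, 1, 1, 2, 1, 1, 4, 1, 1, 1, 0, 1, 0, 1, 0, 5, 0, 5, 0, 5, 0, 1, 0, 1] [5, 2, 1, 2, 1, 2, 0, 5, 5, 0, 1, 1, 0, 5, 5, 0, 1, 1, 0, 1, 0, 1, 1, 1, 0, 5],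
      .use 42 false [2, 1, 1, 2, 1, 1] [],
      .norm [4, 5, 0, 1, 1, 1, 0, 5, 5, 0, 1, 0] [5, 0, 5, 0, 1, 1, 0, 1, 0, 5, 5, 0, 5, 5, 0, 1, 1, 0, 1, 0],
      .app 2,
      .app 4,
      .app 4] [.app 0,
      .app 0,
      .app 2,
      .use 15 false [2, 0, 2, 1, 3, 1, 2, 0, 0] [0, 3, 1, 3, 0, 0, 2, 1, 3, 1, 1],
      .norm [0, 1, 0, 1, 0, 1, 0, 5, 0, 5, 0, 5, 0, 1, 0, 1, 1] [1, 0, 5, 0, 5, 0, 5, 0, 1, 1, 0, 1, 0, 5, 0, 5, 0, 5, 5],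
      .use 28 true [2, 1, 3, 0, 2, 0] [9, 3, 9],
      .norm [0, 5, 2, 5, 2, 1, 2, 5, 5, 4, 5, 5, 0, 5, 0, 1, 1, 0, 1, 1, 0, 1, 1, 1, 0, 5, 0, 1] [1, 2, 5, 2, 4, 1, 1, 0, 1, 0, 1, 1, 0, 5, 0, 5, 5, 0, 5, 0, 1, 0, 1, 0, 5, 0],
      .app 0,
      .app 0,
      .app 2,
      .use 67 true [2, 0, 0, 3, 3, 1, 3, 3, 0, 0, 3, 1, 1, 1, 2, 2, 1, 1] [0, 4, 3, 4, 0, 2, 2, 4, 3, 0],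
      .norm [1, 0, 1, 2, 1, 4, 1, 0, 1, 1, 0, 5, 0, 5, 0, 1, 0, 1, 1, 0, 1, 1, 0, 5] [5, 4, 5, 0, 5, 5, 0, 5, 5, 0, 5, 0, 5, 0, 5, 5, 0, 1, 1]] [1, 0, 1, 2, 1, 4, 1, 0, 1, 1, 0, 5, 0, 5, 0, 1, 0, 1, 1, 0, 1, 1, 0, 5] [5, 5, 0, 5, 0, 5, 5, 0, 5, 0, 1, 1, 0, 5, 0, 5, 5, 0, 1, 1, 0, 1, 0],
   .gap 1 0 false ⟨4, [0, 1, 2, 0, 1, 1, 1], []⟩ [.use 20 true [0, 0, 2, 0, 0, 2, 2, 0, 1, 2] [6, 1, 4],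
      .norm [0, 1, 0, 1, 1, 1, 2, 4, 1, 1, 1, 0, 5, 0, 1, 1, 0, 1, 0, 1, 1, 0, 1, 1, 0] [2, 0, 1, 2, 1, 1, 1, 0, 1, 1, 1, 0, 1, 0, 1, 1, 0, 5, 0, 5, 5, 0],
      .app 2,
      .use 70 false [3, 3, 0, 2, 2, 1, 1, 2, 1, 1, 2, 0, 0, 2, 2, 0, 0, 2] [3, 4, 3, 0, 2, 0, 2, 0, 4],
      .norm [5, 2, 0, 1, 0, 1, 1, 1, 2, 4, 1, 0, 5, 5, 0, 1, 0, 1, 1, 0, 1, 0, 1, 0, 5, 0, 5, 0] [5, 5, 2, 5, 2, 1, 2, 5, 4, 5, 0, 1, 1, 0, 1, 1, 0, 5, 0, 1, 0, 1, 0, 1, 1],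
      .app 2] [.app 2] [2, 0, 1, 2, 0, 1, 1, 1] [1, 2, 1, 0, 1, 1, 0, 1, 1, 1, 0, 1, 0, 5, 5, 0, 1, 0, 1, 1, 0, 1, 1, 0, 1],
   .gap 1 1 true ⟨4, [0, 1, 2, 0, 1, 1, 1], []⟩ [.use 21 true [0, 0, 2, 0, 0, 2, 2, 0, 1, 3, 3, 1, 1, 3, 1, 1, 2] [],
      .norm [0, 1, 2, 0, 1, 1, 1, 2] [1, 1, 0, 5, 5, 0, 1, 0, 5, 5, 0, 1, 0, 5],
      .app 2,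
      .use 67 true [3, 3, 1, 1, 3, 1, 1, 2, 0, 0, 0, 3, 1, 1, 1, 2, 2, 1, 1] [0, 2, 4, 0, 4, 2, 4, 0, 4],
      .norm [2, 1, 2, 5, 2, 0, 1, 0, 5, 5, 0, 1, 1, 0, 1, 0, 5, 5, 0, 5, 0, 1, 0, 1, 0, 1, 0, 5] [5, 0, 5, 0, 1, 1, 1, 2, 5, 4, 5, 5, 0, 1, 1, 1, 0, 5, 0, 1, 1, 0, 5, 0, 5, 5, 0, 5, 0, 1, 1],
      .app 2] [.app 2] [2, 0, 1, 2, 0, 1, 1, 1] [2, 5, 2, 0, 1, 1, 2, 1, 4, 1, 1, 0, 5, 5, 0, 5, 0, 1, 1, 0, 1, 0, 5, 5, 0, 1, 0, 5, 5, 0, 1],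
   .gap 5 0 false ⟨3, [2, 0, 5], []⟩ [.use 60 true [] [3, 0, 2, 0, 2, 4, 0, 2, 0],
      .norm [2, 0, 1, 0, 1, 0, 1, 1, 1, 0, 1, 0, 1, 1] [0, 1, 2, 1, 4, 1, 0, 1, 0, 1, 1, 0, 1, 0, 1, 1, 0, 5, 5, 0, 5, 0, 5, 5, 0],
      .use 62 false [1, 2, 1, 0, 3, 0] [],
      .norm [0] [2, 0],
      .app 0,
      .app 0,
      .app 2] [.app 2,
      .app 4,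
      .app 4,
      .use 11 false [3] [],
      .norm [0, 5, 2] [2, 0, 0],
      .use 7 true [3] [],
      .norm [4, 5, 0] [],
      .app 2,
      .app 4,
      .app 4,
      .use 19 false [1, 2] [4, 2, 11, 5, 11, 0, 5],
      .norm [0, 5, 2, 0, 5, 5, 0, 5, 5, 0, 5, 0, 1, 1, 1, 0] [1, 0, 1, 2, 0, 1, 0, 1, 0, 1, 0, 5, 5, 0, 1, 0, 1, 1, 0, 1, 1, 0]] [0, 5, 2, 0, 5, 5, 0, 5, 5, 0, 5, 0, 1, 1, 1, 0] [2, 0, 1, 1, 1, 2, 1, 4, 1, 1, 0, 5, 0, 1, 1, 0, 5, 0, 5, 5, 0, 1, 0, 1, 1, 0, 1, 1],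
   .gap 5 0 false ⟨3, [2, 0, 5, 2, 5, 4, 1, 1, 0, 5, 0, 5, 5, 0, 1, 1, 0, 1, 0, 5, 5, 0, 1, 0, 5, 0], []⟩ [.use 60 true [2, 2, 0, 3, 0, 0, 3, 3] [4, 2, 4, 0, 3, 0, 3, 0, 2, 2],
      .norm [1, 2, 5, 4, 1, 1, 1, 0, 5, 0, 1, 1, 0, 5, 0, 5, 5, 0, 1, 0, 1, 1] [1, 2, 5, 2, 4, 1, 0, 5, 0, 5, 5, 0, 1, 0, 5, 5, 0, 1, 0, 1, 1, 1, 0, 1, 0],
      .use 62 false [1, 3, 1, 2, 0, 0, 2, 0, 0, 0, 3, 0] [5, 2, 4, 2],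
      .norm [1, 1, 4, 1, 0, 1, 1, 1, 0, 1, 1, 0, 5, 0, 1, 0, 1, 1, 0, 1] [5, 5, 0, 5, 5, 0, 1, 1, 0, 5, 5, 0, 5, 5],
      .app 0,
      .app 0,
      .app 2] [.app 2,
      .app 4,
      .app 4,
      .use 56 false [0, 0, 0, 2, 1, 3, 0, 0, 0, 0, 2, 1, 1, 1, 2, 0] [4, 0, 2, 0, 3, 0, 3, 4, 3],
      .norm [2, 1, 2, 5, 2, 1, 1, 1, 4, 1, 0, 1, 0, 5, 0, 5, 0, 5, 0, 1, 1, 0, 1, 0, 5, 5, 0, 1] [2, 0, 1, 2, 5, 5, 0, 5, 5, 0, 1, 0, 5, 5, 0, 1, 0, 1, 1, 0, 1, 0, 1, 0],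
      .use 57 true [1, 1, 2, 0, 3, 0, 0, 0, 2, 1, 1, 3, 1, 1, 1, 3, 1, 3, 0] [3, 5, 5, 0],
      .norm [2, 1, 2, 5, 2, 1, 4, 1, 0, 5, 0, 5, 5, 0, 5, 0, 5, 5, 0, 1, 0, 5, 0, 5] [5, 0, 5, 5, 2, 0, 5, 2, 0, 5, 5, 0, 5, 0, 5, 0, 5, 5, 0, 1, 1, 0, 1, 0, 1, 0, 5, 0, 5, 5],
      .app 2,
      .app 4,
      .app 4,
      .use 45 true [3, 1, 2, 2, 0, 2, 1, 3, 3, 0, 3, 3, 0, 0, 3] [6, 4, 8],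
      .norm [2, 0, 5, 2, 5, 4, 5, 5, 0, 1, 1, 0, 1, 0, 5, 5, 0, 5, 5, 0, 1, 1, 1, 0, 1] [5, 0, 1, 2, 0, 1, 1, 2, 5, 4, 1, 0, 1, 1, 0, 1, 0, 5, 5, 0, 1, 0, 1, 1, 1, 0, 5, 0, 1, 0, 1, 0, 1]] [2, 0, 5, 2, 5, 4, 5, 5, 0, 1, 1, 0, 1, 0, 5, 5, 0, 5, 5, 0, 1, 1, 1, 0, 1] [5, 0, 1, 2, 0, 1, 1, 2, 5, 5, 4, 1, 1, 0, 1, 1, 0, 5, 0, 1, 1, 0, 1, 0],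
   .gap 1 1 true ⟨3, [0, 5, 5, 2, 5, 2, 0, 5, 0, 1, 0, 1, 1, 1, 0, 1, 1, 0, 5, 0, 1, 1, 0, 1], []⟩ [.use 60 true [3, 3] [],
      .norm [0, 5, 5, 2, 1, 4, 1, 0, 1, 1, 1, 0, 1, 0, 1, 1] [1, 2, 5, 2, 0, 5, 5, 0, 1, 1, 0, 1, 0, 5, 0, 5, 5, 0, 1, 0, 1, 1],
      .app 2] [.app 2,
      .use 70 false [3, 0, 2, 2, 1, 1, 3, 1, 1, 2, 2, 0, 0, 2, 2, 0, 0, 2] [2, 0, 2, 4, 0, 2, 0, 3, 0],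
      .norm [2, 0, 1, 1, 0, 1, 1, 2, 4, 1, 0, 5, 5, 0, 5, 0, 5, 0, 1, 1, 0, 1, 1, 0, 1, 1, 0, 1, 0] [5, 2, 1, 0, 1, 2, 1, 0, 5, 5, 0, 1, 0, 1, 1, 0, 1, 1, 0, 5, 0, 5, 0, 5, 0, 1, 0, 1, 0],
      .app 2] [0, 1, 1, 0, 1, 1, 2, 4, 1, 0, 5, 5, 0, 5, 0, 5, 0, 1, 1, 0, 1, 1, 0, 1, 1, 0, 1, 0] [2, 5, 5, 2, 5, 2, 1, 2, 5, 5, 0, 1, 0, 1, 1, 0, 1, 0, 1, 1, 0, 5, 0, 1, 0, 1, 0, 1, 0, 5],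
   .gap 1 1 true ⟨3, [2, 0, 5, 2, 4, 5, 5, 0, 1, 0, 1, 0, 1, 1, 1, 0, 1, 0, 1, 0, 5, 0, 5, 0, 5, 0], []⟩ [.use 30 false [0, 0, 2, 1, 3, 0, 0, 0, 1, 2, 0, 3, 1, 3, 3, 3] [2, 2, 4, 0, 3, 0, 2, 0, 2],
      .norm [1, 1, 0, 1, 1, 0, 1, 0, 1, 0, 1, 1, 0, 5, 5, 0, 5, 0, 5, 0, 1, 0, 1, 0] [1, 0, 1, 2, 0, 1, 0, 1, 1, 0, 1, 0, 1, 1, 0, 5, 5, 0, 1, 1, 0, 1, 0, 1, 0],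
      .app 2] [.app 2,
      .use 61 true [1, 2, 2, 2, 1, 3, 0, 2, 1, 0, 3, 1, 2, 0, 3, 3, 3, 0] [2, 0, 4, 3, 0, 4],
      .norm [0] [1, 2, 5, 2, 1, 1, 1, 4, 1, 1, 0, 1, 0, 1, 1, 1, 0, 1, 0, 1, 0],
      .app 2] [2, 0] [2, 5, 0, 5, 0, 1, 0, 1, 0, 1, 1, 0, 1, 0, 5, 0, 5, 0, 5, 5, 0],
   .gap 1 1 true ⟨3, [0, 1, 2, 0, 1, 0, 1], []⟩ [.use 30 false [2, 1, 2, 0, 3, 1, 3, 3, 3] [3, 4, 0, 2, 0, 2, 0, 4, 2, 2],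
      .norm [5, 5, 4, 5, 0, 5, 0, 5, 5, 0, 5] [2, 1, 0, 1, 2, 4, 1, 0, 1, 1, 0, 1, 0, 1, 0, 1, 0],
      .app 2] [.app 2,
      .use 70 false [0, 0, 0, 2, 2, 0, 3, 3, 0, 2, 0, 0, 2, 2, 0, 0, 2] [0, 2, 4, 0, 2, 4, 0, 3],
      .norm [1, 2, 5, 2, 5, 0, 1, 1, 0, 5, 5, 0, 5, 0, 5, 0] [2, 5, 2, 1, 0, 1, 2, 5, 4, 5, 5, 0, 5, 0, 1, 1, 1, 0, 5, 5, 0, 1, 0, 5, 0, 5, 0, 1],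
      .app 2] [2, 1, 2, 5, 2, 5, 0, 1, 1, 0, 5, 5, 0, 5, 0, 5, 0] [2, 5, 2, 1, 2, 4, 1, 0, 5, 0, 5, 0, 1, 1, 0, 1, 0, 5, 0, 5, 0, 1, 0, 1, 1, 0, 5, 0, 5],
   .gap 5 0 false ⟨4, [1, 1, 4, 1, 1, 0, 1, 0, 5, 5, 0, 1], []⟩ [.use 17 false [2, 2, 2, 0, 2, 1, 3, 0] [8, 1, 7, 2],
      .norm [2, 0, 5, 2, 4, 1, 1, 0, 1, 0, 5, 5, 0, 1, 0, 1, 1, 0, 1, 0, 5, 0, 5, 0, 1, 1, 0, 1] [5, 5, 4, 1, 1, 0, 5, 0, 5, 5, 0, 5, 0, 5, 0],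
      .use 15 false [0, 0, 2, 1, 3, 0, 0, 0] [1, 2, 2, 2, 0, 2, 1, 3, 3, 1, 1, 2],
      .norm [1, 1, 0, 1, 0, 5, 0, 5, 0, 1, 1, 1] [5, 4, 1, 0, 5, 5, 0, 1, 1, 1, 0, 1, 1, 0, 1, 0],
      .app 0,
      .app 0,
      .app 2,
      .use 81 false [0, 0, 2, 2, 0, 3, 3, 0, 1, 2, 2, 1, 3, 3, 1, 1] [2, 0],
      .norm [2, 0] [2, 0, 1, 0, 1, 0, 1, 0, 5, 0, 5, 5, 0, 1, 1, 0, 5, 5, 0, 1, 1, 0, 1]] [.app 2,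
      .app 4,
      .app 4,
      .use 20 true [1, 2] [2, 4, 6],
      .norm [0, 5, 2, 4, 1, 0, 5] [2, 0, 1, 2, 0, 1, 0, 5, 5, 0, 5, 0, 5, 5, 0, 1, 1, 0, 1, 1, 1],
      .use 61 true [1, 2, 2, 2, 1, 3, 0, 2, 1, 0, 3, 1, 2, 0, 3, 3, 3, 0] [2, 2, 0, 2, 0, 2],
      .norm [0] [0, 1, 0, 1, 0, 1, 0, 5, 0, 5, 5, 0, 1, 1, 0, 5, 5, 0, 1, 1, 0, 1],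
      .app 2,
      .app 4,
      .app 4] [2, 4] [2],
   .gap 1 0 false ⟨4, [5, 2, 4, 5, 0, 1, 0, 1, 0, 1, 1, 0, 1, 0, 1, 1, 1], []⟩ [.use 78 true [1, 1, 2, 1, 3, 0] [],
      .norm [5, 0, 5, 5, 2, 1, 0, 1, 0, 5, 5, 0, 1, 0] [1, 2, 5, 2, 0, 5, 0, 1, 0, 1, 0, 5, 0, 5, 5, 0, 1, 0, 1, 1, 0, 1, 0, 1, 1, 0, 5, 0],
      .app 2] [.app 2,
      .use 76 true [3, 0, 2, 1, 3, 1, 2, 0, 0, 2, 2, 1, 3, 0, 2, 1, 3, 3, 1, 3, 3, 3] [9, 1],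
      .norm [2, 0, 1, 2, 0, 1, 1, 1, 2, 5, 5, 4, 5, 0, 1, 1, 0, 1, 0, 5, 5, 0, 5, 0, 1, 1, 0, 5, 0, 1, 0] [5, 2, 1, 0, 1, 2, 1, 4, 1, 0, 1, 0, 5, 5, 0, 5, 0, 1, 1, 0, 1, 1, 0, 1, 0, 5, 5, 0],
      .app 2] [0, 1, 2, 0, 1, 1, 1, 2, 5, 5, 4, 5, 0, 1, 1, 0, 1, 0, 5, 5, 0, 5, 0, 1, 1, 0, 5, 0, 1, 0] [2, 0, 1, 0, 1, 0, 1, 1, 2, 5, 5, 4, 5, 0, 1, 1, 0, 1, 0, 5, 0, 5, 5, 0, 1, 1, 0, 1, 0],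
   .gap 5 0 false ⟨2, [5, 2, 5], []⟩ [.use 22 false [1, 0, 0, 3, 1, 3, 3, 3, 1, 2] [1, 10, 4, 11],
      .norm [5, 5, 2, 1, 2, 5, 0, 5, 5, 0, 5, 5, 0, 5, 0, 5, 5, 0, 1, 1, 0, 1, 0, 1, 0, 1, 1, 0, 1] [2, 1, 1, 1, 4, 1, 1, 0, 1, 1, 0, 5, 5, 0, 1, 0, 5, 0, 5, 0, 5, 5, 0, 1],
      .use 81 false [0, 3, 1, 2, 2, 0, 3, 0, 1, 2, 2, 1, 3, 3, 1, 1] [4, 3, 7],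
      .norm [5, 5, 2, 1, 4, 1, 0, 1, 0, 1, 1, 0, 5, 5, 0, 1, 1, 1, 0, 1, 0, 1] [1, 2, 5, 2, 0, 1, 1, 0, 5, 0, 5, 5, 0, 1, 1, 1, 0, 1, 1, 0, 5, 0, 1],
      .app 0,
      .app 0,
      .app 2] [.app 2,
      .app 4,
      .app 4,
      .use 54 false [3, 1, 2, 1] [2, 10, 8, 4, 2, 4],
      .norm [0, 5, 2, 4, 5, 5, 0, 5, 0, 5, 0, 5, 0, 1, 1, 0, 1, 0, 1, 1] [2, 5, 0, 1, 1, 2, 5, 4, 5, 0, 1, 0, 1, 1, 1, 0, 5, 0, 5, 0, 1, 1, 1, 0, 1],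
      .use 55 true [3, 1, 2, 1] [],
      .norm [0, 5, 5, 2, 1, 1, 4, 1, 0, 5, 5, 0, 5, 0, 1, 1, 0, 5, 0, 5, 5] [0, 1, 0, 1, 1, 1, 2, 5, 5, 4, 1, 0, 5, 5, 0, 1, 0, 1, 1, 0, 1, 0, 1, 1, 0, 5, 0, 1, 0, 1],
      .app 2,
      .app 4,
      .app 4,
      .use 33 false [0, 3, 3, 1, 2, 0, 3, 1, 2, 0, 0, 2, 0, 3, 3, 1, 3, 0] [4, 8, 4],
      .norm [0, 5, 0, 1, 0, 1, 1, 1, 2, 0, 1, 0, 1, 1, 1, 0, 1, 1, 0, 1, 0, 1, 0, 5, 0, 5] [1, 2, 0, 1, 1, 2, 0, 5, 5, 0, 5, 5, 0, 5, 0, 5, 0, 1, 0, 1, 0, 1, 1, 1, 0, 1, 0, 1, 0]] [0, 5, 0, 1, 0, 1, 1, 1, 2, 0, 1, 0, 1, 1, 1, 0, 1, 1, 0, 1, 0, 1, 0, 5, 0, 5] [1, 1, 1, 2, 1, 2, 5, 0, 5, 0, 1, 1, 1, 0, 5, 5, 0, 5, 0, 5, 0, 5, 5, 0, 1, 1, 0, 1,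 0, 1, 0],
   .gap 1 0 false ⟨6, [1, 0, 1, 2, 5, 0, 5, 0, 1, 0, 1, 1, 0, 5, 0, 5], []⟩ [.use 47 false [2, 0] [],
      .norm [5, 5, 2, 1, 2, 5, 0, 1, 1, 0, 1, 1, 1, 0, 1, 0, 5, 5, 0, 1, 0, 1, 1, 0, 1, 1, 1] [5, 2, 1, 1, 2, 1, 0, 5, 0, 5, 0, 1, 0, 1, 0, 5, 0, 5, 0, 5, 0, 1],
      .app 2,
      .use 66 true [2, 2, 1, 1, 3, 0, 2, 1, 3, 3, 1, 3, 0, 0, 1, 1, 2, 0, 0, 3, 3, 0, 0, 2] [0, 6, 3],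
      .norm [1, 0, 1, 0, 1, 1, 2, 5, 4, 5, 5, 0, 5, 5, 0, 5, 0, 1, 1, 0, 5, 5, 0, 5, 0, 5, 0, 5, 5] [1, 1, 2, 5, 2, 5, 5, 4, 1, 1, 1, 0, 5, 0, 1, 1, 0, 1, 1, 0, 5, 0, 5, 5, 0, 1, 0, 1],
      .app 2] [.app 2] [2, 1, 0, 1, 2, 5, 0, 5, 0, 1, 0, 1, 1, 0, 5, 0, 5] [1, 1, 2, 0, 1, 2, 1, 0, 5, 5, 0, 5, 0, 1, 1, 0, 5, 0, 5, 5, 0, 1, 1, 0, 5, 0, 1, 0],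
   .gap 1 1 true ⟨4, [5, 5, 2, 1, 2, 5, 0, 5, 0, 5, 0, 5, 0], []⟩ [.use 82 false [2, 0, 0, 0, 2, 2, 2, 1, 1] [2, 6, 9],
      .norm [5, 2, 5, 2, 1, 2, 4, 1, 0, 1, 0, 5, 0, 5, 5, 0, 5, 5, 0, 5, 5, 0, 5] [1, 2, 5, 2, 1, 0, 1, 0, 5, 0, 5, 5, 0, 5, 0, 5, 0, 1, 1, 1, 0, 1, 0, 1, 1],
      .app 2] [.app 2,
      .use 77 true [1, 1, 3, 0, 2, 1, 1, 2, 0, 0, 3, 0, 2, 1, 3, 3, 1, 3, 3, 3] [2, 9, 6],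
      .norm [5, 0, 1, 2, 0, 1, 1, 1, 2, 5, 5, 4, 1, 1, 0, 1, 1, 0, 1, 1, 0, 5, 0, 5, 5, 0, 1, 0, 1, 0] [0, 1, 2, 0, 1, 0, 1, 1, 2, 4, 5, 0, 5, 5, 0, 5, 0, 5, 5, 0, 1, 1, 0, 5, 5, 0, 5, 0, 5, 0, 1],
      .app 2] [5, 2, 1, 1, 1, 2, 1, 2, 1, 1, 4, 5, 0, 5, 0, 1, 1, 1, 0, 5, 0, 5, 0, 1, 0, 1, 1, 0, 5] [5, 2, 1, 0, 1, 1, 2, 0, 1, 0, 1, 0, 1, 0, 5, 0, 5, 0, 1, 0, 1, 0, 1, 1, 0, 1],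
   .gap 5 2 true ⟨4, [0, 1, 0, 1, 1, 2, 5, 0, 1, 0, 1, 0, 5, 0, 5, 5, 0, 5, 0, 5, 0, 1, 1, 1, 0, 1], []⟩ [.use 37 false [2, 0, 2, 2, 2, 0, 1, 1, 3, 1, 1, 1, 3, 3, 3, 0, 0] [7, 3, 8, 0],
      .norm [0, 1, 0, 1, 1, 2, 5, 4, 5, 5, 0, 5, 5, 0, 1, 0, 5, 0, 5, 0, 5, 0, 1, 1, 0] [5, 0, 1, 0, 1, 1, 1, 0, 1, 1, 0, 1, 0, 5, 0, 5, 0, 5, 5, 0, 5],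
      .use 47 false [2, 0, 2, 2, 2, 0] [6, 6, 5, 1],
      .norm [5, 0, 5, 5, 2, 0, 5, 2, 1, 1, 1, 0, 5, 0, 5, 0, 5, 0, 1, 0, 1, 1, 0, 1, 1, 0] [5, 2, 1, 1, 2, 5, 0, 5, 5, 0, 1, 0, 5, 0, 5, 0, 1, 0, 1, 1, 1, 0, 1, 0],
      .app 2,
      .app 4,
      .app 4,
      .use 68 true [0, 2, 0, 0, 0, 3, 0, 0, 3, 1, 3, 1, 1, 3, 3, 1, 1, 3, 3] [4, 4, 2, 4],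
      .norm [1, 0, 1, 1, 2, 1, 0, 1, 1, 0, 1, 0, 5, 0, 5, 0, 5, 5, 0, 1, 1, 0, 1] [5, 2, 1, 2, 1, 0, 5, 5, 0, 1, 1, 0, 1, 0, 5, 0, 5, 0, 1, 0, 1, 1, 0, 5, 0, 5, 0]] [.app 0,
      .app 0,
      .app 2,
      .use 24 false [2, 2, 0, 3, 1, 1, 3, 0, 0, 2, 0] [8, 8, 6],
      .norm [2, 5, 5, 2, 5, 5, 2, 5, 2, 5, 4, 5, 5, 0, 1, 1, 0, 1, 1, 0, 1, 0, 1, 0, 5, 0, 5, 0, 1] [4, 5, 0, 1, 1, 0, 5, 0, 1, 0, 1, 1, 0, 1, 1, 0, 5, 5, 0, 1],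
      .use 55 false [0, 0, 0, 3, 1, 1, 2, 2, 0, 3, 1, 2, 2] [2, 0, 6, 0],
      .norm [1, 0, 1, 1, 2, 5, 5, 0, 1, 1, 0, 1, 1, 0, 1, 0, 1, 0, 5, 5] [0, 1, 2, 4, 1, 0, 5, 5, 0, 5, 0, 1, 0, 1, 0, 5, 0, 5, 5, 0, 1, 0, 1, 0],
      .app 0,
      .app 0,
      .app 2] [2, 1, 0, 1, 1, 2, 5, 5, 4, 1, 1, 0, 1, 1, 0, 1, 0, 1, 0, 5, 5] [5, 0, 5, 0, 1, 1, 1, 2, 5, 0, 1, 0, 5, 5, 0, 1, 1, 0, 1, 0, 5, 5, 0, 5, 0, 5, 0, 1, 0, 1, 1],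
   .gap 1 0 false ⟨6, [0, 1, 2, 1, 2, 0, 1, 2, 4, 5, 5, 0, 5, 0, 5, 0, 1, 0, 1, 1, 1, 0, 1, 0, 1, 0, 1, 0, 5, 0], []⟩ [.use 68 true [1, 1, 3, 0, 0, 0, 3, 1, 1, 3, 3, 1, 1, 3, 3] [],
      .norm [5, 5, 2, 0, 1, 1, 0, 1, 1, 0, 1, 0, 5, 5, 0, 1, 1, 1, 0, 1, 1] [5, 2, 1, 0, 1, 2, 0, 5, 0, 1, 0, 1, 0, 1, 1, 0, 5, 5, 0, 5, 0, 5],
      .app 2] [.app 2,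
      .use 64 true [1, 1, 3, 0, 2, 0, 0, 0, 3, 0, 2, 0, 0, 1, 3, 1, 3, 0, 0, 2, 2, 0, 3, 3, 1] [7, 5, 1],
      .norm [5, 5, 2, 5, 2, 1, 0, 1, 1, 1, 0, 1, 0, 1, 1, 1, 0, 5, 0, 5, 0, 1, 0, 1, 0] [0, 5, 2, 1, 1, 2, 5, 0, 1, 0, 5, 5, 0, 5, 5, 0, 1, 0, 5, 0, 5, 0, 1, 1, 0, 1],
      .app 2] [2, 5, 5, 2, 5, 2, 1, 0, 1, 1, 1, 0, 1, 0, 1, 1, 1, 0, 5, 0, 5, 0, 1, 0, 1, 0] [2, 0, 1, 2, 1, 1, 2, 1, 2, 4, 1, 0, 1, 1, 0, 5, 5, 0, 5, 0, 5, 0, 5, 5, 0, 1, 1],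
   .gap 1 0 false ⟨3, [5, 5, 2, 1, 2, 1, 1, 1, 4, 1, 1, 0, 1, 0, 1, 1, 0, 1, 0, 5, 0, 5, 0, 5, 0], []⟩ [.use 38 false [2, 0, 1, 2, 1] [],
      .norm [1, 0, 1, 2, 5, 0, 5, 0, 1, 1, 0, 5, 0, 5, 5, 0, 5] [2, 5, 2, 1, 1, 2, 0, 1, 2, 1, 0, 1, 0, 1, 0, 1, 1, 0, 5, 5, 0, 5, 5, 0, 1, 0, 1, 1, 0, 1, 1],
      .app 2] [.app 2,
      .use 67 true [1, 2, 0, 0, 3, 1, 2, 1, 3, 1, 1, 1, 2, 2, 1, 1] [0, 3, 4, 0, 3, 0, 4, 0, 2],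
      .norm [0, 5, 2, 5, 0, 1, 1, 0, 1, 0, 5, 0, 5, 0, 5, 5, 0, 5, 0, 1, 1, 0, 5, 0, 1, 1, 0] [5, 0, 5, 0, 1, 1, 1, 2, 1, 1, 1, 0, 1, 1, 0, 5, 0, 1, 1, 0, 5, 0, 5, 5, 0, 1, 0, 1, 1, 0, 5, 5, 0],
      .app 2] [2, 0, 5, 2, 5, 0, 1, 1, 0, 1, 0, 5, 0, 5, 0, 5, 5, 0, 5, 0, 1, 1, 0, 5, 0, 1, 1, 0] [1, 1, 1, 2, 1, 1, 1, 4, 1, 0, 5, 5, 0, 1, 0, 1, 1, 0, 1, 1, 0, 5, 0],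
   .loop 1 0 false ⟨7, [], []⟩ [.use 52 true [0, 2, 0, 0, 0, 2, 0, 1, 3, 1, 1, 1, 3, 1] [],
      .norm [2, 5, 2, 4] [],
      .app 2,
      .use 13 false [1] [],
      .norm [5, 0] [4],
      .app 2,
      .use 54 false [1] [1, 10, 5, 10, 8, 1, 5],
      .norm [5, 2, 5, 0, 5, 0, 1, 1, 1, 0, 5, 0, 5] [2, 1, 2, 5, 2, 1, 0, 1, 0, 1, 0, 1, 1, 1, 0, 1, 0, 1, 0],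
      .app 2] [2, 5, 2, 5, 0, 5, 0, 1, 1, 1, 0, 5, 0, 5] [2, 1, 2, 5, 2, 1, 0, 1, 0, 1, 0, 1, 1, 1, 0, 1, 0, 1, 0],
   .loop 2 2 false ⟨7, [], []⟩ [.use 52 true [0, 2, 0, 0, 0, 2, 0, 1, 3, 1, 1, 1, 3, 1] [],
      .norm [2, 5, 2, 4] [],
      .app 4,
      .use 61 true [2, 2, 1, 3, 0, 2, 2, 2, 0, 0, 3, 1, 2, 0, 3, 3, 3, 0] [4, 3, 4, 0, 4, 2, 0, 2, 0],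
      .norm [0, 5, 0, 5, 0, 1, 1, 0, 5, 0, 1, 0, 1, 0, 1, 1, 1, 0, 1, 0, 1, 1] [0, 1, 2, 5, 4, 5, 0, 5, 5, 0, 1, 1, 1, 0, 1, 1, 0, 5, 0, 1, 1, 0, 1, 0],
      .use 62 true [1, 2, 1, 1, 3, 1, 1, 1, 3, 1, 3, 0] [4, 4],
      .norm [0, 5, 2, 1, 4, 1, 0, 1, 0, 1, 1, 0, 5, 5, 0, 5, 0, 5, 5, 0, 1, 0] [2, 1, 2, 5, 2, 4, 1, 1, 0, 1, 0, 1, 1, 0, 5, 5, 0, 5, 0, 5, 0, 5, 0],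
      .app 0] [5, 2, 1, 0, 5, 0, 1, 1, 0, 1, 0, 1, 1, 0, 5, 5, 0, 5, 0, 5, 0] [2, 1, 2, 5, 2, 4, 1, 1, 0, 1, 0, 1, 1, 0, 5, 5, 0, 5, 0, 5, 0, 5, 0],
   .gap 1 1 true ⟨7, [0, 5, 5, 0, 1, 1, 0, 5, 0], []⟩ [.use 53 false [3, 0, 0, 2, 0, 0, 0, 2, 0, 1, 3, 1, 1, 1, 3, 1] [2],
      .norm [2, 5, 2, 1, 1, 1, 0, 1, 1, 0, 1, 0, 1, 1, 0, 5, 5, 0, 5, 0, 1, 0, 1] [2, 1, 0, 1, 2, 0, 1, 0, 1, 1, 1, 0, 1, 0, 5, 0, 5, 0, 5, 5, 0, 5, 5, 0, 1, 0],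
      .app 2,
      .use 57 false [3, 1, 3, 0, 0, 0, 3, 1, 3, 0] [2, 9, 3, 0],
      .norm [0, 5, 2, 4, 1] [2, 5, 0, 1, 1, 0, 5, 5],
      .app 2] [.app 2] [2, 0, 5, 5, 0, 1, 1, 0, 5, 0] [0, 1, 2, 5, 0, 1, 1, 0, 5, 5, 0, 1],
   .gap 1 0 false ⟨7, [1, 1, 2, 5, 0, 5, 0, 1, 1, 1, 0, 5, 0, 5], []⟩ [.use 55 true [0, 0] [],
      .norm [1, 1, 1, 2, 4, 5, 0, 1, 0, 1, 0, 1, 0, 5, 5, 0, 5, 0, 1, 1, 0, 5, 0, 5, 5] [1, 0, 1, 2, 5, 0, 5, 5, 0, 5, 0, 1, 1, 0, 1, 0, 5, 5, 0, 1, 0, 1, 1, 1],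
      .app 2,
      .use 33 false [2, 0, 2, 0, 3, 1, 1, 2, 2, 0, 2, 0, 0, 2, 0, 3, 3, 1, 3, 0] [4, 3, 0, 4],
      .norm [0, 1, 1, 2, 1, 1, 0, 1, 0, 5, 5, 0, 1, 0, 1, 1, 0, 5, 5, 0, 5, 0, 1, 0, 1, 0] [5, 0, 5, 0, 1, 1, 1, 2, 1, 0, 5, 0, 1, 1, 1, 0, 1, 0, 5, 0, 5, 0, 5, 5, 0, 5, 5],
      .app 2] [.app 2] [2, 1, 1, 2, 5, 0, 5, 0, 1, 1, 1, 0, 5, 0, 5] [2, 0, 1, 2, 0, 1, 2, 1, 1, 0, 1, 1, 1, 0, 1, 0, 1, 0, 5, 0, 5, 0, 5, 5, 0, 1, 1],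
   .gap 5 0 false ⟨7, [1, 1, 2, 5, 0, 5, 0, 1, 1, 1, 0, 5, 0, 5], []⟩ [.use 54 true [0, 0] [],
      .norm [1, 1, 2, 1, 0] [1, 4, 1, 0, 1, 1, 1, 0, 1, 0, 1, 0],
      .use 58 false [0, 0, 1, 2, 1] [10, 2, 1, 4, 11, 6],
      .norm [1, 1, 2, 1, 2, 5, 4, 5, 0, 1, 1, 0, 5, 0, 1, 0, 1, 0, 1, 1, 1, 0, 1, 0, 1, 1] [2, 0, 1, 2, 5, 5, 0, 5, 5, 0, 1, 0, 1, 1, 0, 1, 0, 5, 5, 0, 5, 5, 0],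
      .app 0,
      .app 0,
      .app 2,
      .use 92 true [0, 2, 1, 3, 0, 0, 0, 2, 2, 1, 1, 3, 2, 0, 0, 3, 3, 1, 1, 1, 2, 0, 3, 1] [0, 9, 2],
      .norm [2, 0, 1, 1, 2, 1, 1, 0, 1, 0, 5, 5, 0, 1, 0, 1, 1, 0, 5, 5, 0, 5, 0, 1, 0, 1, 0] [5, 2, 1, 0, 1, 1, 2, 1, 1, 0, 5, 5, 0, 5, 5, 0, 5, 5, 0, 5, 0, 5, 0, 5, 5, 0, 5, 5, 0, 1],
      .use 34 true [0, 0, 2, 2, 2, 1, 1, 3, 0, 0, 3, 1, 2, 2, 0, 3, 1, 1, 3, 1, 1, 3] [4, 2, 4, 2, 4, 4],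
      .norm [0, 1, 0, 5, 0, 5, 5, 2, 0, 5, 0, 5, 0, 1, 1, 0, 5, 0, 5, 5, 0, 5, 0, 1, 1, 0, 5, 0, 1, 1, 1, 0, 1] [1, 2, 0, 1, 1, 2, 0, 5, 0, 5, 0, 5, 0, 1, 0, 1, 0, 5, 5, 0, 1, 0, 5, 0],
      .app 0,
      .app 0,
      .app 2,
      .use 34 true [1, 3, 0, 2, 1, 1, 3, 0, 2, 1, 3, 3, 1, 2, 2, 0, 3, 1, 1, 3, 1, 1, 3] [4, 4, 0, 4, 2, 4, 0],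
      .norm [2, 0, 1, 2, 0, 1, 2, 5, 0, 5, 0, 5, 0, 1, 0, 1, 1, 0, 1, 1, 1, 0, 1, 0, 1, 0, 1, 0] [1, 0, 5, 2, 5, 5, 2, 1, 2, 5, 4, 5, 0, 5, 5, 0, 1, 0, 5, 0, 5, 0, 5, 0, 1, 1, 1, 0, 1]] [.app 2,
      .app 4,
      .app 4] [2, 1, 1, 2, 5, 4, 5, 0, 1, 1, 1, 0, 5, 0, 5] [1, 1, 2, 1, 1, 2, 1, 2, 5, 0, 5, 5, 0, 5, 0, 5, 0, 1, 0, 1, 0, 5, 5, 0, 5, 0, 5, 0, 1, 1, 0],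
   .gap 1 0 false ⟨3, [5, 2, 1, 0, 1, 2, 1, 2], []⟩ [.use 70 false [2, 0, 0, 3, 3, 0, 0, 0, 2, 2, 0, 0, 2, 2, 0, 0, 2] [4, 2, 2, 4, 2, 2, 4, 3],
      .norm [0, 1, 1, 2, 5, 2, 4, 1, 0, 1, 0, 1, 0, 5, 0, 5, 5, 0, 1, 1, 0, 5, 5, 0, 5, 5] [5, 2, 1, 0, 1, 2, 4, 5, 0, 5, 0, 5, 5, 0, 1, 1, 0, 1, 1, 0, 1, 0, 1, 0, 5],
      .app 2] [.app 2,
      .use 67 true [2, 0, 3, 3, 1, 3, 1, 1, 3, 0, 3, 1, 1, 1, 2, 2, 1, 1] [4, 0, 4, 3, 4, 0, 4, 2, 0, 4, 2, 0],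
      .norm [0, 5, 5, 2, 5, 2, 1, 2, 1, 1, 0, 1, 0, 1, 1, 1, 0, 1, 1, 0, 1, 0, 5, 0, 5, 0, 1] [2, 5, 5, 2, 5, 2, 1, 2, 4, 5, 0, 5, 5, 0, 5, 0, 5, 5, 0, 1, 0, 1, 1, 0, 1, 0, 1],
      .app 2] [1, 2, 0, 1, 0, 1, 1, 1, 2, 1, 1, 4, 5, 0, 1, 1, 0, 1, 1, 1, 0, 5, 5, 0, 5, 0, 1, 1, 0, 1] [1, 1, 1, 2, 1, 0, 1, 1, 2, 1, 1, 0, 1, 0, 5, 5, 0, 1, 0, 5, 5],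
   .gap 1 0 false ⟨7, [5, 2, 4, 5, 0, 1, 1, 0, 1, 0, 1, 1], []⟩ [.use 57 true [1, 3, 0, 0, 2, 0, 0, 1, 1, 3, 1, 1, 1, 3, 1, 3, 0] [],
      .norm [5, 2, 1, 1, 0, 5, 5, 0, 1, 0, 5, 5, 0, 1, 0, 1, 1, 0, 5, 0, 5, 5, 0, 1, 0] [2, 1, 0, 1, 2, 0, 1, 0, 5, 5, 0, 1, 0, 1, 1, 0, 1, 1, 1, 0, 5],
      .app 2,
      .use 33 false [3, 0, 0, 3, 3, 1, 2, 2, 0, 2, 0, 0, 0, 2, 0, 3, 3, 1, 3, 0] [8, 3, 3, 0],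
      .norm [0, 1, 2, 1, 2, 0, 1, 2, 5, 0, 1, 0, 1, 1, 0, 5, 0, 5, 5, 0, 1, 1, 0, 5, 0, 1, 0] [2, 0, 1, 2, 0, 1, 2, 1, 4, 5, 0, 5, 5, 0, 1, 0, 1, 1, 1, 0, 5, 0, 5],
      .app 2] [.app 2] [2, 5, 2, 4, 5, 0, 1, 1, 0, 1, 0, 1, 1] [0, 5, 0, 1, 0, 1, 1, 1, 2, 4, 5, 0, 1, 0, 1, 0, 1, 1, 0, 5, 0, 5, 0, 5, 5, 0, 1, 1, 0, 1, 0, 1, 0],
   .gap 5 0 false ⟨7, [5, 2, 4, 5, 0, 1, 1, 0, 1, 0, 1, 1], []⟩ [.use 56 true [1, 3, 0, 0, 2, 0, 0, 1] [],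
      .norm [0, 1, 0, 1, 1, 2, 5, 4, 5, 0, 1, 0, 1, 0, 5, 0, 5, 5, 0, 5, 5, 0, 1, 0] [5, 2, 1, 2, 0, 5, 5, 0, 5, 5, 0, 1, 1, 0, 5, 5, 0, 5, 5],
      .use 25 false [2, 0, 2, 1, 1, 2, 0, 0, 3, 3, 1] [],
      .norm [0, 1, 0, 1, 2, 1, 2, 4, 5, 5, 0, 1, 0, 1, 1, 1, 0, 1, 1, 0, 5, 0, 1, 1, 0, 1] [2, 1, 2, 5, 5, 4, 5, 0, 1, 1, 1, 0, 1, 0, 1, 1, 0, 5, 5, 0, 5, 0, 5],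
      .app 0,
      .app 0,
      .app 2,
      .use 40 false [3, 0, 0, 0, 2, 1, 3, 1, 1, 2, 0, 2, 1, 1, 3, 3, 1] [0, 4, 0, 3, 0, 3, 4, 0, 2, 2],
      .norm [0, 1, 2, 0, 1, 1, 1, 2, 0, 5, 5, 0, 5, 0, 5, 0, 5, 5, 0, 1, 0, 1, 0, 1, 0] [5, 5, 2, 1, 1, 2, 5, 4, 5, 5, 0, 1, 1, 0, 5, 0, 1, 1, 0, 1, 0, 5, 0, 5, 0, 5],
      .use 73 true [3, 0, 2, 0, 0, 2, 1, 3, 0, 1, 2, 2, 1, 1, 3, 0, 0, 3] [4, 2, 1],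
      .norm [2, 0, 1, 0, 1, 0, 1, 1, 2, 5, 0, 5, 5, 0, 1, 1, 0, 5] [2, 5, 0, 1, 1, 1, 2, 5, 5, 4, 1, 0, 5, 5, 0, 1, 0, 5, 5, 0, 1, 0, 1, 0],
      .app 0,
      .app 0,
      .app 2,
      .use 95 true [0, 0, 3, 3, 1, 1, 3, 0, 2, 1, 0, 2, 1, 3] [0, 9, 5, 0],
      .norm [0, 1, 1, 0, 1, 2, 1, 2, 1, 4, 1, 1, 0, 5, 5, 0, 5, 5, 0, 1, 1, 0, 1, 1, 0] [0, 5, 2, 0, 1, 1, 1, 2, 1, 1, 4, 1, 0, 1, 0, 5, 0, 5, 0, 5, 5, 0, 1, 1, 1]] [.app 2,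
      .app 4,
      .app 4] [2, 5, 2, 0, 5, 0, 1, 1, 0, 1, 0, 1, 1] [1, 0, 1, 2, 1, 2, 5, 5, 4, 1, 0, 5, 0, 5, 0, 1, 0, 1, 1, 0, 1, 0, 5, 5, 0, 1, 0, 1],
   .gap 1 0 false ⟨7, [2, 0, 5, 2, 5, 2, 5, 5, 4, 5, 0, 5, 5, 0, 1, 1, 0, 5, 0, 1, 0, 1, 0, 5, 0, 5], []⟩ [.use 74 true [0, 3, 1, 1, 3, 1, 1, 1, 3, 1, 2, 0, 0, 3, 1] [4, 9, 6],
      .norm [5, 2, 1, 1, 2, 0, 1, 1, 1, 0, 1, 1, 0, 5, 0, 1, 1, 0, 1, 0, 1, 0, 5] [0, 1, 0, 1, 2, 1, 1, 2, 5, 4, 1, 1, 0, 1, 1, 0, 5, 5, 0, 5, 0, 5, 0, 5, 5, 0, 1],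
      .app 2,
      .use 90 false [1, 3, 0, 2, 0, 3, 1, 1, 3, 1, 2, 0, 3, 3, 1, 2, 0, 0, 3, 0, 0, 3, 3] [6, 5, 0, 0],
      .norm [0, 1, 1, 2, 0, 1, 2, 1, 4, 5, 0, 1, 0, 1, 0, 1, 1, 0, 5, 0, 5, 5, 0, 5, 0, 1, 1, 0] [0, 5, 2, 0, 5, 0, 5, 5, 2, 4, 1, 1, 0, 5, 5, 0, 5, 5, 0, 5, 0, 5, 0, 5, 5, 0, 1, 1, 1, 0, 1],
      .app 2] [.app 2] [0, 5, 2, 5, 2, 5, 5, 4, 5, 0, 5, 5, 0, 1, 1, 0, 5, 0, 1, 0, 1, 0, 5, 0, 5] [0, 5, 2, 0, 5, 0, 5, 5, 2, 5, 0, 1, 0, 1, 1, 1, 0, 5, 5, 0, 5, 0, 5, 0, 1, 0, 1, 0, 1, 0, 5, 0],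
   .define 6 7 [5, 2, 1, 2, 5, 5, 4, 5, 0, 5, 0, 5, 0, 1, 0] 8,
   .conj 98 [0, 3, 1, 1, 2, 1, 3, 0, 0, 3, 1, 3, 0, 3] [5, 6, 3] [1, 0, 5, 5, 0, 1, 0, 5, 0, 5, 0, 1, 1, 1, 0, 5, 0, 5, 0] [2, 1, 2, 5, 2, 5, 5, 4, 1, 1, 0, 5, 0, 1, 1, 1, 0, 5, 0, 1, 0, 1, 0, 1, 1, 0, 5, 5],
   .conj 98 [2, 0, 2, 2, 0, 2, 3, 1, 2, 0, 3, 2, 2, 2] [9, 9, 6] [4, 1, 0, 1, 0, 1, 1, 1, 0, 1, 0, 1, 1, 0] [2, 1, 2, 5, 2, 1, 1, 4, 1, 1, 0, 5, 0, 5, 5, 0, 1, 1, 0, 5, 5, 0, 5, 0, 1, 1, 0, 1],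
   .gap 5 4 false ⟨3, [0, 5, 2, 1, 0, 5, 0], []⟩ [.use 60 true [1, 2] [3, 0, 2, 0, 2, 4, 0, 2, 0],
      .norm [0, 5, 2, 1, 0, 5, 0, 5, 0, 5, 0, 1, 1, 1, 0, 5, 0, 5] [0, 1, 2, 1, 4, 1, 0, 1, 0, 1, 1, 0, 1, 0, 1, 1, 0, 5, 5, 0, 5, 0, 5, 5, 0],
      .app 0,
      .app 0,
      .app 2,
      .use 98 false [3, 1, 3, 1] [6],
      .norm [1, 0, 1, 0, 1, 0, 1, 0] [2, 0, 1, 2, 1, 0, 5, 5, 0, 1, 1, 0, 1, 0, 5, 5, 0, 1, 0, 1, 1, 0, 5, 5, 0, 1, 0]] [.use 21 false [1, 2, 1, 3, 3, 1, 1, 3, 1, 1, 2] [2, 4, 0, 2, 0, 2, 4, 0, 4, 2],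
      .norm [0, 5, 2, 4, 5, 5, 0, 5, 5, 0, 5, 0, 5, 5, 0, 1, 0, 1, 1, 1, 0] [5, 0, 1, 1, 2, 1, 0, 5, 5, 0, 5, 0, 5, 5, 0, 5, 0, 1, 0, 1, 0],
      .app 2,
      .app 4,
      .app 4,
      .use 20 true [2, 0, 0, 3, 3, 1, 1, 3, 1, 2] [9, 3, 3, 0],
      .norm [0, 5, 2, 0, 5, 0, 5, 5, 0, 5, 5, 0, 1, 1, 0, 1, 0, 1, 0, 5, 0] [2, 0, 5, 0, 1, 0, 1, 1, 1, 2, 1, 0, 5, 5, 0, 5, 5, 0, 1, 1, 0, 1, 0, 1, 0, 1, 0, 5],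
      .use 61 true [0, 0, 2, 2, 1, 1, 3, 3, 0, 0, 3, 1, 2, 0, 3, 3, 3, 0] [0, 4, 0, 3, 0, 4, 2],
      .norm [1, 4, 1, 1, 0, 5, 0, 1, 1, 0, 1, 1, 0, 5, 0, 5, 5, 0, 5] [5, 0, 5, 0, 5, 2, 5, 2, 4, 5, 5, 0, 5, 5, 0, 1, 0, 5, 5, 0, 5, 0, 1, 0, 1, 0],
      .app 2,
      .app 4,
      .app 4] [2, 1, 0, 1, 1, 0, 5, 0, 1, 1, 0, 1, 1, 0, 5, 0, 5, 5, 0, 5] [2, 0, 1, 2, 1, 0, 1, 1, 0, 1, 0, 5, 5, 0, 5, 5, 0, 1, 0, 5, 5, 0, 5, 0, 5, 0],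
   .gap 1 0 false ⟨7, [2, 5, 2, 0, 5, 0, 5, 5, 0, 5, 0, 5, 5, 0, 1, 1, 1, 0, 5, 0, 1, 0, 1, 0], []⟩ [.use 99 true [0, 2, 2, 1, 1, 3, 0, 0, 0, 2, 0, 0] [8, 6, 3, 0],
      .norm [1, 0, 5, 5, 0, 1, 0, 1, 1, 0, 5, 0, 5, 5, 0, 5, 5, 0, 5, 0] [1, 2, 5, 2, 4, 1, 0, 1, 0, 5, 5, 0, 1, 0, 5, 0, 5, 0, 5, 5, 0, 1, 1, 0, 1, 0, 1],
      .app 2] [.app 2,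
      .use 98 false [1, 1, 2, 1, 3, 1, 2, 0] [2, 8, 6, 4],
      .norm [5, 5, 4, 1, 0, 5, 0, 5, 0, 5, 0, 1, 0, 1] [1, 1, 1, 0, 1, 1, 0, 1, 1, 0, 1, 0, 5, 0, 5, 0, 5, 5, 0, 1, 0],
      .app 2] [2, 5, 5, 4, 1, 0, 5, 0, 5, 0, 5, 0, 1, 0, 1] [2, 0, 1, 2, 5, 4, 1, 0, 1, 0, 1, 1, 0, 5, 5, 0, 1, 1, 0, 1, 1, 0, 5],
   .loop 1 0 false ⟨8, [], []⟩ [.use 98 true [3, 1, 3, 1, 1, 0, 0, 2, 0, 2] [],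
      .norm [5, 2, 1, 2, 5, 5, 4, 5, 0, 5, 0, 5, 0, 1, 0] [],
      .app 2,
      .use 62 true [0, 2, 0, 1, 3, 1, 1, 1, 3, 1, 3, 0] [9, 6],
      .norm [1, 0, 1, 0, 1, 1, 2, 4, 5, 0, 1, 1, 0, 1, 0, 1, 1, 0, 5, 5, 0, 5, 0, 5, 5, 0, 1, 0] [1, 2, 5, 2, 1, 1, 0, 1, 0, 1, 1, 0, 5],
      .app 2,
      .use 99 true [0, 2, 0, 0] [8, 6, 4, 0],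
      .norm [1, 4, 1, 0, 1, 1, 1, 0, 1, 0, 1, 0, 1, 0] [1, 4, 1, 0, 1, 0, 1, 1, 0, 5, 5, 0, 5, 0, 5, 5, 0, 1, 1, 0, 1, 0, 1],
      .app 2] [0, 5, 2, 0, 5, 0, 5, 0, 1, 1, 1, 0, 5, 0, 5] [1, 4, 1, 0, 1, 0, 1, 1, 0, 5, 5, 0, 5, 0, 5, 5, 0, 1, 1, 0, 1, 0, 1],
   .loop 2 0 false ⟨8, [], []⟩ [.use 98 true [3, 1, 3, 1, 1, 0, 0, 2, 0, 2] [],
      .norm [5, 2, 1, 2, 5, 5, 4, 5, 0, 5, 0, 5, 0, 1, 0] [],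
      .use 65 true [0, 2, 2, 1, 1, 2, 1] [2, 8],
      .norm [0, 5, 2, 1, 1, 0, 5, 0, 1, 0, 1, 0, 1, 1, 0, 1, 1] [0, 5, 0, 1, 0, 1, 1, 1, 2, 5, 0, 5, 0, 1, 1, 0, 5, 0, 1, 0, 1, 0, 1, 1, 0, 5, 5, 0, 5, 0, 1],
      .app 0,
      .use 99 true [3, 1, 3, 1, 2, 0, 2, 0, 0, 2, 0, 0] [5, 3, 0],
      .norm [4, 1, 0, 1, 0, 1, 1, 0, 5, 5, 0, 5, 0, 5] [0, 1, 2, 1, 4, 1, 0, 1, 1, 0, 5, 5, 0, 5, 0, 5, 5, 0, 1, 1, 0, 1, 0, 1, 0],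
      .app 4] [1, 0, 1, 0, 1, 1, 0, 5, 5, 0, 5, 0, 5] [0, 1, 2, 1, 4, 1, 0, 1, 1, 0, 5, 5, 0, 5, 0, 5, 5, 0, 1, 1, 0, 1, 0, 1, 0],
   .loop 1 0 false ⟨8, [1, 4, 5, 5, 0], []⟩ [.use 98 true [0, 2, 2, 2, 1, 3, 1, 1, 0, 0, 2, 0, 2] [],
      .norm [1, 0, 1, 1, 1, 2, 1, 2, 4, 1, 0, 1, 0, 1, 1, 0] [],
      .app 2,
      .use 80 true [1, 2, 0, 0, 3, 1, 2, 1, 1, 1, 3, 0, 2, 1, 1, 3, 3] [8, 8, 4],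
      .norm [2, 1, 0, 1, 1, 1, 2, 5, 0, 5, 5, 0, 5, 0, 5, 0, 1, 0, 1, 1, 0, 1, 1, 0, 1, 1, 0] [5, 0, 1, 2, 0, 1, 1, 1, 2, 5, 4, 5, 0, 1, 0, 1, 0, 1, 1, 0, 1, 0, 5, 5, 0, 1, 1, 0, 1],
      .app 2,
      .use 99 true [3, 3, 0, 2, 0, 0, 0, 2, 2, 0, 2, 0, 0] [8, 8, 2, 0],
      .norm [0, 1, 1, 1, 0, 1, 1, 0, 1, 0, 1, 1, 0, 5, 5, 0, 5, 0, 5, 0, 1] [2, 5, 2, 5, 4, 1, 1, 0, 1, 0, 1, 0, 5, 0, 5, 0, 5, 5, 0, 1, 0, 1, 0],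
      .app 2] [1, 0, 1, 1, 1, 2, 1, 4, 1, 1, 0, 5, 0, 5, 5, 0, 1, 1, 0, 5, 5, 0, 5, 0, 1] [2, 5, 2, 5, 4, 1, 1, 0, 1, 0, 1, 0, 5, 0, 5, 0, 5, 5, 0, 1, 0, 1, 0]]

/-- The equations derived for the outer letter. -/
def facts : List EFact :=
  [⟨3, 0, [], 1, [], []⟩,
   ⟨6, 1, [0], 1, [], [0]⟩,
   ⟨3, 1, [4, 4], 0, [0, 0], []⟩,
   ⟨3, 1, [2], 1, [2, 0, 0], [2, 0, 0]⟩,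
   ⟨3, 1, [4], 1, [0, 0], [0]⟩,
   ⟨3, 1, [0], 1, [4], [0, 0]⟩,
   ⟨6, 1, [2, 0], 2, [], []⟩,
   ⟨6, 2, [], 1, [2, 4], [2, 0, 0]⟩,
   ⟨6, 1, [2], 3, [], []⟩,
   ⟨6, 3, [2], 1, [2, 0], [4]⟩,
   ⟨6, 3, [2, 0, 0], 3, [2], [2]⟩,
   ⟨3, 3, [4], 1, [2, 4], [2, 0, 0]⟩,
   ⟨3, 1, [2, 0, 0], 3, [2, 4], [2, 0]⟩,
   ⟨3, 3, [2, 4], 2, [0], [4]⟩,
   ⟨3, 2, [4, 4, 2, 0], 3, [], [2]⟩,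
   ⟨6, 1, [2, 1, 0, 1, 2, 0], 4, [], []⟩,
   ⟨3, 3, [2, 1, 0, 1, 2, 5, 0, 5, 0, 1, 0, 1, 0], 4, [2, 4, 1, 0, 1], [1, 0, 1, 2, 5, 4, 5, 0, 5, 0, 5, 0]⟩,
   ⟨6, 4, [2], 1, [2, 1, 0, 1, 2, 5, 4, 5, 0, 1, 1, 1, 0, 1, 0, 1, 0], [2, 0, 5, 0, 5, 0, 1, 1, 1, 0, 1, 0, 1, 0]⟩,
   ⟨6, 3, [2, 4, 5, 0, 1, 1], 4, [2, 5, 0, 1, 1, 2, 5, 5, 4, 1, 1, 0, 5, 5, 0], [2, 5, 4, 1, 0, 5, 5, 0, 1, 1, 0]⟩,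
   ⟨3, 2, [2, 5], 4, [2, 0, 1, 1, 0, 1, 1, 0, 1, 0, 1, 1, 1], [0, 1, 1, 1, 2, 5, 4, 1, 1, 0, 1, 0, 1, 1, 0, 1, 0, 5, 0, 5, 5, 0, 1, 1, 0, 5, 5, 0, 1]⟩,
   ⟨6, 3, [2, 5, 4], 4, [2, 5, 2, 1, 4, 1, 1, 0, 1, 1, 0, 1, 0, 1, 1, 0, 5, 0], [5, 0, 5, 5, 2, 0, 5, 2, 5, 5, 0, 1, 1, 0, 1, 1, 0, 5, 0, 1, 0, 1, 1, 0, 5, 0, 5, 0, 1, 0, 1]⟩,
   ⟨3, 3, [2, 1, 1, 1, 2], 4, [2, 1, 1, 1], [1, 4, 5, 0, 1, 1, 0, 5, 0, 1, 1, 0, 5, 5]⟩,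
   ⟨6, 2, [2, 1, 1, 1], 4, [2, 1, 0, 1, 2, 5, 4, 1, 0, 5, 0], [2, 4, 1, 1, 0, 5, 0, 1, 0, 1, 1, 0, 1, 0, 5, 0, 5, 0]⟩,
   ⟨3, 4, [0, 1, 0, 1, 2, 5, 4, 5, 5, 0, 5, 0], 4, [0], [1, 0, 1, 2, 5, 0, 5, 0, 5, 0, 5, 5, 0, 5, 0, 1, 0, 1, 0]⟩,
   ⟨6, 4, [2, 2, 1, 0, 1, 1, 2, 5, 5, 0, 5, 5, 0, 5, 0, 5, 5, 0, 1, 0, 5, 0, 5], 4, [2, 1, 0, 1, 1, 2, 1, 0, 1, 1, 0, 1, 0, 5, 0, 5, 0, 1, 1, 1], [0, 1, 2, 0, 1, 2, 4, 1, 1, 1, 0, 5, 0, 1, 0, 1, 0, 5, 0, 5, 5, 0, 1, 1, 0]⟩,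
   ⟨6, 3, [1, 0, 5, 0, 1, 1, 1, 2, 1, 1, 4, 5, 5, 0, 1, 0, 5, 5, 0, 5, 0, 1, 0, 1, 0, 1, 1, 0], 3, [2, 1, 0, 5, 0, 1, 1, 1, 2, 0, 5, 5, 0, 1, 0, 1, 0, 5, 0, 5], [1, 2, 5, 2, 5, 0, 5, 5, 0, 1, 0, 1, 1, 0, 5, 5, 0, 1, 1, 0, 1, 0, 5, 5, 0, 5]⟩,
   ⟨6, 3, [2, 5, 2, 1, 2, 0, 5, 0, 5, 0, 5, 5, 0, 1, 1, 0, 1, 1, 0, 1, 1, 0, 5], 1, [2, 1, 0, 5, 0, 1, 0, 1, 1, 2, 4], [2, 0, 5, 5, 2, 4, 1, 1, 0, 5, 5, 0, 5, 5, 0, 5, 5, 0, 1, 0, 5, 5, 0, 5, 5]⟩,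
   ⟨3, 3, [2, 5, 2, 5, 0, 1, 0, 1, 0, 5, 5, 0, 1, 0, 5, 5, 0, 5, 5, 0, 1, 0], 1, [2, 5, 2, 0, 0], [2, 1, 2, 5, 2, 5, 4, 5, 0, 5, 0, 5, 5, 0, 5, 5, 0, 5, 5, 0, 1, 0, 5]⟩,
   ⟨3, 3, [4, 5, 2, 5, 5, 4, 1, 1, 0, 1, 1, 0, 5, 0, 1, 0, 1, 0, 5, 5, 0, 5, 0], 4, [1, 1, 0, 1, 1, 0, 1, 0, 5, 5, 0, 1], [2, 1, 0, 1, 2, 5, 5, 0, 5, 0, 1, 0, 1, 1, 1, 0, 5, 0, 5, 0, 1, 1, 1, 0, 1, 0, 1, 1]⟩,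
   ⟨6, 3, [0, 5, 2, 5, 5, 0, 1, 1, 0, 1, 1, 0, 5, 0, 1, 0, 1, 0, 5, 5, 0, 5, 0], 3, [2, 0, 5, 2, 4, 5, 5, 0, 1, 0, 1, 0, 1, 1, 1, 0, 1, 0, 1, 0, 5, 0, 5, 0, 5, 0], [2, 4, 5, 0, 1, 0, 1, 1, 0, 1, 0, 1, 1, 0, 1, 1, 1, 0, 1, 0, 1, 0, 1]⟩,
   ⟨6, 3, [4, 4, 0, 5, 2, 5, 5, 0, 1, 1, 0, 1, 1, 0, 5, 0, 1, 0, 1, 0, 5, 5, 0, 5, 0], 4, [1, 1, 4, 1, 1, 0, 1, 0, 5, 5, 0, 1], [2, 1, 0, 1, 2, 5, 5, 0, 5, 0, 1, 0, 1, 1, 1, 0, 5, 0, 5, 0, 1, 1, 1, 0, 1, 0, 1, 1]⟩,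
   ⟨3, 4, [2, 1, 2, 5, 5, 0, 5, 5, 0, 5, 0, 1, 1, 1, 0], 4, [2, 1, 1, 2, 5, 2, 1, 4, 5, 0, 5, 5, 0, 5, 5, 0, 5, 0, 5, 0, 5, 5, 0, 5, 5, 0, 5, 0], [2, 0, 1, 1, 1, 2, 5, 5, 0, 5, 0, 5, 0, 1, 1, 0, 1, 1, 0, 5, 0, 1, 0, 1, 1]⟩,
   ⟨6, 4, [2, 1, 0, 1, 2, 5, 4, 5, 5, 0, 5, 0, 5, 0, 1, 1, 0, 1, 0, 5, 5, 0, 1], 5, [], []⟩,
   ⟨3, 4, [2, 1, 1, 1, 2, 1, 1, 2, 1, 2, 0, 1, 0, 5, 0, 5, 5, 0, 5, 0, 1, 1, 0, 5, 0, 5, 5, 0, 1, 0, 1, 0, 5, 0], 5, [2, 5, 5, 0, 5, 0, 1, 0, 1, 0, 5, 0, 5, 5, 0, 1, 0, 1, 0, 1], [1, 0, 1, 2, 1, 1, 2, 1, 1, 1, 0, 5, 5, 0, 5, 0, 1, 0, 1, 1, 0, 1, 0]⟩,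
   ⟨3, 5, [0, 5, 0, 1, 0, 1, 1, 2, 5, 0, 1, 1, 1, 0, 1, 0, 1, 1, 1, 0, 5, 0, 5, 5, 0, 5], 5, [0], [5, 5, 2, 1, 1, 2, 5, 5, 4, 5, 5, 0, 1, 1, 0, 1, 0, 1, 0, 5, 5, 0, 5, 0]⟩,
   ⟨6, 5, [2, 5, 4, 1, 0, 1, 0, 1, 1, 1, 0, 1, 0, 1, 1, 0, 5, 5], 5, [2, 0, 5, 5, 0, 1, 0, 1, 1, 1, 0, 5, 0, 5, 5, 0], [2, 5, 5, 4, 1, 1, 0, 5, 0, 1, 1, 0, 1]⟩,
   ⟨6, 1, [1, 2, 5, 2, 1, 1, 2, 1, 4, 5, 0, 1, 1, 0, 5, 5, 0, 5, 5, 0, 1, 1, 0, 5, 0, 1, 1], 6, [], []⟩,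
   ⟨3, 4, [2, 1, 2, 5, 0, 5, 0, 5, 0, 5, 0], 6, [2, 4, 5, 0, 5, 5, 0, 5, 0, 5, 0, 5, 5, 0], [5, 0, 5, 5, 2, 1, 0, 1, 1, 1, 0, 1, 0, 5, 5, 0, 5, 5, 0, 5, 5, 0, 1, 1, 0]⟩,
   ⟨3, 3, [2, 1, 1, 2, 5, 4, 1, 1, 1, 0, 5, 5, 0, 1, 0, 1, 1, 0, 5, 5, 0, 5, 5, 0, 1, 0], 6, [2, 4, 5, 5, 0, 5], [2, 5, 2, 1, 1, 2, 0, 1, 2, 1, 0, 1, 0, 1, 0, 1, 1, 0, 5, 5, 0, 5, 5, 0, 1, 0, 1, 1, 0, 1, 1]⟩,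
   ⟨6, 4, [2, 1, 1, 2, 1, 2, 4, 1, 0, 1, 1, 0, 5, 5, 0, 5, 0, 5, 0, 5, 5, 0, 5, 0, 1, 1, 0, 5], 6, [2, 1, 1, 1, 2, 5, 4, 5, 0, 1, 1, 1, 0, 1, 1, 0, 1, 0, 5, 0, 5, 5], [1, 0, 5, 0, 5, 5, 2, 0, 5, 0, 1, 1, 1, 0, 1, 0, 1, 1, 0, 5, 0, 5, 5, 0, 1, 1, 0, 5, 0, 1, 0]⟩,
   ⟨6, 3, [2, 5, 2, 0, 1, 1, 1, 2, 4, 1, 0, 1, 1, 0, 5, 5, 0, 5, 0, 5, 5, 0, 5, 5, 0, 5, 0, 5], 6, [2, 1, 1, 2, 1, 0, 5, 5, 0, 1, 1, 0, 5, 0, 1, 0, 1, 0, 5, 5, 0, 5, 0, 5], [0, 1, 2, 5, 5, 2, 5, 5, 0, 5, 5, 0, 5, 0, 1, 1, 0, 5, 0, 5, 5, 0, 1, 1, 0, 5, 5, 0]⟩,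
   ⟨3, 1, [1, 2, 5, 2, 1, 1, 2, 1, 4, 5, 0, 1, 1, 0, 5, 5, 0, 5, 5, 0, 1, 1, 0, 5, 0, 1, 1], 6, [1, 2, 5, 2, 1, 1, 2, 1, 1, 1, 0, 5, 5, 0, 5, 0, 5, 0, 1, 0, 1, 1, 1, 0, 1, 0, 1], [5, 2, 1, 2, 1, 2, 1, 4, 1, 1, 1, 0, 5, 0, 1, 0, 1, 0, 1, 1, 0, 5, 5, 0, 5, 0, 1, 1, 0]⟩,
   ⟨3, 6, [1, 2, 5, 2, 1, 1, 2, 1, 1, 1, 0, 5, 5, 0, 5, 0, 5, 0, 1, 0, 1, 1, 1, 0, 1, 0, 1], 6, [0, 1, 1, 0, 5, 0, 5], [5, 2, 1, 2, 1, 2, 5, 5, 4, 1, 0, 5, 5, 0, 5, 0, 1, 0, 1, 1, 0, 1, 0, 1, 1, 1, 0]⟩,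
   ⟨3, 6, [4, 1, 2, 5, 2, 1, 1, 2, 1, 1, 1, 0, 5, 5, 0, 5, 0, 5, 0, 1, 0, 1, 1, 1, 0, 1, 0, 1], 6, [0, 1, 0, 1, 0, 5, 5, 0], [5, 2, 1, 2, 1, 2, 5, 5, 4, 1, 0, 5, 0, 5, 0, 5, 5, 0, 1, 1, 0, 1, 1, 1]⟩,
   ⟨3, 6, [0, 1, 2, 5, 2, 1, 1, 2, 1, 1, 1, 0, 5, 5, 0, 5, 0, 5, 0, 1, 0, 1, 1, 1, 0, 1, 0, 1], 6, [0], [5, 2, 1, 2, 1, 2, 1, 4, 1, 1, 1, 0, 1, 0, 1, 1, 0, 1, 0, 5, 5, 0, 1, 1, 1, 0, 5]⟩,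
   ⟨6, 6, [2, 0, 0, 1, 2, 5, 2, 1, 1, 2, 0, 1, 1, 0, 1, 0, 1, 1, 1, 0, 5, 0, 5, 0, 1, 1, 1, 0, 1], 4, [1, 2, 5, 2, 1, 1, 2, 4, 5, 5, 0, 5, 0, 1, 0, 1, 1, 0, 5, 5, 0, 1, 1, 0, 1, 1, 0], [0, 1, 1, 1, 2, 5, 4, 5, 5, 0, 1, 0, 5, 5, 0, 5, 0, 5, 0, 1, 1, 0]⟩,
   ⟨3, 6, [2, 1, 1, 2, 5, 2, 1, 1, 2, 1, 1, 1, 0, 5, 5, 0, 5, 0, 5, 0, 1, 0, 1, 1, 1, 0, 1, 0, 1], 4, [2, 5, 0, 5, 0, 5, 0, 5, 0, 1], [2, 0, 5, 0, 5, 2, 5, 2, 1, 4, 5, 0, 1, 1, 1, 0, 1, 0, 5, 0, 5, 0, 5, 5, 0, 1, 1, 0, 1, 1]⟩,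
   ⟨3, 6, [2, 1, 4, 5, 0, 5], 6, [2, 0, 1, 2, 1, 1, 0, 5, 5, 0, 1, 1, 0, 1, 0, 5, 5, 0, 5, 5, 0, 1, 1, 0, 1, 0], [5, 2, 1, 1, 2, 1, 0, 5, 0, 5, 0, 1, 0, 1, 0, 5, 0, 5, 0, 5, 0, 1]⟩,
   ⟨3, 6, [2, 2, 1, 2, 1, 4, 1, 0, 5, 5, 0, 1, 1, 0, 1, 0, 5, 5, 0, 5, 0, 1, 1, 0, 5, 0, 1], 6, [1, 2, 1, 0, 1, 2, 0, 1, 0, 1, 1, 0, 5, 0, 1, 0, 1, 0, 1, 1, 1, 0, 1, 0, 1, 0, 1], [0, 5, 0, 1, 1, 1, 2, 1, 0, 1, 0, 1, 0, 5, 0, 5, 5, 0, 5, 0, 1, 1, 0, 1, 0, 1, 1, 1]⟩,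
   ⟨6, 6, [2, 0, 5, 2, 1, 1, 2, 1, 0, 5, 5, 0, 1, 0, 1, 1, 0, 1, 0, 1, 0, 1, 1, 1, 0, 1, 1, 1], 6, [2, 5, 2, 1, 0, 5, 0, 1, 1, 0, 5, 0, 5], [1, 2, 5, 2, 4, 5, 5, 0, 5, 5, 0, 5, 0, 5, 0, 1, 0, 1, 0, 1, 0, 5, 0, 5, 0, 1]⟩,
   ⟨6, 5, [2, 5, 0, 5, 0, 5, 5, 0, 1, 0, 1, 1, 0, 5, 5, 0, 1, 0, 5, 0], 6, [1, 0, 1, 1, 2, 0, 1, 2, 5, 4, 5, 0, 5, 0, 1, 0, 1, 0, 5, 0, 5, 0, 5, 5], [5, 0, 5, 0, 1, 1, 1, 0, 5, 0, 1, 0, 1, 0, 5, 0, 5, 0]⟩,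
   ⟨3, 5, [1, 0, 1, 1, 2, 5, 0, 5, 0, 1, 1, 0, 5, 5, 0, 5, 0, 1, 1, 0, 1, 0, 5, 5, 0, 1, 0, 5], 6, [1, 0, 1, 1, 2, 0, 1, 2, 5, 0, 5, 0, 5, 0, 1, 0, 1, 0, 5, 0, 5, 0, 5, 5], [0, 1, 2, 1, 2, 0, 1, 2, 5, 0, 5, 0, 5, 0, 1, 0, 1, 1, 0, 1, 0, 1, 1, 1]⟩,
   ⟨6, 3, [2, 5, 2, 4], 7, [], []⟩,
   ⟨6, 7, [], 4, [5, 2, 1, 2, 5, 0, 5, 0, 5, 0, 1, 0, 1, 1, 0, 5, 5, 0, 1, 1, 0, 1, 1], [2, 1, 0, 1, 2, 1, 0, 1, 0, 1, 0, 5, 0, 5, 5, 0, 1, 1, 0, 5, 5, 0, 5, 5, 0, 5, 0]⟩,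
   ⟨3, 2, [2, 1, 0], 7, [2, 5, 0, 5, 0, 1, 1, 1, 0, 5, 0, 5], [0, 5, 0, 5, 0, 1, 1, 1, 0, 5, 0, 5]⟩,
   ⟨6, 4, [2, 0, 0, 2, 1, 2, 0, 5, 0, 1, 0, 1, 0, 1, 0, 5, 5, 0, 5, 0, 1, 1, 0, 5, 0, 5, 5], 7, [2, 5, 0, 5, 0, 1, 1, 1, 0, 5, 0, 5], [2, 1, 2, 5, 2, 5, 5, 4, 5, 5, 0, 1, 1, 0, 5, 5, 0, 1, 0]⟩,
   ⟨3, 3, [1, 2, 5, 4, 1, 1, 0, 1, 1, 0, 5, 5, 0, 1, 1, 0, 1, 1, 0], 7, [2, 1, 0, 0], [2, 0, 1, 2, 5, 4, 1, 1, 0, 1, 1, 0, 5, 5, 0, 1, 1, 0, 1, 1, 0]⟩,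
   ⟨6, 4, [2, 0, 0, 2, 0, 5, 2, 4, 5, 5, 0, 5, 5, 0, 5, 0, 1, 1, 0, 1, 0, 5, 5, 0, 1, 0, 5, 5, 0, 5, 0], 7, [0, 5, 2, 0, 1, 0, 5, 0, 5, 0, 5, 0, 1, 1, 1, 0, 5, 0, 5], [1, 2, 5, 2, 4, 5, 5, 0, 5, 0, 1, 0, 1, 0, 5, 0, 5, 5, 0, 1, 1, 0, 1, 0, 1, 1, 0, 1]⟩,
   ⟨6, 2, [2, 0, 1, 1, 2], 7, [2, 0, 1, 1, 2, 4, 5, 0, 1, 1, 0, 1, 1, 1, 0, 1, 0, 1, 1], [2, 1, 2, 5, 2, 1, 0, 5, 5, 0, 5, 0, 1, 1, 1, 0, 5, 5, 0, 1]⟩,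
   ⟨6, 7, [2, 0, 1, 1, 2, 4, 5, 0, 1, 1, 0, 1, 1, 1, 0, 1, 0, 1, 1], 4, [2, 0, 1, 1, 2, 1, 0, 5, 0, 1, 1, 0, 1, 1, 1, 0, 5, 0, 1, 0, 1, 0, 1, 1, 1], [2, 5, 5, 4, 5, 5, 0, 1, 1, 0, 1, 1, 0, 1, 1, 0, 5, 0, 5, 5, 0, 5]⟩,
   ⟨3, 7, [0, 2, 1, 4, 1, 0, 1, 1, 1, 0, 1, 0, 1, 1], 3, [2, 0, 5, 2, 4, 5, 0, 1, 0, 1, 1, 1, 0, 1, 1, 0, 5, 0, 1, 1, 0, 1], [2, 1, 2, 5, 5, 4, 5, 0, 1, 1, 1, 0, 1, 0, 1, 1, 0, 5, 5, 0, 5, 0, 5]⟩,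
   ⟨6, 7, [0], 3, [0, 5, 2, 1], [2, 5, 2, 5, 0, 5, 0, 5, 5, 0, 1, 1, 0, 1, 0, 1, 1, 0, 5, 5, 0, 5, 0, 5, 5]⟩,
   ⟨6, 7, [0, 2, 1, 4, 1, 0, 1, 1, 1, 0, 1, 0, 1, 1], 7, [0], [2, 0, 1, 2, 1, 4, 1, 0, 1, 0, 1, 1, 0, 1, 0, 1, 1, 0, 5, 5, 0, 5, 0, 5, 5]⟩,
   ⟨3, 7, [2, 1, 0, 5, 0, 1, 0, 1, 1, 2, 5, 5, 4, 1, 1, 0, 5, 0, 5, 5, 0, 5, 5, 0, 5, 0, 1, 1, 0, 5], 7, [2, 1, 0, 5, 0, 1, 0, 1, 1, 2, 5, 0, 1, 1, 0, 1, 1, 1, 0, 1, 0, 1, 1], [2, 0, 1, 2, 0, 5, 0, 1, 1, 0, 5, 0, 5, 5, 0, 1, 1, 0, 1, 0, 1, 0, 5, 0]⟩,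
   ⟨3, 7, [2, 0, 1, 2, 4, 5, 0, 1, 1, 0, 1, 1, 1, 0, 1, 0, 1, 1], 6, [2, 1, 2, 1, 0, 1, 2, 5, 4, 1, 1, 0, 1, 1, 0, 5, 5, 0, 5, 0, 1, 1, 0, 1, 1, 1], [2, 5, 2, 1, 1, 2, 4, 1, 0, 1, 0, 1, 1, 0, 5, 5, 0, 5, 0, 5, 0, 1, 0, 1, 1, 1, 0, 5, 5, 0]⟩,
   ⟨6, 7, [2, 1, 0, 1, 1, 0, 5, 5, 0, 5, 0, 1, 1], 7, [2, 1, 4, 1, 1, 0, 5, 0, 5, 0, 5, 5, 0, 1, 1, 1, 0, 5, 0, 5], [1, 2, 5, 2, 1, 4, 1, 0, 5, 0, 5, 0, 1, 1, 1, 0, 5, 0, 1]⟩,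
   ⟨6, 7, [2, 5], 6, [2, 0, 5, 2, 5, 0, 5, 5, 0, 1, 0, 5, 5, 0, 5, 5, 0, 1, 1, 1], [0, 1, 0, 1, 1, 2, 4, 5, 0, 5, 5, 0, 5, 5, 0, 1, 0, 5, 0, 5, 0, 5, 0]⟩,
   ⟨3, 7, [2, 0, 5, 5, 0, 5, 5, 0, 5, 0, 5, 0, 5, 5, 0, 1, 1, 1, 0, 5, 0, 1, 0], 3, [1, 2, 5, 2, 1, 1, 2, 1, 1, 4, 1, 1, 1, 0, 1, 1, 1, 0, 1, 1, 1, 0, 1, 1, 1, 0, 1, 1, 1, 0], [2, 5, 2, 1, 2, 5, 0, 5, 0, 5, 0, 5, 0, 1, 0, 1, 0, 5, 5, 0, 1, 0]⟩,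
   ⟨6, 7, [2, 0, 0, 4, 1, 0, 1], 6, [0, 1, 2, 1, 0, 5, 0, 5, 5, 0, 1, 1, 1, 0, 1, 0, 5], [2, 1, 1, 2, 0, 1, 2, 1, 1, 2, 5, 5, 4, 5, 5, 0, 1, 0, 1, 1, 0, 1, 1, 0, 1, 0]⟩,
   ⟨6, 5, [0, 5, 0, 5, 0, 5, 5, 0, 1, 0, 1, 1, 0, 1, 0, 5, 0, 5, 5], 7, [5, 5, 2, 1, 1, 2, 5, 4, 5, 0, 5, 5, 0, 1, 1, 0, 5, 5, 0, 1, 1, 0, 1, 1, 0, 1, 1, 1], [2, 5, 2, 1, 2, 1, 1, 0, 1, 0, 1, 0, 5, 0, 5, 5, 0, 5, 5]⟩,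
   ⟨3, 3, [2, 1, 0, 1, 2, 0, 5, 5, 0, 5, 0, 1, 1, 0, 1, 0, 5, 0, 5, 5, 0, 1, 1, 0, 1, 0], 7, [0, 5, 2, 0, 5, 2, 5, 5, 0, 5, 5, 0, 1, 0, 1, 1, 0, 1, 0, 1, 1, 0, 5, 5, 0, 1], [2, 5, 2, 1, 0, 1, 2, 5, 4, 1, 1, 0, 5, 0, 1, 1, 0, 1, 1, 1, 0, 1, 0, 1, 0, 1, 0, 5]⟩,
   ⟨6, 7, [2, 4, 5, 0], 4, [0, 5, 2, 0, 5, 2, 5, 4, 1, 0, 5, 5, 0, 1, 0, 1, 1, 1, 0, 1, 1, 0, 5, 0, 1, 1, 0, 1], [5, 0, 1, 1, 2, 1, 4, 1, 1, 0, 1, 1, 0, 1, 0, 5, 0, 5, 0, 1, 0, 1, 1, 0, 1, 0]⟩,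
   ⟨6, 6, [2, 0, 5, 2, 1, 4, 1, 1, 0, 1, 0, 1, 1, 0, 1, 1, 0, 1], 7, [5, 2, 1, 2, 0, 1, 0, 1, 1, 1, 0, 1, 0, 1, 1, 0, 5, 5, 0, 1, 1, 0, 5, 5, 0], [2, 1, 1, 4, 1, 1, 0, 1, 1, 0, 5, 0, 5, 0, 5, 0, 1, 0, 1, 1, 1, 0, 5]⟩,
   ⟨3, 7, [4, 4, 2, 0, 5, 2, 4, 1, 0, 1, 0, 1, 1, 1, 0, 1, 0, 1, 1], 6, [2, 1, 0, 1, 2, 4, 1, 1, 0, 1, 0, 5, 0, 5, 0, 1, 0, 1, 0, 5, 0, 5, 5], [5, 0, 1, 2, 1, 2, 1, 4, 5, 5, 0, 5, 0, 1, 1, 0, 5, 0, 5, 5, 0, 1, 1, 1, 0, 1, 0, 1, 1]⟩,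
   ⟨6, 6, [2, 0, 0, 2, 5, 0, 1, 2, 1, 1, 2, 1, 4, 1, 0, 5, 0, 5, 5, 0, 5, 0, 5, 5, 0, 1, 0, 1, 0, 1, 1], 7, [5, 0, 1, 2, 1, 1, 2, 1, 1, 4, 1, 0, 1, 1, 0, 5, 0, 1, 1, 0, 5, 0, 1, 0, 1, 1, 0, 5], [2, 5, 2, 0, 1, 0, 5, 5, 0, 5, 5, 0, 1, 1, 0, 5, 0, 1, 0, 1, 1, 0, 5, 5, 0]⟩,
   ⟨3, 6, [4, 4, 2, 4, 5, 0, 1, 1, 1, 0, 5, 5, 0, 1, 0], 7, [1, 0, 1, 2, 1, 4, 1, 0, 1, 1, 0, 5, 0, 5, 0, 1, 0, 1, 1, 0, 1, 1, 0, 5], [5, 5, 0, 5, 0, 5, 5, 0, 5, 0, 1, 1, 0, 5, 0, 5, 5, 0, 1, 1, 0, 1, 0]⟩,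
   ⟨3, 7, [2, 5, 2, 0, 1, 0, 1, 1, 1, 2, 4, 1, 0, 5, 5, 0, 1, 0, 1, 1, 0, 1, 0, 1, 0, 5, 0, 5, 0], 4, [2, 0, 1, 2, 0, 1, 1, 1], [1, 2, 1, 0, 1, 1, 0, 1, 1, 1, 0, 1, 0, 5, 5, 0, 1, 0, 1, 1, 0, 1, 1, 0, 1]⟩,
   ⟨6, 7, [2, 2, 1, 2, 5, 2, 0, 1, 0, 5, 5, 0, 1, 1, 0, 1, 0, 5, 5, 0, 5, 0, 1, 0, 1, 0, 1, 0, 5], 4, [2, 0, 1, 2, 0, 1, 1, 1], [2, 5, 2, 0, 1, 1, 2, 1, 4, 1, 1, 0, 5, 5, 0, 5, 0, 1, 1, 0, 1, 0, 5, 5, 0, 1, 0, 5, 5, 0, 1]⟩,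
   ⟨6, 7, [2, 0, 0, 0], 4, [0, 5, 2, 0, 5, 5, 0, 5, 5, 0, 5, 0, 1, 1, 1, 0], [2, 0, 1, 1, 1, 2, 1, 4, 1, 1, 0, 5, 0, 1, 1, 0, 5, 0, 5, 5, 0, 1, 0, 1, 1, 0, 1, 1]⟩,
   ⟨6, 7, [2, 0, 0, 1, 1, 4, 1, 0, 1, 1, 1, 0, 1, 1, 0, 5, 0, 1, 0, 1, 1, 0, 1], 6, [2, 0, 5, 2, 5, 4, 5, 5, 0, 1, 1, 0, 1, 0, 5, 5, 0, 5, 5, 0, 1, 1, 1, 0, 1], [5, 0, 1, 2, 0, 1, 1, 2, 5, 5, 4, 1, 1, 0, 1, 1, 0, 5, 0, 1, 1, 0, 1, 0]⟩,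
   ⟨6, 7, [2, 0, 5, 5, 2, 1, 4, 1, 0, 1, 1, 1, 0, 1, 0, 1, 1], 7, [0, 1, 1, 0, 1, 1, 2, 4, 1, 0, 5, 5, 0, 5, 0, 5, 0, 1, 1, 0, 1, 1, 0, 1, 1, 0, 1, 0], [2, 5, 5, 2, 5, 2, 1, 2, 5, 5, 0, 1, 0, 1, 1, 0, 1, 0, 1, 1, 0, 5, 0, 1, 0, 1, 0, 1, 0, 5]⟩,
   ⟨6, 4, [2, 1, 1, 0, 1, 1, 0, 1, 0, 1, 0, 1, 1, 0, 5, 5, 0, 5, 0, 5, 0, 1, 0, 1, 0], 7, [2, 0], [2, 5, 0, 5, 0, 1, 0, 1, 0, 1, 1, 0, 1, 0, 5, 0, 5, 0, 5, 5, 0]⟩,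
   ⟨6, 4, [2, 5, 5, 4, 5, 0, 5, 0, 5, 5, 0, 5], 7, [2, 1, 2, 5, 2, 5, 0, 1, 1, 0, 5, 5, 0, 5, 0, 5, 0], [2, 5, 2, 1, 2, 4, 1, 0, 5, 0, 5, 0, 1, 1, 0, 1, 0, 5, 0, 5, 0, 1, 0, 1, 1, 0, 5, 0, 5]⟩,
   ⟨6, 7, [2, 0], 7, [2, 4], [2]⟩,
   ⟨3, 7, [2, 5, 0, 5, 5, 2, 1, 0, 1, 0, 5, 5, 0, 1, 0], 7, [0, 1, 2, 0, 1, 1, 1, 2, 5, 5, 4, 5, 0, 1, 1, 0, 1, 0, 5, 5, 0, 5, 0, 1, 1, 0, 5, 0, 1, 0], [2, 0, 1, 0, 1, 0, 1, 1, 2, 5, 5, 4, 5, 0, 1, 1, 0, 1, 0, 5, 0, 5, 5, 0, 1, 1, 0, 1, 0]⟩,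
   ⟨6, 7, [2, 0, 0, 5, 5, 2, 1, 4, 1, 0, 1, 0, 1, 1, 0, 5, 5, 0, 1, 1, 1, 0, 1, 0, 1], 5, [0, 5, 0, 1, 0, 1, 1, 1, 2, 0, 1, 0, 1, 1, 1, 0, 1, 1, 0, 1, 0, 1, 0, 5, 0, 5], [1, 1, 1, 2, 1, 2, 5, 0, 5, 0, 1, 1, 1, 0, 5, 5, 0, 5, 0, 5, 0, 5, 5, 0, 1, 1, 0, 1, 0, 1, 0]⟩,
   ⟨3, 7, [2, 1, 0, 1, 0, 1, 1, 2, 5, 4, 5, 5, 0, 5, 5, 0, 5, 0, 1, 1, 0, 5, 5, 0, 5, 0, 5, 0, 5, 5], 6, [2, 1, 0, 1, 2, 5, 0, 5, 0, 1, 0, 1, 1, 0, 5, 0, 5], [1, 1, 2, 0, 1, 2, 1, 0, 5, 5, 0, 5, 0, 1, 1, 0, 5, 0, 5, 5, 0, 1, 1, 0, 5, 0, 1, 0]⟩,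
   ⟨6, 7, [2, 5, 2, 5, 2, 1, 2, 4, 1, 0, 1, 0, 5, 0, 5, 5, 0, 5, 5, 0, 5, 5, 0, 5], 7, [5, 2, 1, 1, 1, 2, 1, 2, 1, 1, 4, 5, 0, 5, 0, 1, 1, 1, 0, 5, 0, 5, 0, 1, 0, 1, 1, 0, 5], [5, 2, 1, 0, 1, 1, 2, 0, 1, 0, 1, 0, 1, 0, 5, 0, 5, 0, 1, 0, 1, 0, 1, 1, 0, 1]⟩,
   ⟨3, 7, [1, 0, 1, 1, 2, 1, 0, 1, 1, 0, 1, 0, 5, 0, 5, 0, 5, 5, 0, 1, 1, 0, 1], 7, [2, 1, 0, 1, 1, 2, 5, 5, 4, 1, 1, 0, 1, 1, 0, 1, 0, 1, 0, 5, 5], [5, 0, 5, 0, 1, 1, 1, 2, 5, 0, 1, 0, 5, 5, 0, 1, 1, 0, 1, 0, 5, 5, 0, 5, 0, 5, 0, 1, 0, 1, 1]⟩,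
   ⟨3, 7, [2, 5, 5, 2, 0, 1, 1, 0, 1, 1, 0, 1, 0, 5, 5, 0, 1, 1, 1, 0, 1, 1], 7, [2, 5, 5, 2, 5, 2, 1, 0, 1, 1, 1, 0, 1, 0, 1, 1, 1, 0, 5, 0, 5, 0, 1, 0, 1, 0], [2, 0, 1, 2, 1, 1, 2, 1, 2, 4, 1, 0, 1, 1, 0, 5, 5, 0, 5, 0, 5, 0, 5, 5, 0, 1, 1]⟩,
   ⟨3, 6, [2, 1, 0, 1, 2, 5, 0, 5, 0, 1, 1, 0, 5, 0, 5, 5, 0, 5], 7, [2, 0, 5, 2, 5, 0, 1, 1, 0, 1, 0, 5, 0, 5, 0, 5, 5, 0, 5, 0, 1, 1, 0, 5, 0, 1, 1, 0], [1, 1, 1, 2, 1, 1, 1, 4, 1, 0, 5, 5, 0, 1, 0, 1, 1, 0, 1, 1, 0, 5, 0]⟩,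
   ⟨6, 7, [2, 0, 5, 2, 4, 1], 7, [2, 0, 5, 5, 0, 1, 1, 0, 5, 0], [0, 1, 2, 5, 0, 1, 1, 0, 5, 5, 0, 1]⟩,
   ⟨3, 5, [2, 0, 1, 1, 2, 1, 1, 0, 1, 0, 5, 5, 0, 1, 0, 1, 1, 0, 5, 5, 0, 5, 0, 1, 0, 1, 0], 7, [2, 1, 1, 2, 5, 0, 5, 0, 1, 1, 1, 0, 5, 0, 5], [2, 0, 1, 2, 0, 1, 2, 1, 1, 0, 1, 1, 1, 0, 1, 0, 1, 0, 5, 0, 5, 0, 5, 5, 0, 1, 1]⟩,
   ⟨6, 5, [2, 0, 1, 2, 0, 1, 2, 5, 0, 5, 0, 5, 0, 1, 0, 1, 1, 0, 1, 1, 1, 0, 1, 0, 1, 0, 1, 0], 7, [2, 1, 1, 2, 5, 4, 5, 0, 1, 1, 1, 0, 5, 0, 5], [1, 1, 2, 1, 1, 2, 1, 2, 5, 0, 5, 5, 0, 5, 0, 5, 0, 1, 0, 1, 0, 5, 5, 0, 5, 0, 5, 0, 1, 1, 0]⟩,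
   ⟨3, 7, [2, 0, 1, 1, 2, 5, 2, 4, 1, 0, 1, 0, 1, 0, 5, 0, 5, 5, 0, 1, 1, 0, 5, 5, 0, 5, 5], 7, [1, 2, 0, 1, 0, 1, 1, 1, 2, 1, 1, 4, 5, 0, 1, 1, 0, 1, 1, 1, 0, 5, 5, 0, 5, 0, 1, 1, 0, 1], [1, 1, 1, 2, 1, 0, 1, 1, 2, 1, 1, 0, 1, 0, 5, 5, 0, 1, 0, 5, 5]⟩,
   ⟨3, 5, [2, 0, 1, 2, 1, 2, 0, 1, 2, 5, 0, 1, 0, 1, 1, 0, 5, 0, 5, 5, 0, 1, 1, 0, 5, 0, 1, 0], 7, [2, 5, 2, 4, 5, 0, 1, 1, 0, 1, 0, 1, 1], [0, 5, 0, 1, 0, 1, 1, 1, 2, 4, 5, 0, 1, 0, 1, 0, 1, 1, 0, 5, 0, 5, 0, 5, 5, 0, 1, 1, 0, 1, 0, 1, 0]⟩,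
   ⟨6, 5, [0, 1, 1, 0, 1, 2, 1, 2, 1, 4, 1, 1, 0, 5, 5, 0, 5, 5, 0, 1, 1, 0, 1, 1, 0], 7, [2, 5, 2, 0, 5, 0, 1, 1, 0, 1, 0, 1, 1], [1, 0, 1, 2, 1, 2, 5, 5, 4, 1, 0, 5, 0, 5, 0, 1, 0, 1, 1, 0, 1, 0, 5, 5, 0, 1, 0, 1]⟩,
   ⟨3, 7, [2, 0, 1, 1, 2, 0, 1, 2, 1, 4, 5, 0, 1, 0, 1, 0, 1, 1, 0, 5, 0, 5, 5, 0, 5, 0, 1, 1, 0], 7, [0, 5, 2, 5, 2, 5, 5, 4, 5, 0, 5, 5, 0, 1, 1, 0, 5, 0, 1, 0, 1, 0, 5, 0, 5], [0, 5, 2, 0, 5, 0, 5, 5, 2, 5, 0, 1, 0, 1, 1, 1, 0, 5, 5, 0, 5, 0, 5, 0, 1, 0, 1, 0, 1, 0, 5, 0]⟩,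
   ⟨6, 7, [5, 2, 1, 2, 5, 5, 4, 5, 0, 5, 0, 5, 0, 1, 0], 8, [], []⟩,
   ⟨6, 8, [1, 0, 1, 0, 1, 0, 1, 0], 7, [2, 1, 0, 1, 1, 0, 5, 0, 1, 1, 0, 1, 1, 0, 5, 0, 5, 5, 0, 5], [2, 0, 1, 2, 1, 0, 1, 1, 0, 1, 0, 5, 5, 0, 5, 5, 0, 1, 0, 5, 5, 0, 5, 0, 5, 0]⟩,
   ⟨3, 8, [2, 1, 0, 5, 5, 0, 1, 0, 1, 1, 0, 5, 0, 5, 5, 0, 5, 5, 0, 5, 0], 8, [2, 5, 5, 4, 1, 0, 5, 0, 5, 0, 5, 0, 1, 0, 1], [2, 0, 1, 2, 5, 4, 1, 0, 1, 0, 1, 1, 0, 5, 5, 0, 1, 1, 0, 1, 1, 0, 5]⟩]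

/-- The derived pairs. -/
def pairs : List EPair :=
  [⟨0, [0], [0]⟩,
   ⟨0, [1], [1]⟩,
   ⟨0, [2], [2]⟩,
   ⟨1, [1], [1]⟩,
   ⟨1, [4, 1, 0], [4, 1, 0]⟩,
   ⟨2, [5, 0, 1, 1, 0, 5, 0, 5, 0], [0, 5, 0, 1, 1, 0, 5, 0, 5]⟩,
   ⟨2, [0, 5, 0, 1, 1, 0, 5, 0, 5], [5, 0, 1, 1, 0, 5, 0, 5, 0]⟩,
   ⟨2, [5, 0, 1, 0, 5, 5, 0, 1, 0, 5], [5, 0, 1, 0, 5, 5, 0, 1, 0, 5]⟩,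
   ⟨2, [2], [2]⟩,
   ⟨2, [0, 0], [2, 0, 0]⟩,
   ⟨3, [1, 1, 1, 4, 1, 1, 1, 0, 1, 1, 1], [1, 1, 1, 4, 1, 1, 1, 0, 1, 1, 1]⟩,
   ⟨3, [0, 5, 5, 0, 5, 5, 0, 5, 0, 1, 1, 0, 1, 0, 1, 0, 5, 0], [0, 5, 5, 0, 5, 5, 0, 5, 0, 1, 1, 0, 1, 0, 1, 0, 5, 0]⟩,
   ⟨3, [2, 0], [2, 0]⟩,
   ⟨4, [5, 4, 5, 5, 0, 5], [0, 5, 0, 5, 5, 0, 5, 0]⟩,
   ⟨4, [0, 5, 0, 5, 5, 0, 5, 0], [1, 0, 1, 0, 1, 0, 1, 0, 5, 0, 5, 0, 1, 0, 1, 0]⟩,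
   ⟨4, [5, 0, 5, 0, 5, 0, 5, 0], [1, 4, 1, 1, 0, 1, 0, 1, 0, 1, 0, 5, 0, 5]⟩,
   ⟨4, [1, 0, 1, 2, 5, 4, 5, 5, 0, 5, 5, 0, 5, 5, 0, 5, 0, 1, 0, 1], [2, 1, 0, 1, 2, 4, 5, 0, 1, 1, 1, 0, 1, 1, 0, 5, 5]⟩,
   ⟨4, [2, 1, 0, 1, 2, 0, 1, 0, 1, 1, 0, 5, 0, 1, 1, 0, 1, 1, 1, 0, 5], [1, 0, 1, 2, 1, 0, 5, 0, 1, 1, 0, 5, 5, 0]⟩,
   ⟨2, [1, 0, 1, 2, 4, 5, 5, 0, 5, 0, 1, 1, 0, 1, 1, 1, 0, 5, 0, 1, 0, 1, 0], [1, 0, 1, 2, 5, 4, 1, 0, 5, 0, 5, 0, 1, 0, 1, 1, 0, 1, 1, 1, 0, 1, 0, 1]⟩,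
   ⟨5, [1, 1, 1, 4, 1, 1, 1, 0, 1, 0, 1, 1, 0, 5, 0, 1, 1, 0, 1], [0, 5, 0, 1, 0, 1, 1, 0, 1, 1, 1, 0, 5, 5, 0, 5, 0, 1, 0]⟩,
   ⟨5, [1, 1, 0, 5, 0, 1, 0, 1, 1, 0, 1, 0, 5, 5, 0, 1, 1, 0, 1, 0, 5], [1, 0, 1, 2, 1, 4, 5, 0, 1, 0, 1, 0, 1, 1, 0, 1, 1, 0, 5, 5]⟩,
   ⟨5, [5, 2, 5, 2, 1, 2, 1, 1, 0, 5, 5, 0, 5, 0, 5, 0, 1, 0, 1, 1, 0, 1, 1, 0, 1, 1], [1, 0, 1, 2, 1, 1, 2, 5, 4, 5, 0, 1, 1, 0, 5, 0, 1, 0, 1, 0, 1, 0, 5, 0, 5]⟩,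
   ⟨6, [5, 4, 5, 5, 0, 1, 0, 1, 1, 1, 0, 1, 1, 1, 0, 1, 0, 5], [0, 1, 1, 0, 1, 1, 1, 0, 5, 0, 1, 1, 0, 1, 1, 0, 5, 0, 1, 0]⟩,
   ⟨6, [4, 5, 5, 0, 5, 5, 0, 5, 0, 1, 1, 1, 0, 1, 0], [1, 0, 1, 1, 0, 5, 0, 5, 0, 5, 5, 0, 5, 0, 1, 0, 1, 0, 1, 1]⟩,
   ⟨6, [0, 5, 0, 5, 0, 1, 1, 0, 1, 0, 5, 5, 0, 1, 0, 1, 1, 0], [0, 5, 5, 0, 1, 0, 1, 1, 0, 1, 1, 0, 1, 1, 0, 1, 1, 0, 1, 0, 5]⟩,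
   ⟨6, [1, 2, 5, 2, 1, 1, 2, 1, 0, 5, 0, 5, 5, 0, 1, 1, 0, 5, 5, 0, 1, 1, 0, 1, 1, 0, 1], [5, 2, 1, 2, 1, 2, 4, 5, 0, 1, 1, 0, 5, 0, 5, 5, 0, 5, 0, 1, 1, 0, 5, 5, 0, 5, 0, 1]⟩,
   ⟨7, [5, 0, 5, 0, 1, 1, 1, 0, 1, 0, 1], [5, 4, 1, 1, 1, 0, 1]⟩,
   ⟨7, [5, 0, 5, 0, 1, 1, 0, 5, 0], [5, 0, 1, 1, 0, 5, 0, 5, 0]⟩,
   ⟨7, [5, 0, 1, 0, 5, 5, 0, 5, 5, 0, 5, 0, 1, 0, 1, 0, 5, 5, 0, 1], [1, 4, 5, 5, 0, 5, 5, 0, 5, 0, 1, 0, 1, 0, 5, 5]⟩,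
   ⟨7, [2, 5, 2, 5, 0, 5, 0, 1, 1, 1, 0, 5, 0, 5], [2, 1, 2, 5, 2, 1, 0, 1, 0, 1, 0, 1, 1, 1, 0, 1, 0, 1, 0]⟩,
   ⟨7, [5, 2, 1, 0, 5, 0, 1, 1, 0, 1, 0, 1, 1, 0, 5, 5, 0, 5, 0, 5, 0], [2, 1, 2, 5, 2, 4, 1, 1, 0, 1, 0, 1, 1, 0, 5, 5, 0, 5, 0, 5, 0, 5, 0]⟩,
   ⟨8, [1, 0, 5, 5, 0, 1, 0, 5, 0, 5, 0, 1, 1, 1, 0, 5, 0, 5, 0], [2, 1, 2, 5, 2, 5, 5, 4, 1, 1, 0, 5, 0, 1, 1, 1, 0, 5, 0, 1, 0, 1, 0, 1, 1, 0, 5, 5]⟩,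
   ⟨8, [4, 1, 0, 1, 0, 1, 1, 1, 0, 1, 0, 1, 1, 0], [2, 1, 2, 5, 2, 1, 1, 4, 1, 1, 0, 5, 0, 5, 5, 0, 1, 1, 0, 5, 5, 0, 5, 0, 1, 1, 0, 1]⟩,
   ⟨8, [0, 5, 2, 0, 5, 0, 5, 0, 1, 1, 1, 0, 5, 0, 5], [1, 4, 1, 0, 1, 0, 1, 1, 0, 5, 5, 0, 5, 0, 5, 5, 0, 1, 1, 0, 1, 0, 1]⟩,
   ⟨8, [1, 0, 1, 0, 1, 1, 0, 5, 5, 0, 5, 0, 5], [0, 1, 2, 1, 4, 1, 0, 1, 1, 0, 5, 5, 0, 5, 0, 5, 5, 0, 1, 1, 0, 1, 0, 1, 0]⟩,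
   ⟨8, [1, 0, 1, 1, 1, 2, 1, 4, 1, 1, 0, 5, 0, 5, 5, 0, 1, 1, 0, 5, 5, 0, 5, 0, 1], [2, 5, 2, 5, 4, 1, 1, 0, 1, 0, 1, 0, 5, 0, 5, 0, 5, 5, 0, 1, 0, 1, 0]⟩]

end Cfsg.Lib.HN.Top
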