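import Cfsg.Agent.Lib.HN.Top.Data
import Cfsg.Agent.Lib.HN.Top.Sys
import Cfsg.Agent.Lib.HN.Eval

/-! Checks on the coset data. -/

set_option autoImplicit false
set_option maxRecDepth 100000
set_option maxHeartbeats 0
set_option Elab.async false

namespace Cfsg.Lib.HN.Top

open Data

theorem class_ok3 : classOK sys odata 3 1408 0 = true := by decide +kernel

theorem class_ok4 : classOK sys odata 4 1408 0 = true := by decide +kernel

end Cfsg.Lib.HN.Top
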