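import Cfsg.Agent.Lib.HN.Top.Data
import Cfsg.Agent.Lib.HN.Top.Sys
import Cfsg.Agent.Lib.HN.Eval

/-! Checks on the coset data. -/

set_option autoImplicit false
set_option maxRecDepth 100000
set_option maxHeartbeats 0
set_option Elab.async false

namespace Cfsg.Lib.HN.Top

open Data

theorem upper_ok1 : upperOK sys kChain1 kWit1 = true := by decide +kernel

theorem upper_head1 : eqLists ((kChain1.head?.map Level.U).getD []) (odata.kgens 1) = true := by decide +kernel

theorem upper_size1 : baseSize kChain1 = orders.getD 1 0 := by decide +kernel

theorem upper_pts1 : kChain1.all (fun L => Nat.blt L.point 1408 && L.U.all (lettersIn sys.S)) = true := by decide +kernel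

theorem upper_ok2 : upperOK sys kChain2 kWit2 = true := by decide +kernel

theorem upper_head2 : eqLists ((kChain2.head?.map Level.U).getD []) (odata.kgens 2) = true := by decide +kernel

theorem upper_size2 : baseSize kChain2 = orders.getD 2 0 := by decide +kernel

theorem upper_pts2 : kChain2.all (fun L => Nat.blt L.point 1408 && L.U.all (lettersIn sys.S)) = true := by decide +kernel

end Cfsg.Lib.HN.Top
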