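import Cfsg.Agent.Lib.HN.Top.Data
import Cfsg.Agent.Lib.HN.Top.Sys
import Cfsg.Agent.Lib.HN.Eval

/-! Checks on the coset data. -/

set_option autoImplicit false
set_option maxRecDepth 100000
set_option maxHeartbeats 0
set_option Elab.async false

namespace Cfsg.Lib.HN.Top

open Data

theorem upper_ok3 : upperOK sys kChain3 kWit3 = true := by decide +kernel

theorem upper_head3 : eqLists ((kChain3.head?.map Level.U).getD []) (odata.kgens 3) = true := by decide +kernel

theorem upper_size3 : baseSize kChain3 = orders.getD 3 0 := by decide +kernel

theorem upper_pts3 : kChain3.all (fun L => Nat.blt L.point 1408 && L.U.all (lettersIn sys.S)) = true := by decide +kernel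

theorem upper_ok4 : upperOK sys kChain4 kWit4 = true := by decide +kernel

theorem upper_head4 : eqLists ((kChain4.head?.map Level.U).getD []) (odata.kgens 4) = true := by decide +kernel

theorem upper_size4 : baseSize kChain4 = orders.getD 4 0 := by decide +kernel

theorem upper_pts4 : kChain4.all (fun L => Nat.blt L.point 1408 && L.U.all (lettersIn sys.S)) = true := by decide +kernel

end Cfsg.Lib.HN.Top
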