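import Cfsg.Agent.Lib.HN.Top.Data
import Cfsg.Agent.Lib.HN.Top.Sys
import Cfsg.Agent.Lib.HN.Eval

/-! Checks on the coset data. -/

set_option autoImplicit false
set_option maxRecDepth 100000
set_option maxHeartbeats 0
set_option Elab.async false

namespace Cfsg.Lib.HN.Top

open Data

theorem upper_ok5 : upperOK sys kChain5 kWit5 = true := by decide +kernel

theorem upper_head5 : eqLists ((kChain5.head?.map Level.U).getD []) (odata.kgens 5) = true := by decide +kernel

theorem upper_size5 : baseSize kChain5 = orders.getD 5 0 := by decide +kernel

theorem upper_pts5 : kChain5.all (fun L => Nat.blt L.point 1408 && L.U.all (lettersIn sys.S)) = true := by decide +kernel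

theorem upper_ok6 : upperOK sys kChain6 kWit6 = true := by decide +kernel

theorem upper_head6 : eqLists ((kChain6.head?.map Level.U).getD []) (odata.kgens 6) = true := by decide +kernel

theorem upper_size6 : baseSize kChain6 = orders.getD 6 0 := by decide +kernel

theorem upper_pts6 : kChain6.all (fun L => Nat.blt L.point 1408 && L.U.all (lettersIn sys.S)) = true := by decide +kernel

end Cfsg.Lib.HN.Top
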