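import Cfsg.Agent.Lib.HN.Top.Data
import Cfsg.Agent.Lib.HN.Top.Sys
import Cfsg.Agent.Lib.HN.Eval

/-! Checks on the coset data. -/

set_option autoImplicit false
set_option maxRecDepth 100000
set_option maxHeartbeats 0
set_option Elab.async false

namespace Cfsg.Lib.HN.Top

open Data

theorem upper_ok7 : upperOK sys kChain7 kWit7 = true := by decide +kernel

theorem upper_head7 : eqLists ((kChain7.head?.map Level.U).getD []) (odata.kgens 7) = true := by decide +kernel

theorem upper_size7 : baseSize kChain7 = orders.getD 7 0 := by decide +kernel

theorem upper_pts7 : kChain7.all (fun L => Nat.blt L.point 1408 && L.U.all (lettersIn sys.S)) = true := by decide +kernel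

theorem upper_ok8 : upperOK sys kChain8 kWit8 = true := by decide +kernel

theorem upper_head8 : eqLists ((kChain8.head?.map Level.U).getD []) (odata.kgens 8) = true := by decide +kernel

theorem upper_size8 : baseSize kChain8 = orders.getD 8 0 := by decide +kernel

theorem upper_pts8 : kChain8.all (fun L => Nat.blt L.point 1408 && L.U.all (lettersIn sys.S)) = true := by decide +kernel

theorem cChain_ok : baseOK sys.P 1408 sys.S cChain = true := by decide +kernel

theorem dChain_ok : baseOK sys.P 1408 sys.S dChain = true := by decide +kernel

end Cfsg.Lib.HN.Top
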