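import Cfsg.Agent.Lib.HN.Top.CheckK0
import Cfsg.Agent.Lib.HN.Top.CheckK1
import Cfsg.Agent.Lib.HN.Top.CheckK2
import Cfsg.Agent.Lib.HN.Top.CheckK3
import Cfsg.Agent.Lib.HN.Top.CheckK4
import Cfsg.Agent.Lib.HN.Top.CheckK5
import Cfsg.Agent.Lib.HN.Top.CheckK6
import Cfsg.Agent.Lib.HN.Top.CheckK7

/-! Checks on the coset data, collected. -/
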