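import Cfsg.Agent.Lib.HN.Top.Data
import Cfsg.Agent.Lib.HN.Top.Sys
import Cfsg.Agent.Lib.HN.Eval

/-! Checks on the coset data. -/

set_option autoImplicit false
set_option maxRecDepth 100000
set_option maxHeartbeats 0
set_option Elab.async false

namespace Cfsg.Lib.HN.Top

open Data

theorem data_letters : odata.K.all (fun U => U.all (lettersIn sys.S)) = true := by decide +kernel

theorem class_ok0 : classOK sys odata 0 1408 0 = true := by decide +kernel

theorem class_ok1 : classOK sys odata 1 1408 0 = true := by decide +kernel

theorem class_ok2 : classOK sys odata 2 1408 0 = true := by decide +kernel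

end Cfsg.Lib.HN.Top
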