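import Cfsg.Agent.Lib.HN.Defs

/-! Generated certificate. -/

set_option autoImplicit false
set_option maxRecDepth 100000
set_option maxHeartbeats 0
set_option Elab.async false

namespace Cfsg.Lib.HN.Top.Data

open Cfsg.Lib.CosetEnum (Tab)

/-- Witnesses for the fifth power. -/
def powWit : List (List Nat) :=
  [[0, 0],
    [],
    [],
    [],
    [],
    [1, 2, 2, 2, 0, 0, 3, 3, 1, 1, 2],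
    [1, 2, 2, 2, 0, 0, 3, 3, 1, 1, 2],
    [],
    [],
    [0, 0, 3, 1, 3, 3, 1, 2, 0, 3, 1],
    [3, 3, 0, 0, 2, 0, 0, 2, 1, 1, 2, 0, 0],
    [4],
    [0, 2, 4, 0, 4, 2, 0, 3, 0],
    [],
    [4, 3, 0, 3, 0, 3, 4, 0, 2, 0],
    [],
    [4, 4, 4, 4, 4, 4, 4],
    [4, 3, 0, 3, 0, 4, 2, 0, 4, 0],
    [0, 4, 0, 2, 0, 3, 0, 4, 0],
    [3, 4, 0, 4, 2],
    [3, 3, 1, 2, 2, 0, 0, 3, 1, 2, 1],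
    [3, 1, 2, 0, 3, 3, 0, 0],
    [2, 0, 3, 1, 3, 3, 0],
    [3, 4, 2, 0, 2, 0, 4, 2, 2],
    [0, 2, 4, 2, 2, 0, 4, 3, 0],
    [4, 3, 0, 4, 3, 0, 3, 0, 4, 2],
    [3, 1, 3, 0, 2, 1],
    [3, 0, 3, 0, 3, 0, 4, 2, 0],
    [1, 3, 0, 0, 2, 1, 3],
    [5, 5, 0, 4, 4, 1, 4, 0, 4, 0, 4, 4, 2],
    [3, 1, 2, 0, 3],
    [3, 3, 1, 3, 0],
    [0, 2, 1, 3, 0, 0, 0],
    [2, 1, 3, 0, 0],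
    [2, 1, 2, 1, 3, 3, 1, 2],
    [2, 0, 3, 3, 0, 3, 1],
    [0, 3, 1, 2, 0, 2, 0, 2, 0],
    [2, 2, 0, 4, 2, 0, 4, 2, 0, 4],
    [3, 4, 2, 2, 4, 2, 0, 2],
    [2, 0, 2, 0],
    [4, 4, 2],
    [5, 5, 5, 1, 5, 1, 5, 5, 1, 5, 5, 5, 2],
    [3, 4, 0, 2, 0, 4, 2, 4, 2, 2, 0],
    [5, 5, 2, 1, 2],
    [4, 4, 1],
    [5, 1, 4, 2, 1],
    [1, 4, 1, 4, 0],
    [0, 2, 2, 0, 0],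
    [2, 2, 2, 0, 0, 0],
    [2, 2, 2, 0, 0, 0],
    [2, 1, 3, 3, 3, 0, 0],
    [2, 1, 3, 0, 2, 1, 3, 0, 0],
    [2, 1, 3, 0, 3, 0],
    [1, 2, 0, 3, 1, 2, 0, 3],
    [2, 1, 3, 3],
    [2, 2, 0, 0, 3, 0, 3, 0],
    [0, 0, 3, 0, 3, 0, 0],
    [2, 1, 2, 2, 2, 0, 2, 1],
    [0, 2, 0],
    [0, 2, 0],
    [4, 1, 4, 1],
    [5, 5, 0],
    [0, 3, 1, 2, 0, 0, 2],
    [3, 0, 3, 1, 3, 0, 0],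
    [2, 0, 2, 0],
    [2, 0, 2, 0, 2, 0, 2],
    [0, 3, 1, 2, 0, 3, 1, 2, 0],
    [1, 3, 0, 2, 1, 1],
    [2, 0, 3, 1, 2, 0, 0, 0],
    [2, 0, 2, 1, 2, 0, 2, 0],
    [2, 0, 2, 0, 2, 0, 2, 0, 2, 0],
    [0, 3],
    [2, 0, 3, 0, 2],
    [4, 4, 1],
    [5, 5, 0],
    [0, 2, 1, 4],
    [],
    [0, 2, 1, 1],
    [0, 0, 5],
    [5, 1, 4, 2],
    [2, 0, 5, 2, 0],
    [5, 1, 4, 0, 0],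
    [4, 1, 2, 1, 1],
    [1, 4, 0, 0],
    [2, 1, 4, 0, 0],
    [4, 0, 5],
    [4, 1, 1, 2],
    [0, 2, 1, 4, 0],
    [3, 0, 3, 0, 2, 0, 2, 0],
    [],
    [5, 0, 2, 1],
    [3, 0, 3, 0, 2, 0, 2, 0],
    [2, 0, 3, 0, 3, 0, 2, 0],
    [5, 0, 0, 2, 0],
    [2, 0, 3],
    [4, 1, 4],
    [4, 1, 4, 0],
    [2, 2, 0, 3, 0, 2, 2, 0, 2],
    [0, 2, 2, 0, 2, 2, 0],
    [0, 3, 3, 0, 3, 3],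
    [0, 2, 2, 0, 2, 2]]

/-- Witnesses for the conjugation relation. -/
def conjWit : List (List Nat) :=
  [[1],
    [],
    [],
    [],
    [],
    [],
    [],
    [],
    [],
    [3, 1, 2, 2, 2, 1, 1, 2, 1, 1, 3, 0, 2, 0],
    [0, 3, 1, 1, 2, 2, 1, 1, 3, 1, 2, 2, 2],
    [4, 3, 0, 3, 0, 3, 4, 0, 2, 0],
    [0, 2, 4, 0, 4, 2, 0, 3, 0],
    [],
    [4],
    [],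
    [4, 4, 4, 4, 4, 4, 4, 2],
    [0, 4, 3, 0, 2, 0, 4, 2, 4],
    [4, 0, 4, 2, 0, 4, 2, 0, 4, 0],
    [],
    [1, 2, 2, 0, 2, 1, 3, 1, 2, 1, 3, 0, 0, 0],
    [2, 0, 0, 2, 2, 0, 0, 2],
    [0, 2, 0, 3, 0, 0, 2, 0],
    [2, 0, 3, 0, 3, 4, 0, 3],
    [2, 0, 4, 2, 0, 2, 0, 4, 0],
    [2, 0, 4, 2, 0, 4, 0, 3, 0, 3, 4],
    [3, 0, 2, 1, 2, 2, 0],
    [4, 0, 3, 0, 4, 3, 0, 4, 0, 2],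
    [2, 0, 3, 0, 3, 3],
    [1, 4, 0, 5, 1, 5, 1, 5, 0, 5, 1],
    [3, 1, 3, 0, 2, 2, 0],
    [3, 1, 2, 2, 1, 2, 2, 0],
    [],
    [2, 0, 3, 1, 2],
    [0, 3, 3],
    [0, 3, 1, 2, 2, 2, 0],
    [2, 0, 3, 1, 2, 0, 3, 1, 2],
    [4, 0, 3, 4, 0, 4, 2, 0],
    [4, 3, 4, 0, 3, 0, 4, 3],
    [],
    [5, 2, 1, 4, 2],
    [4, 4, 0, 5, 1, 4, 4, 4, 4, 1, 4, 0],
    [2, 2, 0, 2, 0, 3, 0, 4, 3],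
    [0, 0, 5, 0, 0],
    [0, 0, 5],
    [0, 5, 1, 1],
    [2, 1, 2, 1, 1],
    [3, 3, 0, 3, 1, 3, 0],
    [2, 0, 3, 3, 3, 0],
    [3, 1, 2, 0, 3, 1, 1],
    [1, 3, 3, 3, 0, 0],
    [3, 0, 2, 1, 3, 0, 2],
    [2, 2, 0, 2, 1, 3, 0],
    [2, 0, 2, 0, 2, 0, 2, 0],
    [0, 2, 1, 2, 2, 0, 3],
    [2, 0, 2, 0, 3],
    [3, 0, 2, 1, 2, 2, 0],
    [3, 0, 2, 0, 3, 1, 2],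
    [0, 2, 1],
    [4, 1, 4, 1, 4],
    [4, 4, 1],
    [5, 5, 1, 4],
    [3, 0, 3, 3, 0, 3, 3],
    [2, 2, 0, 2, 2, 0],
    [4, 1, 1],
    [3, 1, 3, 3, 0],
    [3, 3, 1, 2, 2],
    [0, 2, 1, 2, 0, 2, 0],
    [0, 2, 0, 3, 0, 2, 0, 3, 0],
    [0, 2, 2, 2, 0],
    [2, 1, 3, 0, 2, 1, 3],
    [2, 1, 2, 0, 2, 0, 2, 0, 2, 0],
    [2, 0, 2, 0],
    [4, 0, 5],
    [5, 5],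
    [4, 2, 1, 2],
    [5, 1, 4, 1],
    [4, 4, 1, 2],
    [1, 4, 1, 4, 0],
    [1, 2, 0, 2],
    [5, 2],
    [0, 2, 1, 2, 1],
    [1],
    [0, 5, 1, 4, 0],
    [1, 4, 2, 0],
    [1, 1, 4],
    [4, 4, 1, 2],
    [5, 0, 2],
    [3, 0, 3, 0, 2, 0, 2],
    [0, 3, 0, 2, 0, 3],
    [2, 0, 5, 0],
    [0, 2, 2, 0, 2, 0, 3, 3, 0],
    [],
    [1, 1],
    [0, 3],
    [0, 0, 2, 0, 0],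
    [4, 0, 5, 0],
    [2, 2, 0, 2, 0, 2, 2],
    [3, 0, 3, 0, 2, 2, 0, 2, 0, 2],
    [3, 0, 3, 3, 3, 0, 3, 0, 3, 3, 3, 0, 3, 0, 3, 0],
    [0, 2, 2, 0, 3, 0, 2, 0, 2, 0, 2, 0]]

/-- Witnesses for the braid relation. -/
def ztWit : List (List (List Nat)) :=
  [[[4, 0, 0]],
   [[]],
   [[]],
   [[1, 2, 2, 2, 0, 0, 3, 3, 1, 1, 2]],
   [[]],
   [[],
    [0, 3, 3, 1, 3, 0, 2, 2, 0, 0, 3, 0],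
    [3, 1]],
   [[],
    [3, 0, 0, 2, 0, 3, 1, 2, 2, 2, 1],
    [3, 1, 1, 3]],
   [[1, 2, 2, 2, 0, 0, 3, 3, 1, 1, 2],
    [0, 0, 0, 2, 1, 3, 1, 2, 0, 3, 1, 1, 3, 0, 0],
    [3, 0, 0, 2, 0, 0, 3, 3, 0, 0, 2, 2]],
   [[],
    [3, 3, 1, 3, 3, 1, 2, 2, 0, 0, 2, 0, 0],
    [0, 0, 3, 3, 1, 2, 0, 2, 2, 2, 0, 2, 1]],
   [[3, 1, 2, 2, 2, 0, 2],
    [2, 0, 0, 2, 0, 3, 0, 0, 0, 2, 2],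
    [0, 0, 0, 3, 1],
    [3, 3, 0, 0, 3, 1, 1, 2, 2, 0, 3],
    [3, 3, 0, 0, 3, 0, 2, 1, 3, 3, 0, 2]],
   [[1, 2, 2, 0, 2, 2, 1, 3, 0, 2, 1, 1],
    [3, 3, 1, 3, 0, 0, 2, 1, 1, 2, 0],
    [1, 2, 2, 0, 0, 2, 0, 3, 1, 2, 1],
    [3, 3, 1, 2, 0, 3, 1, 2, 1, 1, 2, 2],
    [3, 3, 1, 2, 0, 0, 3, 1, 2, 0, 0]],
   [[],
    [2, 0, 3],
    [2, 0, 4, 3, 0, 2, 0, 4]],
   [[4],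
    [2, 0, 4, 2, 0, 4, 0, 3, 0, 3],
    [2, 0, 3, 0, 3, 0, 4]],
   [[4, 4, 4, 4, 4, 4, 4],
    [5, 5, 0, 4, 0, 4, 4, 0, 5, 1],
    [4, 1, 5, 5, 1, 4, 0, 5]],
   [[],
    [4, 0, 3, 0, 3, 4],
    [0, 2, 4, 0, 2, 0, 4, 2, 0]],
   [[],
    [2, 0, 4, 3, 0, 4, 2, 2],
    [4, 3, 4, 3, 4, 2, 0]],
   [[2],
    [4, 1, 4, 0, 5, 0, 4, 4, 4, 1],
    [0, 5, 5, 5, 1, 5, 0, 4, 4, 0]],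
   [[0, 3, 0, 2, 0, 2],
    [2, 2, 0, 3, 0, 3, 0, 2, 2],
    [0, 3, 0, 4, 3, 0, 4, 2, 0],
    [2, 0, 2, 4, 0, 4, 2, 4, 0, 4, 2, 0],
    [4, 3, 4, 3, 4]],
   [[4, 3, 4, 2, 0, 2, 4, 2, 2, 0],
    [2, 2, 4, 0, 3, 0, 4, 0],
    [0, 4, 2, 0, 4, 0, 3, 0],
    [3, 0, 3, 0, 3, 0, 4, 2],
    [4, 0, 4, 2, 4, 0, 2],
    [2, 4, 0, 3, 0, 4, 3, 4, 2, 2, 0],
    [3, 0, 2, 0, 3, 0, 4, 3, 4, 0]],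
   [[0, 3, 4, 0, 4, 2, 0, 2, 0, 3],
    [0, 4, 0, 3, 4, 0, 4, 2, 0, 4, 2, 0],
    [4, 3, 4, 2, 0, 2, 4, 2, 2],
    [3, 0, 4, 2, 0, 2, 4, 2, 0],
    [3, 4, 2, 0, 2, 4, 0, 2, 0],
    [4, 0, 3, 0, 4, 3, 0, 3, 0, 2],
    [2, 2, 0, 3, 0, 3]],
   [[2, 0, 0, 3, 1, 2, 0, 2, 2, 2, 0, 2, 1],
    [1, 1, 2, 1, 3, 0, 2, 2, 0, 0, 2]],
   [[2, 0, 0, 2, 2, 0, 0, 2],
    [3, 1, 2, 1, 2, 2, 0, 0],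
    [2, 0, 0, 2, 2, 0, 0, 2],
    [2, 1, 2, 2, 2, 1],
    []],
   [[2, 2, 0, 2, 0, 3],
    [1, 2, 0, 3, 0, 3],
    [3, 3, 0, 2, 1, 3],
    [2, 1, 2, 1, 3, 3, 1, 2, 0],
    [1, 2, 0, 0, 2, 0],
    [2, 2, 0, 3, 0, 3, 0],
    [1, 3, 0, 3]],
   [[0, 3, 0, 4, 0, 3, 4],
    [0, 3, 0, 3, 4, 0, 3, 4, 0, 2],
    [3, 0, 3, 0, 2, 0, 4, 3],
    [0, 4, 0, 2, 4, 0, 4, 2, 4, 0],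
    [3, 0, 4, 0, 3, 0, 3, 4, 3, 0],
    [3, 4, 0, 2, 0, 4, 2, 4, 2, 2, 0],
    [2, 2, 4, 2, 2, 0, 4, 2]],
   [[4, 2, 0, 3, 0, 3, 4, 0, 4, 2],
    [4, 3, 0, 2, 0, 3, 0, 4, 3, 0],
    [2, 0, 3, 0, 3, 4, 3, 0],
    [2, 0, 2, 4, 2, 0, 2, 0],
    [0, 4, 2, 0, 2, 0, 4, 2, 4, 0]],
   [[3, 0, 3, 0, 4, 2, 0, 4, 2, 0],
    [3, 0, 4, 2, 0, 4, 2, 0, 3],
    [2, 4, 2, 0, 2, 0, 4, 2, 0, 3],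
    [2, 2, 4, 0, 2, 2, 4, 3],
    [4, 2, 0, 3, 0, 4, 2, 0]],
   [[0, 0, 2, 0, 3, 0, 3],
    [2, 2, 0, 3, 0, 0, 2, 1],
    [0, 2, 1, 2],
    [2, 2, 0, 3, 0, 3, 1, 2, 0, 0],
    [2, 2, 1, 3, 0, 2, 1]],
   [[3, 4, 3, 0, 3, 4, 0, 2],
    [0, 3, 0, 3, 4, 0, 3, 0, 4],
    [4, 2, 4, 0, 3, 0, 2],
    [0, 4, 0, 2, 4],
    [2, 0, 2, 0, 3, 0, 4, 3, 0]],
   [[3, 3, 0, 3, 3, 0, 3, 0, 0],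
    [3, 0, 3, 1, 2, 2, 0],
    [0, 2, 0, 0, 2, 0],
    [3, 1, 2, 1, 3, 3, 0],
    [2, 1, 2, 2, 0, 0, 2]],
   [[4, 4, 0, 4, 0, 4, 4, 4],
    [5, 5, 1, 4, 1, 4, 4, 4, 4, 4, 2, 0],
    [4, 1, 4, 1, 4, 4, 0, 5, 1, 4, 0, 4, 2, 0],
    [4, 0, 4, 4, 0, 4, 4, 4, 4],
    [1, 4, 4, 0, 4, 0, 4, 1, 4, 0, 4]],
   [[2, 2, 2, 1, 3, 1],
    [1, 3, 0, 2, 1, 3, 3, 0],
    [0, 2, 0, 3, 3],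
    [0, 2, 2, 0, 3, 1, 2],
    [0, 0, 3]],
   [[2, 1, 2, 2, 1, 2, 2],
    [3, 0, 3, 1, 2, 0, 3],
    [1, 3, 1, 2, 1],
    [0, 2, 2, 2, 0, 2, 0],
    [1, 3, 0, 2, 1, 2, 2]],
   [[2, 1, 3, 0, 2, 1, 3],
    [0, 2, 1, 3]],
   [[1, 2, 0, 3, 1, 2, 0, 3, 0],
    [3, 1, 3, 0, 2, 0, 2, 0, 2, 0],
    [2, 2, 2, 0],
    [0, 3, 1, 2, 0, 3, 0, 2],
    [0, 3, 1, 2, 0, 2, 0, 2, 0],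
    [0, 2, 0, 3, 0, 2],
    [1, 2, 2, 2],
    [3, 3, 0, 2, 0, 3, 0, 2, 0],
    [1, 1],
    [0, 2, 2, 2, 1, 3],
    [1, 3, 0, 2, 0],
    [1, 2, 0, 3, 1, 2, 0, 3, 0]],
   [[3, 0, 0, 2, 0, 0],
    [0, 0, 3, 3, 0, 0],
    [0, 3, 0, 2, 1, 2, 2, 0],
    [0, 3, 1, 2, 0, 3, 3],
    [2, 2, 1, 2, 0, 0],
    [2, 1, 3, 0, 2, 2, 0, 0],
    [3, 3, 0, 3, 3],
    [1, 3, 3, 0, 3],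
    [3, 1, 3, 0, 2, 2, 0, 0],
    [0, 3, 3, 1, 2, 1, 3, 0],
    [3, 3, 1, 2, 1, 3, 3],
    [0, 0, 2, 2, 0, 3, 0]],
   [[2, 0, 0, 2, 0, 0],
    [2, 1, 3, 0, 2, 1, 2],
    [3, 0, 3, 3, 0, 3, 0, 0],
    [0, 3, 0, 2, 2],
    [3, 3]],
   [[3, 1, 2, 0, 3, 1, 2],
    [3, 1, 2, 0, 3],
    [3, 3, 0, 2, 2],
    [0, 2, 0, 2, 0, 2, 0, 2],
    [0, 2, 1, 3],
    [0, 2, 1, 2, 0, 2],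
    [2, 0, 2, 0, 2, 0, 2, 0, 2],
    [0, 2, 1, 1],
    [0, 3, 1, 1],
    [3, 3, 3, 3, 0, 0],
    [2],
    [0, 3, 1, 2]],
   [[2, 0, 3, 0, 3, 4, 0, 3, 0, 4],
    [0, 3, 0, 3, 4, 0, 3, 0, 4, 0],
    [2, 4, 2, 2, 4, 2, 0, 2],
    [4, 3, 0, 4, 2, 0, 4, 2, 0, 2],
    [2, 0, 2, 0, 4, 3, 0, 4],
    [4, 2, 0, 2, 4, 0, 2, 4, 0],
    [2, 0, 2, 4, 2, 0, 2, 4, 0, 2, 2],
    [0, 3, 0, 2, 0, 4, 2, 4, 0, 3],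
    [0, 2, 0, 4, 2, 0, 2, 0, 4],
    [0, 3, 0, 3, 0, 2, 0, 2, 0],
    [0, 2, 4, 0, 2, 4, 2, 2, 0],
    [2, 2, 4, 2, 2, 4, 0, 2]],
   [[0, 4, 2, 4, 0, 3, 0, 3, 4, 3],
    [0, 4, 0, 2, 4, 0, 4, 2, 4, 0, 4],
    [2, 4, 2, 0, 4, 2, 0, 3, 0, 4],
    [0, 4, 2, 0, 4, 2, 0, 4, 0, 2, 0],
    [0, 4, 2, 0, 3, 0, 2, 2],
    [0, 4, 3, 4, 0, 2, 0],
    [0, 2, 0, 2, 0, 3, 0, 4, 3, 0, 2]],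
   [[1, 1, 2, 0, 0],
    [],
    [4, 0, 5],
    [4],
    [4, 4, 0, 0],
    [5, 2, 0, 2],
    [1, 2, 0]],
   [[2, 1, 2, 0],
    [0, 0, 5, 0, 0],
    [5, 5, 2, 0],
    [5, 1, 2],
    [4, 4, 4, 1, 1]],
   [[5, 5, 0, 4, 1, 5, 0, 4, 1, 4],
    [1, 5, 1, 5, 5, 5, 1, 5, 0, 4, 0],
    [5, 5, 1, 5, 1, 4, 1, 5, 0],
    [1, 4, 4, 4, 4, 4, 0, 5, 2],
    [4, 1, 5, 0, 4, 4, 1, 4, 4, 0, 4]],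
   [[0, 4, 0, 2, 0, 2, 0, 4],
    [4, 0, 3, 0, 3, 0, 4, 0],
    [0, 4, 2, 0, 4, 2, 0],
    [4, 2, 4, 2, 2, 4, 2, 2],
    [2, 2, 0, 3, 0, 2, 2],
    [0, 3, 0, 4, 2, 0, 2, 0, 3],
    [4, 0, 3, 0, 4, 0, 2, 0, 4, 2, 4],
    [0, 3, 0, 3, 0],
    [4, 3, 4, 3, 0, 3],
    [0, 3, 0, 3, 4, 0, 4, 2, 0, 2],
    [3, 0, 4, 2, 0, 4, 3, 0, 2, 0],
    [0, 2, 4, 2, 0, 2, 4]],
   [[1, 2, 0, 2, 0],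
    [4, 1, 4, 1, 1],
    [0, 5, 1, 4, 0],
    [5],
    [4, 2, 1],
    [5, 0, 0, 5],
    [1, 1, 2, 1, 1]],
   [[4, 4],
    [4, 0, 5, 2, 1],
    [4, 0, 0],
    [2, 1, 2],
    [5, 5],
    [5, 2, 1, 1],
    [1, 2, 0]],
   [[0, 0],
    [0, 5, 1],
    [4, 1],
    [0, 5, 2, 1, 2],
    [4, 1, 4, 1, 1]],
   [[4, 4],
    [2, 0, 0, 5, 0],
    [],
    [0, 5, 1, 1],
    [4, 4, 4, 0],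
    [5, 1, 4, 1, 1],
    [0, 2, 0, 0]],
   [[0, 2, 0, 0, 2, 0, 0],
    [3, 3, 0, 3, 3, 0, 3, 1],
    [2, 2, 1, 2, 2, 0],
    [3, 3, 0, 2, 1],
    [1, 2, 2, 0, 0, 2, 0],
    [2, 2, 0, 3, 0, 3, 1, 2, 1],
    [2, 0, 2, 1, 2, 2]],
   [[2, 1, 2, 0],
    [0, 2, 1, 3, 0, 2, 1, 2, 0]],
   [[2, 0, 2, 0, 2, 0, 2, 0],
    [2, 1, 3, 0]],
   [[3, 1, 2, 0, 0, 0],
    [2, 1, 2, 0]],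
   [[2, 0, 3, 1],
    [0, 2, 1, 3],
    [0, 2, 2, 2, 0, 3, 0, 2],
    [3, 1, 3, 3, 0],
    [0, 2, 2, 0, 0],
    [3, 1, 2, 0],
    [0, 3, 1, 2, 0, 2, 0, 2, 0],
    [0, 3],
    [2, 1, 3, 0, 2, 0, 2, 0],
    [1, 2, 0, 3, 0, 2, 0, 2],
    [2, 0, 2, 2, 0],
    [2, 1, 3, 3]],
   [[1, 2, 2, 1, 3, 3],
    [2, 0, 2, 1, 2, 2, 2, 0],
    [0, 0, 2, 0, 3, 0, 0],
    [3, 1, 2, 2, 2, 0, 3],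
    [2, 1, 2, 2, 1, 3, 0],
    [1, 2, 0, 0, 3, 1],
    [0, 3, 0, 3, 3, 1],
    [0, 2, 2, 0, 0, 2, 2, 1],
    [1, 3, 1, 2, 2, 2],
    [2, 2, 2, 0, 2, 2, 2, 0],
    [3, 0, 3, 3, 1],
    [1, 3, 0, 2, 0, 0, 2]],
   [[2, 0, 3, 0, 2, 0, 2, 0],
    [2, 0, 2, 1, 2, 0, 2, 0],
    [2, 0, 2, 1],
    [2, 0, 3, 0, 2, 0, 2, 0, 2],
    [1, 3, 3, 3, 0, 2],
    [3, 3, 3, 0, 0],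
    [2, 1, 2, 0, 2, 0, 2, 0],
    [3, 1, 2, 0, 2],
    [3, 0, 2, 1],
    [2, 0, 3, 0, 2, 0],
    [3, 0, 2, 1, 3, 0],
    [2, 1, 3, 3, 3, 0, 2, 0]],
   [[3, 3, 0, 0, 3, 3, 1, 2, 0],
    [2, 0, 2, 1, 3, 0, 0],
    [0, 2, 2, 0, 3, 3],
    [2, 2, 2, 1, 2, 2, 2, 0, 0],
    [1, 3, 0, 2, 1, 2, 0],
    [0, 2, 0, 0, 2, 1],
    [0, 2, 2, 0, 3, 3, 0, 0],
    [0, 3, 0, 0, 3, 3],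
    [1, 2, 0, 0, 3],
    [0, 0, 2, 2],
    [1, 3, 0, 0, 2, 0],
    [2, 0, 3]],
   [[3, 3, 1, 2, 2],
    [1, 2, 2, 1, 2],
    [1, 3, 0, 3, 0],
    [2, 0, 2, 1, 2, 2, 2, 0],
    [0, 3, 1, 2, 0, 3, 3, 0, 0],
    [2, 2, 2, 0],
    [2, 2, 1, 2, 2, 1, 3, 1],
    [2, 0, 0],
    [0, 2, 0, 0, 3, 1],
    [2, 0, 0, 3, 3, 0],
    [1, 3, 0, 0, 2, 2, 0, 0],
    [3, 0, 0, 2, 1, 3]],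
   [[1, 3, 3, 0, 0],
    [2, 2, 2, 0, 0, 2, 0, 0],
    [2, 0, 2, 2, 0, 0],
    [3, 0, 2, 1, 2, 2, 2],
    [3, 1, 2, 2, 0, 2]],
   [[3, 1, 3, 1],
    [1, 3, 0, 2, 1, 2],
    [3, 1, 2, 1, 3, 3],
    [3, 0, 3, 1, 2, 2, 2],
    [3, 3, 0, 3, 0, 3]],
   [[5, 1, 4],
    [1, 1, 4],
    [4, 0, 5, 1],
    [5, 1, 4, 1, 1],
    [2, 1, 4, 2, 0]],
   [[4, 4, 4],
    [4, 4, 1],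
    [0, 0],
    [0, 0, 2, 1, 1],
    [4, 0, 5, 0]],
   [[2, 1, 2, 1],
    [2, 1, 2, 1, 1],
    [4, 0, 2, 0],
    [1, 4, 2, 0],
    [4, 4],
    [4, 4, 4, 2, 0],
    [1, 4, 0, 5],
    [5, 1, 4, 2, 1],
    [2, 1, 4, 0],
    [4, 1, 1, 4, 2],
    [1, 4, 2, 0],
    [1, 4, 0, 5, 1]],
   [[0, 0, 2, 1],
    [5, 2, 0, 2],
    [5, 2, 0, 2],
    [0, 2, 1, 4, 0],
    [4, 0, 5, 1],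
    [4, 1, 2, 0, 0],
    [2, 1, 4, 2],
    [5, 2, 0, 2, 0],
    [1, 1, 4, 2],
    [4, 4, 2, 0, 2],
    [1, 4, 0, 5],
    [2, 1, 2, 0, 0]],
   [[0, 0, 2, 1, 2, 0],
    [2, 1, 2, 2, 1, 3, 1],
    [2, 2, 0, 0, 3, 0, 3, 0, 0],
    [0, 2, 0, 3],
    [3, 0, 2, 0, 3, 0, 2, 0],
    [2, 0, 2, 0, 3, 1, 2, 0],
    [1, 3, 0, 0, 2],
    [2, 0, 2, 1, 2, 2, 0, 0],
    [0, 2, 2],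
    [2, 1, 2, 2, 1, 3, 0],
    [2, 0, 0, 3, 0, 2],
    [3, 3, 1, 3, 3, 0],
    [0, 0, 3, 0, 2, 2],
    [3, 1, 3, 0, 2, 0],
    [2, 0, 0, 2, 2, 0, 0],
    [1, 3, 1, 2, 2],
    [1, 2, 1, 3, 1, 2, 2],
    [2, 2, 0, 0, 2, 2, 1],
    [3, 1, 3, 1, 2],
    [1, 3, 0, 0, 3, 3]],
   [[2, 2, 0, 0, 2, 1, 2, 1],
    [3, 3, 0, 3, 1, 3],
    [3, 0, 3, 3, 0],
    [3, 0, 0, 3, 3, 1, 2, 1],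
    [2, 2, 1, 3, 0, 2, 1],
    [1, 3, 0, 3, 1, 2],
    [2, 2, 0, 0, 2, 2, 0, 2],
    [0, 3, 1, 2, 0, 0, 2, 0],
    [2, 2, 0, 0, 3, 0, 3, 0, 0],
    [2, 0, 2, 1, 3, 1, 2, 0],
    [2, 0, 3, 1, 2, 0, 3, 0, 0],
    [0, 2, 1, 2, 1, 3, 3],
    [0, 3, 3, 1, 2, 1, 3, 0],
    [2, 2, 1, 2, 0],
    [3, 0, 2, 0, 3, 0],
    [1, 3, 0],
    [2, 1, 3, 0, 3, 1],
    [3, 0, 0, 2, 2, 2, 0],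
    [0, 2, 1, 2, 2, 2],
    [2, 2, 1, 3, 3, 0, 0]],
   [[2, 0, 2, 1, 1],
    [5, 0, 2, 1],
    [4, 1],
    [2, 0, 0, 5],
    [5, 5, 1, 1],
    [5, 5, 1, 1],
    [4, 1, 1, 4],
    [5, 2, 1, 4, 0],
    [5, 1, 4, 2],
    [4, 4, 1, 2],
    [2, 0, 0, 5],
    [4, 0, 5, 2, 0]],
   [[2, 0, 2, 0, 2, 0, 2],
    [1, 2, 0, 2, 0, 2, 0],
    [3, 1, 2, 0, 2, 0, 2, 0, 2],
    [3, 1, 2, 2, 2, 2, 0],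
    [1, 2, 0, 3, 0, 2],
    [2, 0, 2, 2, 0],
    [2, 0, 2, 2, 2],
    [3, 1, 2, 0, 3, 0, 2, 0],
    [3, 3, 0, 2, 0, 3, 0, 2, 0],
    [0, 3, 3, 3],
    [0, 2, 2, 2, 1, 3, 0, 2],
    [3, 1, 2, 0, 3, 0, 2, 0, 2, 0]],
   [[3, 0, 2, 1, 3, 0, 2],
    [2, 2, 2, 1, 3, 0, 2, 0],
    [0, 2, 1, 2, 0, 3, 0, 2, 0],
    [3, 1, 2, 0, 3, 0, 2, 0, 2, 0],
    [2, 1, 3, 0, 2],
    [2, 0, 2, 0, 2, 0, 2, 0, 2],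
    [1, 3, 0, 2, 1, 3],
    [3, 1, 2, 0, 3, 0, 2, 0, 2, 0],
    [2, 1, 3, 0, 0],
    [3, 0, 3, 0, 2, 0, 2, 0, 2],
    [2, 0, 0, 0, 0],
    [2, 1, 3, 3, 3, 0, 2, 0]],
   [[2, 2, 1, 3, 0, 2, 0],
    [1, 3, 0, 2],
    [3, 0, 2, 1, 3],
    [0, 2, 1],
    [2, 2, 2, 0, 0],
    [1, 3, 0, 2, 1, 3],
    [1, 3, 0, 2, 0, 3],
    [2, 2, 1, 3, 3, 0],
    [3, 0, 2, 0, 3, 0, 2, 0, 2],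
    [2, 0, 3, 1, 1],
    [3, 3, 3, 1, 2],
    [2, 0, 3, 3],
    [3, 3, 0, 2, 0],
    [2, 1, 2, 0, 3, 0],
    [1, 3],
    [0, 2],
    [2, 2, 1, 3, 3],
    [2, 0, 3, 1, 2, 0, 3, 0],
    [3, 3, 3, 3, 0, 2, 0],
    [2, 0, 2, 0, 2, 0],
    [1, 3, 3, 3, 0, 2],
    [3, 0, 2, 1, 3, 0, 0],
    [1, 2, 0, 2],
    [0, 3, 1, 3, 0, 2, 0, 2, 0],
    [1, 3, 0, 2, 0, 3],
    [3, 0, 2, 1, 2, 0, 2],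
    [0, 2, 0],
    [1, 2, 0, 3, 1, 2],
    [0, 3, 0, 2, 0, 2],
    [3, 0, 3, 0, 3, 0, 2, 0, 2]],
   [[2, 2, 1, 3, 0, 2, 0],
    [2, 1, 3, 0, 2, 0, 2, 0, 2],
    [0, 2, 1, 2, 0, 3, 0],
    [2, 1, 3, 3],
    [2, 0, 0],
    [1, 3, 0, 2, 1, 3, 0],
    [0, 2, 2, 2, 1, 3],
    [2, 0, 2, 1, 2, 0, 3, 0],
    [2, 0, 2, 1, 2, 0, 2, 0, 2, 0],
    [0, 2, 0, 3],
    [3, 0, 2, 1, 3, 0, 2],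
    [0, 2, 0, 3, 0, 2, 0, 2, 0],
    [2],
    [1, 3, 0, 2, 1, 3, 0, 0],
    [0, 2, 2, 2, 1, 3, 0],
    [3, 3, 1, 2, 0, 3],
    [3, 3, 3, 0],
    [3, 0, 2, 1, 1],
    [2, 2, 2, 2, 2, 1],
    [0, 3, 1, 1],
    [2, 0, 2, 1, 2, 0, 2],
    [2, 2, 2, 0, 3, 1, 2],
    [0, 3, 3, 3, 3, 0],
    [1, 2, 0, 3, 0, 2, 0, 2],
    [2, 2, 2, 0, 3, 0, 2, 0],
    [2, 2, 0, 0],
    [3, 0, 2, 1, 3, 0, 0, 0],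
    [2, 0, 0, 0],
    [0, 2, 0, 3, 0, 2],
    [0, 2, 0, 3, 0]],
   [[],
    [1, 3],
    [2],
    [3, 0, 2, 0, 2, 0],
    [3, 0, 3, 0, 3, 0],
    [3, 1, 2, 0, 0],
    [3],
    [3, 0, 2, 1, 3, 0, 2, 0, 2, 0],
    [2, 1, 3, 3, 3, 0, 0],
    [1, 2, 2, 2, 0, 3, 0, 2, 0],
    [3, 3, 3, 1],
    [3, 0, 3, 0],
    [2, 2, 0, 3, 3],
    [2, 0, 2, 1, 2, 0, 3],
    [3, 3, 3, 3, 0, 2, 0],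
    [3, 3, 0, 2, 0, 3, 0, 2, 0],
    [2, 1, 3, 3],
    [2, 0, 3, 1, 2],
    [1, 2, 0, 2, 0, 2, 0],
    [0, 2, 1, 2, 0, 3, 0, 2],
    [3, 0, 2, 0, 3, 0, 2, 0, 2],
    [2, 1, 3, 0, 2, 1, 3, 0, 0],
    [2, 1, 2, 0, 2, 0, 2],
    [0, 3, 1, 2, 0, 2, 0, 2, 0],
    [2, 1, 3, 0, 2, 1, 1],
    [3, 0, 0, 0, 0],
    [2, 2, 2, 0, 3, 0, 2, 0],
    [2, 1, 2, 0, 3, 0, 2, 0],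
    [2, 1, 3, 0, 2, 0, 3, 0, 2, 0],
    [2, 0, 3, 1, 2]],
   [[2, 2, 2, 2, 0],
    [2, 1, 3, 0, 2, 1, 2, 0, 2],
    [0, 3, 3, 3, 0],
    [3, 1],
    [2, 2, 2, 1, 3],
    [3, 1, 2, 0, 3, 0, 2, 0],
    [2, 1, 2, 0, 3, 0],
    [3, 0, 3, 0, 2],
    [0, 2, 0, 3, 0, 2, 0, 2, 0],
    [1, 2, 2, 2],
    [1, 3, 0, 2, 0, 2],
    [3, 1, 3, 0, 2, 0, 2, 0, 2],
    [2, 2, 0],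
    [3, 3, 3, 0, 2, 2, 0],
    [0, 3, 0, 2, 0, 2, 0, 2, 0],
    [3, 0, 2, 2, 2, 1],
    [2, 0, 3, 0, 2, 0, 2],
    [0, 2, 0],
    [],
    [0, 2, 1, 3],
    [1, 2, 0, 2, 0, 2, 0, 2],
    [1, 2, 0, 2, 0, 2, 0, 2],
    [2, 2, 0, 0],
    [2, 2, 2, 0, 3, 0, 2, 0],
    [3, 0, 2, 0, 3],
    [0, 2, 1, 3, 0, 2, 1],
    [2, 0, 2, 0, 2, 0, 2, 0],
    [3, 3, 3, 1],
    [3, 0, 2, 1, 3, 0, 2, 0, 2],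
    [1, 2, 0, 2, 0, 2]],
   [[1, 2, 0, 3],
    [2, 2, 0, 3, 0, 2],
    [0, 3, 3, 3, 0, 2],
    [0, 3, 3, 3, 0, 2],
    [0, 2, 0, 3, 0, 2, 0, 2, 0],
    [3, 0, 2, 1, 3, 0, 0, 0],
    [0, 2, 2, 0],
    [3, 1, 3, 0, 2, 0, 2],
    [1, 3, 0, 2, 1, 3, 0, 2, 0],
    [0, 0, 0, 0, 0],
    [3, 1, 2, 0, 2, 0],
    [0, 0, 0, 0, 0]],
   [[2, 1, 3, 0],
    [0, 3, 3, 3, 0, 2],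
    [0, 2, 0, 2, 0, 2, 0, 2],
    [0, 3, 3, 3, 3],
    [2, 1, 3, 0, 2, 0, 2],
    [1, 2, 0, 3, 0, 2, 0, 2],
    [0, 3, 1, 3, 0],
    [3, 0, 2, 1, 3, 0, 2, 1],
    [2, 0, 2, 0, 2],
    [2, 2, 2, 2, 1],
    [1, 3, 0],
    [0, 2, 0, 2, 0]],
   [[5, 2, 0, 2, 1],
    [2, 0, 0, 5, 2],
    [5, 5, 2, 1, 2, 0],
    [1, 1, 4, 2],
    [2, 1, 4, 0, 0],
    [1, 4, 2],
    [4, 0, 5, 0],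
    [2, 1, 2, 0],
    [5, 0, 2, 0, 0],
    [5, 0, 2, 0, 0],
    [5, 5, 1, 1, 4],
    [4, 4, 2, 0, 2, 1]],
   [[1, 1, 4, 2],
    [0, 5, 2],
    [5, 5, 2, 1, 2, 0],
    [4, 0, 5, 2, 0],
    [5, 2, 1, 4, 2],
    [0, 2, 0, 0],
    [],
    [4, 1, 4, 1, 4],
    [4, 2, 0, 2, 1],
    [1, 4, 1, 2],
    [4, 2, 0],
    [5, 2, 1, 1]],
   [[1, 4, 0, 0],
    [5, 1, 4, 2, 1],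
    [2, 0, 5, 2],
    [4, 4, 2, 0, 2],
    [0, 5, 2, 0],
    [4, 4, 4, 2],
    [1, 2, 0, 0],
    [0, 0],
    [4, 4, 4, 2, 0],
    [5, 1, 1],
    [2, 1, 4],
    [0, 2]],
   [[0, 5, 1, 4, 0],
    [5, 0, 0, 5],
    [4, 0, 5, 2],
    [2, 1, 2, 1],
    [4, 4, 4, 0, 0],
    [4, 1, 4, 0, 0],
    [1, 4, 1],
    [4, 2],
    [4, 1, 2, 0, 0],
    [5],
    [0, 2, 1, 2],
    [2, 0, 0, 5],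
    [4, 2, 1],
    [4, 0, 2, 1],
    [5, 2, 0, 0],
    [5, 2, 0, 2],
    [5, 5, 1, 4],
    [5, 5, 2, 1],
    [1, 1, 4, 2],
    [5, 2, 0, 2, 1],
    [4, 2, 1, 2, 0],
    [2, 1, 4, 2],
    [4, 1, 1],
    [4, 0, 5, 1],
    [2, 1, 4, 1],
    [5, 5, 1, 4, 2],
    [1, 2, 0, 2, 0],
    [5, 2, 1, 2, 1],
    [2, 0, 5, 1],
    [5, 2, 1, 2]],
   [[5, 5, 2, 1, 2],
    [4, 0, 2, 0],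
    [4, 4, 4, 2],
    [4, 2, 1, 1],
    [4, 2, 0, 0],
    [2, 0, 5],
    [2, 1, 1, 4, 2],
    [5, 2, 0, 2, 0],
    [5, 0, 0, 5],
    [2, 0, 0],
    [4, 2, 1, 2],
    [1, 1, 4],
    [5, 1, 2],
    [5, 2, 1, 2, 0],
    [4],
    [1, 1, 4, 2],
    [1, 4],
    [2, 0, 0, 5, 2],
    [4, 2, 1, 2],
    [4, 2, 1, 2],
    [5, 1, 4, 0, 0],
    [5, 1, 4, 1],
    [1, 4, 2, 1],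
    [4, 2, 0, 2, 1],
    [5, 1, 2],
    [5, 1, 4, 2],
    [4, 1, 2],
    [2, 0, 5, 2, 0],
    [4, 4, 1, 2, 0],
    [0, 5, 1, 4, 2]],
   [[1, 4, 0, 5],
    [4, 1, 2],
    [1, 1],
    [1, 4, 1, 4, 0],
    [4, 0, 5, 2, 1],
    [4, 0, 5, 1],
    [2, 1, 2, 1],
    [4, 1, 4, 2, 0],
    [1, 1, 2, 1],
    [0, 5, 1, 4, 0],
    [2, 0, 2, 0],
    [1, 4, 0, 5, 2],
    [5, 5, 2, 0],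
    [4, 1, 2, 1, 1],
    [4, 0, 5],
    [4, 1],
    [4, 1, 1, 4],
    [5, 0, 2, 0, 0],
    [0, 0, 2],
    [4, 0, 2, 1, 4],
    [4, 4, 1, 1],
    [1, 4, 1, 4],
    [1, 1],
    [5, 1, 4, 2, 0],
    [0, 2, 1, 1],
    [4, 0, 5],
    [5, 2, 1, 2, 1],
    [5, 5, 2],
    [5, 5, 0, 2, 1],
    [1, 1, 4, 1]],
   [[5, 0],
    [0, 2, 1, 4, 0],
    [1, 4, 1, 4, 0],
    [5, 1, 4, 1],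
    [4, 0, 2, 0],
    [2, 1, 4, 2, 1],
    [5, 0, 2, 1, 1],
    [0, 0, 5, 2],
    [2, 0, 5],
    [5, 5, 0, 0],
    [1, 4, 2, 1],
    [4, 4, 0],
    [1, 4, 1],
    [4, 1, 4, 2, 1],
    [5, 2, 1, 2, 0],
    [4, 2, 1, 2],
    [5, 5, 1, 4],
    [2, 1, 4, 0, 0],
    [0, 2],
    [2, 0, 2, 1, 1]],
   [[4, 4, 4, 1, 1],
    [1, 4, 0, 5],
    [2, 1, 2, 0],
    [5, 5, 0, 0],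
    [5, 5, 1],
    [1, 1, 4, 1],
    [0, 0, 2, 0, 0],
    [2, 1, 2, 1]],
   [[5, 1, 4],
    [2, 0, 0, 5],
    [0, 2, 1, 1],
    [0, 0, 5, 0],
    [0, 2, 0, 0],
    [4, 1, 2, 0],
    [5, 2, 0, 2, 0],
    [0, 5, 0, 2]],
   [[],
    [4, 1, 4, 2, 1],
    [4, 1, 2, 0],
    [5, 0, 0, 5],
    [2, 0, 5, 0],
    [1, 1, 2, 0],
    [4, 2, 1, 2, 0],
    [2, 0],
    [5, 1, 4, 2],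
    [5, 0, 2, 0, 0],
    [4, 4, 2, 1],
    [0, 2, 1, 2, 1],
    [5, 5, 2, 1, 1],
    [5, 1, 4, 1, 1],
    [5, 5],
    [5, 5, 2],
    [0, 5, 0, 0],
    [0, 2, 0],
    [4, 4, 2, 0, 2, 1],
    [4, 4, 2, 0, 2, 0],
    [4, 4, 2],
    [1, 4, 0],
    [2, 0, 0],
    [4, 4, 2, 0],
    [0, 0],
    [5, 2],
    [4, 1, 4, 1],
    [4, 0, 2, 1, 4],
    [2, 1, 2, 0, 0],
    [5, 0, 2]],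
   [[5, 0, 0],
    [1, 1, 2, 0, 0],
    [5, 0, 0],
    [4, 4, 4, 2],
    [1, 2, 1],
    [2, 1, 1, 4, 2],
    [2, 1, 4],
    [5, 1, 1, 4, 2],
    [0, 5, 1, 4, 0],
    [5, 1, 4, 1],
    [5, 5, 1, 1, 4],
    [2, 0, 0, 5, 0],
    [5, 2, 0, 0],
    [4, 0, 5, 0],
    [4, 1, 4, 1],
    [4, 4, 2, 1],
    [0, 2, 1, 1],
    [5, 2, 1, 2, 1],
    [4, 1, 2, 0, 0],
    [1, 1, 4],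
    [0, 0, 5, 0],
    [5, 5, 1, 4, 1],
    [0, 5, 2, 1],
    [2, 0, 5, 2, 0],
    [5, 0, 2],
    [2, 1, 4, 2, 1],
    [2, 0, 5, 2, 1],
    [0, 0, 5],
    [4, 4, 4, 0],
    [5, 0, 2, 0, 0]],
   [[],
    [1, 2, 0, 2, 0],
    [1, 2],
    [2, 0, 0, 5],
    [4, 0, 5, 0, 0],
    [5, 5, 2, 1, 1],
    [0, 2, 1, 2],
    [1, 1, 2, 1, 1],
    [5, 1, 1],
    [2, 1, 4, 2, 0],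
    [0],
    [0],
    [1, 4, 2],
    [2, 0, 5],
    [1, 4, 1, 4, 0],
    [4, 4, 4, 1, 1],
    [0],
    [1, 4, 1, 4],
    [4, 1, 4],
    [4, 4, 2]],
   [[5, 2, 1, 4, 2],
    [5, 5, 1, 1],
    [1, 1],
    [5, 2, 1, 2, 0],
    [5, 5, 1, 1],
    [4, 2, 0, 2, 1],
    [2, 0, 5, 0],
    [4, 0, 5, 1, 1]],
   [[1, 4, 1, 4, 0],
    [4, 4, 0],
    [4, 4, 2, 0, 2],
    [1],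
    [4, 4, 2, 1],
    [1, 2, 0],
    [2, 1, 4],
    [4, 2, 1]],
   [[1, 2, 0, 2, 0],
    [5, 1, 2],
    [4, 1, 4, 1],
    [5, 1, 4, 2],
    [1, 4, 1, 4],
    [0, 0, 2, 1],
    [1, 1, 2, 0],
    [5, 5, 1, 1],
    [2, 1, 2, 0],
    [4, 4, 2],
    [1, 2, 0, 2],
    [5, 1, 4, 1, 1],
    [5],
    [1, 2, 0, 0],
    [5, 5, 0, 0],
    [4, 4, 1, 2, 0],
    [5, 5, 0, 2, 0],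
    [1, 4, 1, 4, 0],
    [],
    [5, 5],
    [2, 1, 1, 4],
    [4, 4, 2, 0, 2],
    [5, 5, 1, 1, 4],
    [0, 5, 1, 4, 2],
    [5, 1, 4, 1],
    [5, 1, 2, 0],
    [5, 1, 4, 2, 1],
    [5, 1, 4, 0],
    [0, 2, 1, 1],
    [1]],
   [[3, 0, 2, 0, 3, 3, 0, 3, 0, 3, 0],
    [3, 3, 3, 3, 0, 2, 0, 2, 0, 2],
    [3, 0, 3, 0, 3, 3, 0, 2, 0],
    [],
    [0, 3, 0, 2, 0, 2, 2, 0],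
    [3, 0, 3, 3, 3, 0, 3, 0],
    [2, 0, 3, 0, 2, 2, 2, 0, 2, 0],
    [2, 0, 2, 0, 2],
    [2, 0, 3, 0, 3, 3, 0],
    [3, 0, 2, 2, 0, 2, 0, 2, 0],
    [0, 3, 0, 2],
    [0, 3, 0, 3, 3, 0, 3, 0],
    [3, 3, 3, 3, 3, 3, 3, 0],
    [3, 0, 2, 0, 3, 3, 3, 3],
    [2, 2, 0, 3, 0, 2, 2, 2, 2],
    [0, 3, 3, 3, 3],
    [2, 2, 0, 2, 0, 3, 3],
    [2, 2, 0, 2, 0, 2, 0, 2, 0],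
    [3, 3, 0, 3],
    [3, 3, 0, 3, 0, 3]],
   [[],
    [2, 2, 0, 2, 2, 0, 2, 2],
    [0, 3, 0, 2, 2, 2],
    [2, 0, 2, 2, 2],
    [2, 2, 0, 3, 0, 2, 2, 0, 2, 0],
    [3, 3, 3, 3, 0, 2, 2],
    [2, 0, 3, 3, 0, 3, 0, 3],
    [2, 0, 2, 0, 2, 0, 2, 0],
    [0, 2, 0, 3, 3, 0, 3],
    [2, 2, 2, 2, 0, 3, 0, 2],
    [0, 3, 0, 2, 0, 2, 0, 2],
    [3, 0, 3, 0, 2, 2, 0, 2],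
    [0, 2, 2, 0, 2, 0, 2],
    [2, 2, 0, 3, 0, 2, 2, 0, 2],
    [2, 0, 2, 0, 3, 3, 3, 0, 2],
    [2, 0, 3, 3, 0, 3, 3, 0],
    [3, 3, 0, 2, 2, 2, 0],
    [0, 2, 0, 3, 3, 3, 3, 0, 2, 0, 2],
    [3, 3, 3, 3, 0, 2, 0, 2, 0, 2, 0],
    [0, 3, 3, 3, 3, 0, 2, 0, 2],
    [0, 3, 0, 2, 2, 0, 2, 2],
    [3, 0, 2, 0, 3],
    [3, 0, 2, 2, 0, 2, 2, 2, 0],
    [3, 3, 3, 3, 3, 3, 3, 0],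
    [2, 0, 2, 2, 2, 0, 3],
    [0, 2, 2, 0, 2, 0, 2, 2],
    [0, 3, 3, 0, 3, 3, 0, 2],
    [3, 3, 3, 3, 3, 3, 0, 2],
    [2, 2, 2, 0, 2, 2, 0, 3],
    [3, 3, 0, 3, 0, 2, 2, 0, 2, 0]],
   [[],
    [1, 4, 2, 1],
    [0, 2, 1, 2, 1],
    [2, 0, 5],
    [0, 0, 2, 0, 0],
    [5],
    [5, 1, 1, 4],
    [5, 5, 2, 0],
    [5, 1, 4, 2, 0],
    [4, 1, 4, 0, 0],
    [1, 4, 1, 4, 2],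
    [1, 2, 0, 0],
    [5, 1, 4],
    [4, 2, 0, 0],
    [4, 4, 4, 1, 1],
    [1, 4, 0, 5, 2],
    [4, 4, 2, 1, 1],
    [1, 2, 1],
    [0, 0, 2],
    [5, 2, 1, 4, 0],
    [5, 1, 4, 1],
    [1, 1, 2],
    [2, 0, 0],
    [4, 1, 1, 4, 2],
    [4, 4, 1],
    [4, 1, 4, 1, 1],
    [4, 1, 2],
    [4, 4, 2, 0, 2, 1],
    [5, 5, 0, 2],
    [5, 5, 1, 4, 0]],
   [[3, 3, 3, 0, 2, 0, 2, 0, 2, 2],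
    [3, 0, 3, 0, 3, 3, 0],
    [3, 0, 2, 0, 3, 3, 3],
    [3, 0, 2, 0, 3, 3, 0, 3, 0, 3, 0],
    [3, 0, 3, 3, 0],
    [0, 2, 2, 2, 0],
    [2, 0, 2, 2, 0, 2, 2, 0],
    [3, 0, 3, 0, 2, 2, 0],
    [3, 0, 2, 0, 2, 2, 0, 2, 0],
    [3, 0, 3, 0, 2, 0, 2, 0],
    [2, 2, 0, 2, 2, 0, 2, 2, 0],
    [2, 0, 3, 0, 3, 3, 0, 2, 0],
    [2, 2, 0, 2, 0, 2, 2, 0, 2, 0],
    [0, 2, 0, 2, 2, 0, 3],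
    [2, 0, 2, 0, 2, 0, 3, 0],
    [2, 0, 2, 2, 2, 0, 2, 2],
    [0, 2],
    [3, 0, 2, 0, 3, 3, 0, 3, 0, 3],
    [2, 2, 0, 3, 3, 3],
    [0, 2, 0, 2, 0, 2, 0],
    [3, 3, 0, 3, 0, 3, 0],
    [2, 2, 0, 3, 0, 2, 2, 0, 2, 2, 0],
    [2, 0, 3, 3, 0, 3, 3],
    [3, 3, 3, 0, 2, 0, 2, 2, 0],
    [0, 3, 3, 3, 3, 0, 2, 0, 2, 0],
    [3, 0, 2, 0, 3, 3, 3, 3],
    [2, 0, 2, 0, 2, 0, 2],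
    [0, 3, 3, 3, 0],
    [0, 2, 2, 0, 2, 0, 3, 3],
    [3, 0, 3, 3, 3, 0, 3]],
   [[2, 2, 2, 0, 2, 2, 0, 3, 0],
    [2, 0, 3, 3, 3, 0, 2, 2, 0],
    [2, 0, 3, 3, 0, 3, 3, 0, 2],
    [3, 0, 2, 0, 2, 2, 0, 2],
    [2, 2, 2, 2, 0],
    [2, 2, 2, 2, 0, 3, 0, 2, 2, 0],
    [3, 0, 3, 3, 3, 0, 3, 0],
    [3, 0, 3, 0, 3],
    [3, 3, 3, 3, 0, 2, 0, 2, 0, 2],
    [2, 0, 3],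
    [3, 0, 2, 0, 3, 3, 0, 3, 0],
    [2, 2, 0, 2, 0, 3, 0],
    [3, 0, 3, 0, 3, 0, 2, 0],
    [2, 2, 2, 0, 2, 0, 2, 0],
    [2, 2, 0, 2, 2, 2, 0],
    [3, 0, 2, 0, 2, 0, 2, 2, 0],
    [2, 2, 0, 2, 2, 0, 3],
    [0, 2, 0, 2, 0, 2, 2],
    [0, 2, 2, 0, 2, 0, 2, 2, 0],
    [2, 2, 0, 3, 0, 2, 2, 2, 0]],
   [[1, 2, 0, 2, 0],
    [0, 5, 2, 1, 4],
    [0, 5, 1, 4, 2],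
    [5, 5, 1, 4],
    [4, 0, 2],
    [4, 1, 4, 2, 1],
    [1, 2, 0, 5],
    [0, 5, 2, 0],
    [5, 1, 4],
    [5, 2, 1, 2, 0],
    [0, 2, 1, 4, 2],
    [5, 5, 0, 2, 0],
    [2, 1, 4],
    [1, 4, 1, 1],
    [4, 4, 4, 1, 1],
    [5, 0, 2, 0, 0],
    [5, 0, 2, 1],
    [5, 1, 1],
    [5, 5, 2, 0, 0],
    [4, 2, 1],
    [4, 1, 2],
    [4, 4, 0],
    [5, 0, 2, 1, 1],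
    [4, 0],
    [2, 1, 4],
    [2, 0, 5, 2, 1],
    [5, 1],
    [4, 4, 4, 1, 1],
    [4, 2, 1, 2],
    [5, 2, 1, 4, 1]],
   [[2, 2, 2, 0, 3, 0, 3, 0, 3, 0],
    [3, 3, 0, 3, 3, 0, 3, 0],
    [3, 3, 0, 2, 0, 3, 3, 0],
    [2, 0, 2, 0, 2, 0, 2, 0],
    [0, 2, 2, 2, 0, 2, 0],
    [0, 3, 0, 2, 0, 2, 0],
    [0, 2, 0, 2, 0, 3],
    [0, 2, 2, 2, 0],
    [2, 2, 2, 2, 2, 2],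
    [3, 0, 3, 0, 2, 0],
    [3, 0, 3, 3, 3, 0],
    [2, 0, 2, 0, 2, 2, 0, 2, 0],
    [2, 0, 2, 0, 2, 0, 2, 2],
    [2, 0, 2, 0, 3, 3, 0, 3, 0],
    [2, 2, 2, 2, 0],
    [2, 0, 2, 0, 2, 0, 2, 0, 2],
    [2, 0, 3, 0, 2, 2, 0, 2, 0, 2],
    [2, 0, 2, 2, 0, 3],
    [0, 3, 3, 3, 3, 0, 2, 0],
    [3, 3, 3, 3, 3, 3, 0, 2, 0]],
   [[5, 5, 1, 1, 4],
    [2, 0, 5, 0],
    [0, 5, 0, 0],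
    [1, 1, 2, 1],
    [0, 0, 5, 0],
    [1, 1, 2, 0],
    [1, 4, 1],
    [2, 0, 5, 2, 0],
    [1, 4, 2, 1],
    [5, 2, 0, 2, 1],
    [1, 1, 4, 2, 0],
    [5, 2, 1],
    [5, 2, 0, 2, 0],
    [1, 1, 4, 2, 0],
    [5, 2, 1, 2],
    [0, 5, 2, 0],
    [4],
    [5, 0, 2, 0],
    [0, 2],
    [4, 1]],
   [[4, 1, 4, 0],
    [2, 0, 5, 2, 1],
    [4, 4, 4, 2],
    [1, 2, 0, 5],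
    [1, 1, 2],
    [1, 2, 0, 5],
    [5, 5, 1, 4],
    [4, 4, 4, 1, 1],
    [5, 0, 0, 2],
    [5, 5, 0, 2, 1],
    [0, 5, 0, 2, 0],
    [0, 5, 1, 4, 0],
    [5, 0, 0, 2],
    [4, 0, 5, 1],
    [4, 4, 4, 0],
    [2, 1, 4],
    [2, 1, 4, 2, 1],
    [4, 0],
    [5, 1, 2],
    [2, 1, 1, 4, 1]],
   [[],
    [0, 2, 0, 3, 0, 3],
    [2, 0, 2],
    [2, 0, 3, 0, 2, 2, 0, 2, 0, 2, 0],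
    [2, 2, 0, 2, 0, 2, 0, 2, 0],
    [2, 0, 2, 2],
    [3, 0, 2, 0, 3, 0, 2, 0],
    [3, 0, 2, 0, 3, 0, 3],
    [0, 2, 0, 3, 0, 3, 0],
    [3, 3, 0, 3, 3],
    [0, 2, 0, 3, 3, 3, 3, 0, 2, 0, 2, 0],
    [0, 3, 0, 2, 2, 2, 0, 3, 0],
    [2, 2, 2, 0, 3, 0, 2, 2, 0, 2],
    [0],
    [3, 3, 0, 2, 2, 0, 2, 0],
    [2, 0, 3, 3, 3, 3, 0, 2, 0, 2, 0, 2, 0],
    [3, 3, 0, 2, 0, 2, 0, 2, 0, 2],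
    [0, 3, 3, 3, 3, 0, 2, 0],
    [0, 3, 3, 0, 3, 0, 2, 2, 0],
    [3, 0, 2, 0, 3, 0]],
   [[2, 0],
    [3, 0, 3, 0, 2, 2, 0, 2, 2, 0],
    [0, 2, 2, 0, 2, 2, 2, 0],
    [3, 3, 0, 3, 3, 0, 3, 3],
    [2, 2, 2, 2, 2],
    [3, 3, 3, 0, 2, 0, 3, 0],
    [0, 2, 2, 0, 2, 2, 0],
    [3, 0, 3, 3, 0, 3, 0],
    [2, 0, 3, 0, 3, 3, 0, 2],
    [2, 0, 3, 3, 3, 3, 0, 2, 0, 2, 0]],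
   [[3, 3, 3, 0, 2, 2, 2, 0, 3, 0, 2, 0, 2, 2, 0, 2],
    [0, 2, 2, 2, 2, 0, 2, 0, 2, 2, 2, 2],
    [0, 3, 0, 2, 0, 2, 2, 2, 0, 2, 0, 2, 2, 0, 2, 2, 0, 2, 0],
    [3, 0, 3, 0, 3, 3, 3, 0, 3, 0, 3, 0, 3, 0, 2, 0],
    [2, 2, 2, 2, 0, 3, 3, 0, 2, 2, 0],
    [0, 2, 0, 3, 0, 2, 0, 2, 2, 0, 2, 0, 2, 2, 0, 2],
    [3, 0, 2, 2, 2, 2, 0, 3, 0, 2, 2, 0, 2, 0, 2, 0, 2, 0, 2, 0, 2, 0],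
    [0, 2, 0, 2, 2, 2, 0, 2, 0, 2, 0, 2, 0, 2, 0, 2, 2, 0, 2, 0]],
   [[2, 2, 2, 2, 0, 2, 2, 0, 3, 3],
    [2, 2, 0, 2, 0, 2, 0, 2, 0, 3, 0, 3, 0]]]

/-- Witnesses for the representatives. -/
def rhoWit : List (List Nat) :=
  [[],
    [],
    [],
    [4, 3, 0, 3, 0, 3, 4, 0, 2, 0],
    [3, 1, 2, 0, 3, 3, 0, 0],
    [3, 0, 3, 0, 2, 0, 2],
    [0, 2, 1, 3, 0, 0, 0],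
    [4, 0, 5, 1, 1],
    [2, 2, 0, 2, 2, 2, 2, 0, 2, 2]]

end Cfsg.Lib.HN.Top.Data
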