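import Cfsg.Agent.Lib.HN.Top.Data
import Cfsg.Agent.Lib.HN.Top.Sys
import Cfsg.Agent.Lib.HN.Top.Evals
import Cfsg.Agent.Lib.HN.Eval

/-! All checks at one double coset. -/

set_option autoImplicit false

namespace Cfsg.Lib.HN.Top

open Data

/-- The generators of the point stabiliser. -/
abbrev cGens : List (List Nat) := [[1], [4, 1, 0]]

/-- All checks at one double coset. -/
noncomputable def recAllOK (c : Nat) : Bool :=
  recOK sys odata 1408 orders c &&
  factRecOK odata facts factOf c &&
  relAtRep sys odata [3, 3, 3, 3, 3] powWit c &&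
  relAtRep sys odata [4, 3, 0, 3, 3] conjWit c &&
  braidAtRep sys odata cGens ztData ztWit c &&
  moverOK sys odata cGens orbZ (twalk sys.P [2] 0) ztData c

end Cfsg.Lib.HN.Top
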