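import Cfsg.Agent.Lib.HN.Top.Data
import Cfsg.Agent.Lib.HN.Top.Sys
import Cfsg.Agent.Lib.HN.Top.Combined
import Cfsg.Agent.Lib.HN.Eval

/-! Checks on the coset data. -/

set_option autoImplicit false
set_option maxRecDepth 100000
set_option maxHeartbeats 0
set_option Elab.async false

namespace Cfsg.Lib.HN.Top

open Data

theorem rec_ok_0 : recAllOK 0 = true := by decide +kernel

theorem rec_ok_1 : recAllOK 1 = true := by decide +kernel

theorem rec_ok_2 : recAllOK 2 = true := by decide +kernel

theorem rec_ok_3 : recAllOK 3 = true := by decide +kernel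

theorem rec_ok_4 : recAllOK 4 = true := by decide +kernel

theorem rec_ok_5 : recAllOK 5 = true := by decide +kernel

theorem rec_ok_6 : recAllOK 6 = true := by decide +kernel

theorem rec_ok_7 : recAllOK 7 = true := by decide +kernel

theorem rec_ok_8 : recAllOK 8 = true := by decide +kernel

theorem rec_ok_9 : recAllOK 9 = true := by decide +kernel

theorem rec_ok_10 : recAllOK 10 = true := by decide +kernel

theorem rec_ok_11 : recAllOK 11 = true := by decide +kernel

theorem rec_ok_12 : recAllOK 12 = true := by decide +kernel

theorem chunk_ok0 : (List.range 13).all (fun c => recAllOK (0 + c)) = true := by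
  refine List.all_eq_true.2 fun c hc => ?_
  have := List.mem_range.1 hc
  interval_cases c
  · exact rec_ok_0
  · exact rec_ok_1
  · exact rec_ok_2
  · exact rec_ok_3
  · exact rec_ok_4
  · exact rec_ok_5
  · exact rec_ok_6
  · exact rec_ok_7
  · exact rec_ok_8
  · exact rec_ok_9
  · exact rec_ok_10
  · exact rec_ok_11
  · exact rec_ok_12

end Cfsg.Lib.HN.Top
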