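import Cfsg.Agent.Lib.HN.Top.Data
import Cfsg.Agent.Lib.HN.Top.Sys
import Cfsg.Agent.Lib.HN.Top.Combined
import Cfsg.Agent.Lib.HN.Eval

/-! Checks on the coset data. -/

set_option autoImplicit false
set_option maxRecDepth 100000
set_option maxHeartbeats 0
set_option Elab.async false

namespace Cfsg.Lib.HN.Top

open Data

theorem rec_ok_13 : recAllOK 13 = true := by decide +kernel

theorem rec_ok_14 : recAllOK 14 = true := by decide +kernel

theorem rec_ok_15 : recAllOK 15 = true := by decide +kernel

theorem rec_ok_16 : recAllOK 16 = true := by decide +kernel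

theorem rec_ok_17 : recAllOK 17 = true := by decide +kernel

theorem rec_ok_18 : recAllOK 18 = true := by decide +kernel

theorem rec_ok_19 : recAllOK 19 = true := by decide +kernel

theorem rec_ok_20 : recAllOK 20 = true := by decide +kernel

theorem rec_ok_21 : recAllOK 21 = true := by decide +kernel

theorem rec_ok_22 : recAllOK 22 = true := by decide +kernel

theorem rec_ok_23 : recAllOK 23 = true := by decide +kernel

theorem rec_ok_24 : recAllOK 24 = true := by decide +kernel

theorem rec_ok_25 : recAllOK 25 = true := by decide +kernel

theorem chunk_ok1 : (List.range 13).all (fun c => recAllOK (13 + c)) = true := by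
  refine List.all_eq_true.2 fun c hc => ?_
  have := List.mem_range.1 hc
  interval_cases c
  · exact rec_ok_13
  · exact rec_ok_14
  · exact rec_ok_15
  · exact rec_ok_16
  · exact rec_ok_17
  · exact rec_ok_18
  · exact rec_ok_19
  · exact rec_ok_20
  · exact rec_ok_21
  · exact rec_ok_22
  · exact rec_ok_23
  · exact rec_ok_24
  · exact rec_ok_25

end Cfsg.Lib.HN.Top
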