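import Cfsg.Agent.Lib.HN.Top.Data
import Cfsg.Agent.Lib.HN.Top.Sys
import Cfsg.Agent.Lib.HN.Top.Combined
import Cfsg.Agent.Lib.HN.Eval

/-! Checks on the coset data. -/

set_option autoImplicit false
set_option maxRecDepth 100000
set_option maxHeartbeats 0
set_option Elab.async false

namespace Cfsg.Lib.HN.Top

open Data

theorem rec_ok_26 : recAllOK 26 = true := by decide +kernel

theorem rec_ok_27 : recAllOK 27 = true := by decide +kernel

theorem rec_ok_28 : recAllOK 28 = true := by decide +kernel

theorem rec_ok_29 : recAllOK 29 = true := by decide +kernel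

theorem rec_ok_30 : recAllOK 30 = true := by decide +kernel

theorem rec_ok_31 : recAllOK 31 = true := by decide +kernel

theorem rec_ok_32 : recAllOK 32 = true := by decide +kernel

theorem rec_ok_33 : recAllOK 33 = true := by decide +kernel

theorem rec_ok_34 : recAllOK 34 = true := by decide +kernel

theorem rec_ok_35 : recAllOK 35 = true := by decide +kernel

theorem rec_ok_36 : recAllOK 36 = true := by decide +kernel

theorem rec_ok_37 : recAllOK 37 = true := by decide +kernel

theorem rec_ok_38 : recAllOK 38 = true := by decide +kernel

theorem chunk_ok2 : (List.range 13).all (fun c => recAllOK (26 + c)) = true := by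
  refine List.all_eq_true.2 fun c hc => ?_
  have := List.mem_range.1 hc
  interval_cases c
  · exact rec_ok_26
  · exact rec_ok_27
  · exact rec_ok_28
  · exact rec_ok_29
  · exact rec_ok_30
  · exact rec_ok_31
  · exact rec_ok_32
  · exact rec_ok_33
  · exact rec_ok_34
  · exact rec_ok_35
  · exact rec_ok_36
  · exact rec_ok_37
  · exact rec_ok_38

end Cfsg.Lib.HN.Top
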