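import Cfsg.Agent.Lib.HN.Top.Data
import Cfsg.Agent.Lib.HN.Top.Sys
import Cfsg.Agent.Lib.HN.Top.Combined
import Cfsg.Agent.Lib.HN.Eval

/-! Checks on the coset data. -/

set_option autoImplicit false
set_option maxRecDepth 100000
set_option maxHeartbeats 0
set_option Elab.async false

namespace Cfsg.Lib.HN.Top

open Data

theorem rec_ok_39 : recAllOK 39 = true := by decide +kernel

theorem rec_ok_40 : recAllOK 40 = true := by decide +kernel

theorem rec_ok_41 : recAllOK 41 = true := by decide +kernel

theorem rec_ok_42 : recAllOK 42 = true := by decide +kernel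

theorem rec_ok_43 : recAllOK 43 = true := by decide +kernel

theorem rec_ok_44 : recAllOK 44 = true := by decide +kernel

theorem rec_ok_45 : recAllOK 45 = true := by decide +kernel

theorem rec_ok_46 : recAllOK 46 = true := by decide +kernel

theorem rec_ok_47 : recAllOK 47 = true := by decide +kernel

theorem rec_ok_48 : recAllOK 48 = true := by decide +kernel

theorem rec_ok_49 : recAllOK 49 = true := by decide +kernel

theorem rec_ok_50 : recAllOK 50 = true := by decide +kernel

theorem rec_ok_51 : recAllOK 51 = true := by decide +kernel

theorem chunk_ok3 : (List.range 13).all (fun c => recAllOK (39 + c)) = true := by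
  refine List.all_eq_true.2 fun c hc => ?_
  have := List.mem_range.1 hc
  interval_cases c
  · exact rec_ok_39
  · exact rec_ok_40
  · exact rec_ok_41
  · exact rec_ok_42
  · exact rec_ok_43
  · exact rec_ok_44
  · exact rec_ok_45
  · exact rec_ok_46
  · exact rec_ok_47
  · exact rec_ok_48
  · exact rec_ok_49
  · exact rec_ok_50
  · exact rec_ok_51

end Cfsg.Lib.HN.Top
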