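import Cfsg.Agent.Lib.HN.Top.Data
import Cfsg.Agent.Lib.HN.Top.Sys
import Cfsg.Agent.Lib.HN.Top.Combined
import Cfsg.Agent.Lib.HN.Eval

/-! Checks on the coset data. -/

set_option autoImplicit false
set_option maxRecDepth 100000
set_option maxHeartbeats 0
set_option Elab.async false

namespace Cfsg.Lib.HN.Top

open Data

theorem rec_ok_52 : recAllOK 52 = true := by decide +kernel

theorem rec_ok_53 : recAllOK 53 = true := by decide +kernel

theorem rec_ok_54 : recAllOK 54 = true := by decide +kernel

theorem rec_ok_55 : recAllOK 55 = true := by decide +kernel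

theorem rec_ok_56 : recAllOK 56 = true := by decide +kernel

theorem rec_ok_57 : recAllOK 57 = true := by decide +kernel

theorem rec_ok_58 : recAllOK 58 = true := by decide +kernel

theorem rec_ok_59 : recAllOK 59 = true := by decide +kernel

theorem rec_ok_60 : recAllOK 60 = true := by decide +kernel

theorem rec_ok_61 : recAllOK 61 = true := by decide +kernel

theorem rec_ok_62 : recAllOK 62 = true := by decide +kernel

theorem rec_ok_63 : recAllOK 63 = true := by decide +kernel

theorem rec_ok_64 : recAllOK 64 = true := by decide +kernel

theorem chunk_ok4 : (List.range 13).all (fun c => recAllOK (52 + c)) = true := by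
  refine List.all_eq_true.2 fun c hc => ?_
  have := List.mem_range.1 hc
  interval_cases c
  · exact rec_ok_52
  · exact rec_ok_53
  · exact rec_ok_54
  · exact rec_ok_55
  · exact rec_ok_56
  · exact rec_ok_57
  · exact rec_ok_58
  · exact rec_ok_59
  · exact rec_ok_60
  · exact rec_ok_61
  · exact rec_ok_62
  · exact rec_ok_63
  · exact rec_ok_64

end Cfsg.Lib.HN.Top
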