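import Cfsg.Agent.Lib.HN.Top.Data
import Cfsg.Agent.Lib.HN.Top.Sys
import Cfsg.Agent.Lib.HN.Top.Combined
import Cfsg.Agent.Lib.HN.Eval

/-! Checks on the coset data. -/

set_option autoImplicit false
set_option maxRecDepth 100000
set_option maxHeartbeats 0
set_option Elab.async false

namespace Cfsg.Lib.HN.Top

open Data

theorem rec_ok_65 : recAllOK 65 = true := by decide +kernel

theorem rec_ok_66 : recAllOK 66 = true := by decide +kernel

theorem rec_ok_67 : recAllOK 67 = true := by decide +kernel

theorem rec_ok_68 : recAllOK 68 = true := by decide +kernel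

theorem rec_ok_69 : recAllOK 69 = true := by decide +kernel

theorem rec_ok_70 : recAllOK 70 = true := by decide +kernel

theorem rec_ok_71 : recAllOK 71 = true := by decide +kernel

theorem rec_ok_72 : recAllOK 72 = true := by decide +kernel

theorem rec_ok_73 : recAllOK 73 = true := by decide +kernel

theorem rec_ok_74 : recAllOK 74 = true := by decide +kernel

theorem rec_ok_75 : recAllOK 75 = true := by decide +kernel

theorem rec_ok_76 : recAllOK 76 = true := by decide +kernel

theorem rec_ok_77 : recAllOK 77 = true := by decide +kernel

theorem chunk_ok5 : (List.range 13).all (fun c => recAllOK (65 + c)) = true := by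
  refine List.all_eq_true.2 fun c hc => ?_
  have := List.mem_range.1 hc
  interval_cases c
  · exact rec_ok_65
  · exact rec_ok_66
  · exact rec_ok_67
  · exact rec_ok_68
  · exact rec_ok_69
  · exact rec_ok_70
  · exact rec_ok_71
  · exact rec_ok_72
  · exact rec_ok_73
  · exact rec_ok_74
  · exact rec_ok_75
  · exact rec_ok_76
  · exact rec_ok_77

end Cfsg.Lib.HN.Top
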