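import Cfsg.Agent.Lib.HN.Top.Data
import Cfsg.Agent.Lib.HN.Top.Sys
import Cfsg.Agent.Lib.HN.Top.Combined
import Cfsg.Agent.Lib.HN.Eval

/-! Checks on the coset data. -/

set_option autoImplicit false
set_option maxRecDepth 100000
set_option maxHeartbeats 0
set_option Elab.async false

namespace Cfsg.Lib.HN.Top

open Data

theorem rec_ok_78 : recAllOK 78 = true := by decide +kernel

theorem rec_ok_79 : recAllOK 79 = true := by decide +kernel

theorem rec_ok_80 : recAllOK 80 = true := by decide +kernel

theorem rec_ok_81 : recAllOK 81 = true := by decide +kernel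

theorem rec_ok_82 : recAllOK 82 = true := by decide +kernel

theorem rec_ok_83 : recAllOK 83 = true := by decide +kernel

theorem rec_ok_84 : recAllOK 84 = true := by decide +kernel

theorem rec_ok_85 : recAllOK 85 = true := by decide +kernel

theorem rec_ok_86 : recAllOK 86 = true := by decide +kernel

theorem rec_ok_87 : recAllOK 87 = true := by decide +kernel

theorem rec_ok_88 : recAllOK 88 = true := by decide +kernel

theorem rec_ok_89 : recAllOK 89 = true := by decide +kernel

theorem rec_ok_90 : recAllOK 90 = true := by decide +kernel

theorem chunk_ok6 : (List.range 13).all (fun c => recAllOK (78 + c)) = true := by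
  refine List.all_eq_true.2 fun c hc => ?_
  have := List.mem_range.1 hc
  interval_cases c
  · exact rec_ok_78
  · exact rec_ok_79
  · exact rec_ok_80
  · exact rec_ok_81
  · exact rec_ok_82
  · exact rec_ok_83
  · exact rec_ok_84
  · exact rec_ok_85
  · exact rec_ok_86
  · exact rec_ok_87
  · exact rec_ok_88
  · exact rec_ok_89
  · exact rec_ok_90

end Cfsg.Lib.HN.Top
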