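import Cfsg.Agent.Lib.HN.Top.Data
import Cfsg.Agent.Lib.HN.Top.Sys
import Cfsg.Agent.Lib.HN.Top.Combined
import Cfsg.Agent.Lib.HN.Eval

/-! Checks on the coset data. -/

set_option autoImplicit false
set_option maxRecDepth 100000
set_option maxHeartbeats 0
set_option Elab.async false

namespace Cfsg.Lib.HN.Top

open Data

theorem rec_ok_91 : recAllOK 91 = true := by decide +kernel

theorem rec_ok_92 : recAllOK 92 = true := by decide +kernel

theorem rec_ok_93 : recAllOK 93 = true := by decide +kernel

theorem rec_ok_94 : recAllOK 94 = true := by decide +kernel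

theorem rec_ok_95 : recAllOK 95 = true := by decide +kernel

theorem rec_ok_96 : recAllOK 96 = true := by decide +kernel

theorem rec_ok_97 : recAllOK 97 = true := by decide +kernel

theorem rec_ok_98 : recAllOK 98 = true := by decide +kernel

theorem rec_ok_99 : recAllOK 99 = true := by decide +kernel

theorem rec_ok_100 : recAllOK 100 = true := by decide +kernel

theorem chunk_ok7 : (List.range 10).all (fun c => recAllOK (91 + c)) = true := by
  refine List.all_eq_true.2 fun c hc => ?_
  have := List.mem_range.1 hc
  interval_cases c
  · exact rec_ok_91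
  · exact rec_ok_92
  · exact rec_ok_93
  · exact rec_ok_94
  · exact rec_ok_95
  · exact rec_ok_96
  · exact rec_ok_97
  · exact rec_ok_98
  · exact rec_ok_99
  · exact rec_ok_100

end Cfsg.Lib.HN.Top
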