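import Cfsg.Agent.Lib.HN.Defs

/-! Generated certificate. -/

set_option autoImplicit false
set_option maxRecDepth 100000
set_option maxHeartbeats 0
set_option Elab.async false

namespace Cfsg.Lib.HN.Top.Data

open Cfsg.Lib.CosetEnum (Tab)

/-- The words of the point stabiliser chain in the two generators. -/
def cIdx : List (List Nat) :=
  [[0],
    [2],
    [3, 1, 1, 3, 3, 1, 1, 3],
    [1, 3, 1, 1, 2, 2, 0, 0, 0, 3],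
    [1, 3, 1, 2, 1, 3, 0, 0, 0, 2, 2, 0],
    [0, 0, 3, 3, 1, 1, 3, 3, 0, 0]]

/-- The words of the pair stabiliser chain in the two generators. -/
def dIdx : List (List Nat) :=
  [[2, 2, 0, 3, 3, 1, 3, 1, 2, 0, 0, 0],
    [3, 3, 0, 2, 0, 0, 0, 2, 2, 2, 0],
    [3, 0, 0, 2, 2, 0, 3, 1, 2, 2],
    [2, 1, 1, 2, 0]]

/-- Words reaching the orbit of the second point. -/
def orbZPath : List (List Nat) :=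
  [[],
    [0],
    [2],
    [0, 0],
    [2, 0],
    [2, 2],
    [0, 0, 0],
    [2, 0, 0],
    [0, 2, 0],
    [2, 2, 0],
    [0, 2, 2],
    [2, 2, 2],
    [0, 0, 0, 0],
    [2, 0, 0, 0],
    [0, 2, 0, 0],
    [2, 2, 0, 0],
    [0, 0, 2, 2],
    [2, 0, 2, 2],
    [0, 2, 2, 2],
    [2, 2, 2, 2],
    [2, 0, 0, 0, 0],
    [0, 2, 0, 0, 0],
    [2, 2, 0, 0, 0],
    [0, 0, 2, 0, 0],
    [2, 2, 2, 0, 0],
    [0, 0, 0, 2, 2],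
    [0, 2, 0, 2, 2],
    [0, 0, 2, 2, 2],
    [2, 0, 2, 2, 2],
    [0, 0, 2, 0, 0, 0],
    [0, 2, 2, 0, 0, 0],
    [0, 2, 2, 2, 0, 0],
    [2, 0, 0, 0, 2, 2],
    [2, 0, 0, 2, 2, 2],
    [2, 2, 0, 2, 2, 2],
    [0, 0, 0, 2, 0, 0, 0],
    [2, 0, 0, 2, 0, 0, 0],
    [0, 0, 2, 2, 0, 0, 0],
    [0, 0, 2, 2, 2, 0, 0],
    [2, 0, 2, 2, 2, 0, 0],
    [0, 2, 0, 0, 0, 2, 2],
    [0, 2, 0, 0, 2, 2, 2],
    [0, 2, 2, 0, 2, 2, 2],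
    [0, 2, 0, 0, 2, 0, 0, 0],
    [2, 2, 0, 0, 2, 0, 0, 0],
    [2, 0, 2, 2, 0, 2, 2, 2],
    [0, 0, 2, 0, 0, 2, 0, 0, 0],
    [2, 0, 2, 0, 0, 2, 0, 0, 0],
    [0, 2, 2, 0, 0, 2, 0, 0, 0],
    [2, 2, 0, 2, 2, 0, 2, 2, 2]]

/-- The words of the subgroup chains in their generators. -/
def kIdx : List (List (List Nat)) :=
  [[],
   [[0],
    [2],
    [0, 2, 2, 0, 2, 2, 1, 3, 0, 0],
    [0, 2, 0, 0, 3, 1, 2, 1],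
    [1, 3, 3, 1],
    [0, 2, 0, 3, 0, 2, 0, 0, 2, 2, 1, 1]],
   [[0],
    [2],
    [4],
    [5, 0, 4],
    [5, 0, 5, 1, 4, 4, 4, 1, 5, 1],
    [5, 5, 5, 5, 1, 4, 4, 4, 0, 4],
    [4, 0, 4, 1, 5, 5, 5, 1, 5, 1]],
   [[0],
    [2],
    [4],
    [4, 3, 4, 0, 2, 0, 3, 0],
    [2, 4, 0, 2, 0, 2, 0, 4, 0]],
   [[0],
    [2],
    [1, 2, 0, 0, 2, 0],
    [2, 0, 0, 2]],
   [[0],
    [2],
    [2, 2, 2, 0, 3, 0]],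
   [[0],
    [2],
    [3, 0, 2],
    [0],
    [2, 2],
    [2, 1, 2, 0, 3, 0, 2],
    [0, 3, 1, 2, 0, 0, 0]],
   [[0],
    [2],
    [4],
    [2, 0],
    [4, 4, 1, 1]],
   [[0],
    [2],
    [0, 3, 3, 3, 0, 2, 2, 2, 0],
    [2, 2, 0, 2, 0, 3, 0, 2, 2, 2, 2, 0, 3, 3, 0],
    [3, 0, 3, 0, 3, 0, 3, 0, 3, 0, 3, 0, 3, 0, 3, 0, 3, 0, 2],
    [3, 0, 3, 0, 3, 0, 3, 0, 3, 3, 0, 3, 0, 3, 0, 3, 0, 2]]]

end Cfsg.Lib.HN.Top.Data
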