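import Cfsg.Agent.Lib.HN.Top.Sys
import Cfsg.Agent.Lib.HN.Eval

/-! The derivation gives the listed equations. -/

set_option autoImplicit false
set_option maxRecDepth 100000
set_option maxHeartbeats 0

namespace Cfsg.Lib.HN.Top

/-- The derivation gives the lists. -/
noncomputable def runOK : Bool :=
  match runEntries sys entries ([], []) with
  | some (F, P) => eqFacts F facts && eqPairs P pairs
  | none => false

theorem run_ok : runOK = true := by decide +kernel

end Cfsg.Lib.HN.Top
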